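import Groth.Agent.AzInv26.Cong
import Mathlib.LinearAlgebra.Matrix.Notation
import Mathlib.LinearAlgebra.Matrix.Determinant.Basic
import Mathlib.Algebra.Algebra.Basic

/-! Congruence classification of skew hermitian matrices over ramified local rings. -/

namespace Groth.Agent.AzInv26

open Matrix IsLocalRing

universe u

variable {R : Type u} [CommRing R] {lam : R ≃+* R}

theorem cong_perm {ι : Type*} [Fintype ι] [DecidableEq ι] (π : Equiv.Perm ι) (w : Matrix ι ι R) :
    Cong lam w (w.submatrix π π) := by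
  let g : Matrix ι ι R := (1 : Matrix ι ι R).submatrix π id
  have hg : IsUnit g.det := by
    simp only [g, Matrix.det_permute, Matrix.det_one, mul_one]
    exact (Equiv.Perm.sign π).isUnit.map (Int.castRingHom R)
  refine ⟨((Matrix.isUnit_iff_isUnit_det g).2 hg).unit, ?_⟩
  rw [IsUnit.unit_spec]
  ext i j
  simp [g, ct, Matrix.mul_apply, Matrix.one_apply, apply_ite lam]

variable [IsLocalRing R]

theorem Ram.residue_eq_zero_of_skew (h : Ram lam) (h2 : IsUnit (2 : R)) {a : R} (ha : lam a = -a) :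
    residue R a = 0 := by
  have h1 : residue R a = -residue R a := by conv_lhs => rw [← h.residue_eq a, ha, map_neg]
  have h2' : (2 : ResidueField R) ≠ 0 := by
    rw [← map_ofNat (residue R) 2]; exact isUnit_iff_residue.1 h2
  have h3 : (2 : ResidueField R) * residue R a = 0 := by linear_combination h1
  exact (mul_eq_zero.1 h3).resolve_left h2'

theorem cong_two_diag (w : Matrix (Fin 2) (Fin 2) R) (k : R) (hk : IsUnit k) :
    Cong lam w !![w 0 0, w 0 1 * lam k; k * w 1 0, k * w 1 1 * lam k] := by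
  let g : Matrix (Fin 2) (Fin 2) R := !![1, 0; 0, k]
  have hg : IsUnit g.det := by simpa [g, Matrix.det_fin_two] using hk
  refine ⟨((Matrix.isUnit_iff_isUnit_det g).2 hg).unit, ?_⟩
  rw [IsUnit.unit_spec]
  ext i j
  fin_cases i <;> fin_cases j <;>
    simp [g, ct, Matrix.mul_apply, Matrix.vecMul, dotProduct, Fin.sum_univ_two]

theorem cong_two_upper (w : Matrix (Fin 2) (Fin 2) R) (x : R) :
    Cong lam w !![w 0 0 + x * w 1 0 + (w 0 1 + x * w 1 1) * lam x, w 0 1 + x * w 1 1;
      w 1 0 + w 1 1 * lam x, w 1 1] := by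
  let g : Matrix (Fin 2) (Fin 2) R := !![1, x; 0, 1]
  have hg : IsUnit g.det := by simp [g, Matrix.det_fin_two]
  refine ⟨((Matrix.isUnit_iff_isUnit_det g).2 hg).unit, ?_⟩
  rw [IsUnit.unit_spec]
  ext i j
  fin_cases i <;> fin_cases j <;>
    simp [g, ct, Matrix.mul_apply, Matrix.vecMul, dotProduct, Fin.sum_univ_two]

theorem cong_two_lower (w : Matrix (Fin 2) (Fin 2) R) (y : R) :
    Cong lam w !![w 0 0, w 0 0 * lam y + w 0 1;
      y * w 0 0 + w 1 0, (y * w 0 0 + w 1 0) * lam y + (y * w 0 1 + w 1 1)] := by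
  let g : Matrix (Fin 2) (Fin 2) R := !![1, 0; y, 1]
  have hg : IsUnit g.det := by simp [g, Matrix.det_fin_two]
  refine ⟨((Matrix.isUnit_iff_isUnit_det g).2 hg).unit, ?_⟩
  rw [IsUnit.unit_spec]
  ext i j
  fin_cases i <;> fin_cases j <;>
    simp [g, ct, Matrix.mul_apply, Matrix.vecMul, dotProduct, Fin.sum_univ_two]

/-- The standard skew plane. -/
def plane : Matrix (Fin 2) (Fin 2) R := !![0, 1; -1, 0]

theorem Ram.cong_plane (h : Ram lam) (h2 : IsUnit (2 : R)) (w : Matrix (Fin 2) (Fin 2) R)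
    (hw : ct lam w = -w) (hu : IsUnit (w 0 1)) : Cong lam w plane := by
  have hent : ∀ i j, lam (w i j) = -w j i := fun i j => congrFun (congrFun hw j) i
  have norm1 : ∀ (a t c : R), lam a = -a → lam c = -c → IsUnit t →
      ∃ c', lam c' = -c' ∧ Cong lam !![a, t; -lam t, c] !![a, 1; -1, c'] := by
    intro a t c ha hc ht
    have hlt : IsUnit (lam t) := h.isUnit_lam.2 ht
    let k : R := ↑hlt.unit⁻¹
    have hk : k * lam t = 1 := IsUnit.val_inv_mul hlt
    have hk' : t * lam k = 1 := by
      have := congrArg lam hk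
      rw [map_mul, h.invol, map_one] at this
      rw [mul_comm]; exact this
    refine ⟨k * c * lam k, ?_, ?_⟩
    · rw [map_mul, map_mul, h.invol, hc]; ring
    · have := cong_two_diag (lam := lam) !![a, t; -lam t, c] k (Units.isUnit _)
      simp only [Matrix.of_apply, Matrix.cons_val', Matrix.cons_val_zero, Matrix.cons_val_one,
        Matrix.cons_val_fin_one] at this
      rwa [hk', mul_neg, hk] at this
  have hw' : w = !![w 0 0, w 0 1; -lam (w 0 1), w 1 1] := by
    ext i j
    fin_cases i <;> fin_cases j <;> simp [hent]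
  obtain ⟨c, hc, h1⟩ := norm1 (w 0 0) (w 0 1) (w 1 1) (hent 0 0) (hent 1 1) hu
  rw [← hw'] at h1
  set a := w 0 0
  have ha : lam a = -a := hent 0 0
  have hra : residue R a = 0 := h.residue_eq_zero_of_skew h2 ha
  have hrc : residue R c = 0 := h.residue_eq_zero_of_skew h2 hc
  obtain ⟨s, hs, hss, hs1⟩ : ∃ s, lam s = s ∧ s * s = 1 + a * c ∧ residue R s = 1 := by
    obtain ⟨s, hs, hss⟩ := h.sqrt (1 + a * c) (by
      rw [isUnit_iff_residue, map_add, map_one, map_mul, hra, zero_mul, add_zero]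
      exact one_ne_zero) (by rw [map_add, map_one, map_mul, ha, hc, neg_mul_neg])
    have : residue R s * residue R s = 1 := by
      rw [← map_mul, hss, map_add, map_one, map_mul, hra, zero_mul, add_zero]
    rcases mul_self_eq_one_iff.1 this with h | h
    · exact ⟨s, hs, hss, h⟩
    · exact ⟨-s, by rw [map_neg, hs], by rw [neg_mul_neg, hss], by rw [map_neg, h, neg_neg]⟩
  have hs2 : IsUnit (1 + s) := by
    rw [isUnit_iff_residue, map_add, map_one, hs1, one_add_one_eq_two,
      ← map_ofNat (residue R) 2]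
    exact isUnit_iff_residue.1 h2
  obtain ⟨i, hi⟩ := isUnit_iff_exists_inv.1 hs2
  have hli : lam i = i := by
    refine hs2.mul_left_cancel ?_
    rw [hi]
    have := congrArg lam hi
    rwa [map_mul, map_add, map_one, hs] at this
  let x := a * i
  have hx : lam x = -x := by simp [x, ha, hli]
  have hx0 : a + x * (-1) + (1 + x * c) * lam x = 0 := by
    rw [hx]
    linear_combination (a * i ^ 2) * hss - (a + a * i * (s - 1)) * hi
  have hrx : residue R x = 0 := by simp [x, hra]
  have h3 := cong_two_upper (lam := lam) !![a, 1; -1, c] x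
  simp only [Matrix.of_apply, Matrix.cons_val', Matrix.cons_val_zero, Matrix.cons_val_one,
    Matrix.cons_val_fin_one] at h3
  rw [hx0, show -1 + c * lam x = -lam (1 + x * c) by
    rw [hx, map_add, map_one, map_mul, hx, hc]; ring] at h3
  obtain ⟨c', hc', h4⟩ := norm1 0 (1 + x * c) c (by simp) hc (by
    rw [isUnit_iff_residue, map_add, map_one, map_mul, hrx, zero_mul, add_zero]
    exact one_ne_zero)
  obtain ⟨half, hhalf⟩ := isUnit_iff_exists_inv.1 h2
  have hlh : lam half = half := by
    refine h2.mul_left_cancel ?_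
    rw [hhalf]
    have := congrArg lam hhalf
    rwa [map_mul, map_ofNat, map_one] at this
  have h5 := cong_two_lower (lam := lam) !![0, 1; -1, c'] (-(c' * half))
  simp only [Matrix.of_apply, Matrix.cons_val', Matrix.cons_val_zero, Matrix.cons_val_one,
    Matrix.cons_val_fin_one] at h5
  refine (h1.trans h3).trans (h4.trans ?_)
  refine h5.trans ?_
  have e : (-(c' * half)) * 0 + -1 = (-1 : R) := by ring
  have e' : (-(c' * half) * 0 + -1) * lam (-(c' * half)) + (-(c' * half) * 1 + c') = 0 := by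
    rw [e, map_neg, map_mul, hc', hlh]
    linear_combination (-c') * hhalf
  rw [e']
  convert Cong.refl (plane (R := R)) using 1
  ext i j
  fin_cases i <;> fin_cases j <;> simp [plane]

/-- Split off a plane. -/
theorem Ram.skew_pivot (h : Ram lam) (h2 : IsUnit (2 : R)) {m : ℕ}
    (w : Matrix (Fin (2 + m)) (Fin (2 + m)) R) (hw : ct lam w = -w) (hdet : IsUnit w.det) :
    ∃ d : Matrix (Fin m) (Fin m) R, ct lam d = -d ∧ IsUnit d.det ∧
      Cong lam w ((fromBlocks plane 0 0 d).submatrix finSumFinEquiv.symm finSumFinEquiv.symm) := by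
  have hz : 0 < 2 + m := by omega
  let p : Fin (2 + m) := ⟨0, hz⟩
  let o : Fin (2 + m) := ⟨1, by omega⟩
  obtain ⟨q, hq⟩ := exists_unit_entry hdet p
  have hpq : q ≠ p := by
    rintro rfl
    exact isUnit_iff_residue.1 hq (h.residue_eq_zero_of_skew h2 (congrFun (congrFun hw p) p))
  let π : Equiv.Perm (Fin (2 + m)) := Equiv.swap o q
  have hop : p ≠ o := by simp [p, o]
  let w₁ := w.submatrix π π
  have hc₁ : Cong lam w w₁ := cong_perm π w
  have hw₁ : ct lam w₁ = -w₁ := by
    ext i j
    simpa [w₁, ct] using congrFun (congrFun hw (π i)) (π j)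
  have hdet₁ : IsUnit w₁.det := by rwa [Matrix.det_submatrix_equiv_self]
  have hent₁ : IsUnit (w₁ p o) := by
    simp only [w₁, Matrix.submatrix_apply, π, Equiv.swap_apply_left,
      Equiv.swap_apply_of_ne_of_ne hop (Ne.symm hpq)]
    exact hq
  let σ : Fin 2 ⊕ Fin m ≃ Fin (2 + m) := finSumFinEquiv
  let W := w₁.submatrix σ σ
  have hW : W = fromBlocks W.toBlocks₁₁ W.toBlocks₁₂ W.toBlocks₂₁ W.toBlocks₂₂ :=
    (fromBlocks_toBlocks W).symm
  have hWs : ct lam W = -W := by
    ext i j
    simpa [W, ct] using congrFun (congrFun hw₁ (σ i)) (σ j)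
  have hsk : ∀ i j, lam (W i j) = -W j i := fun i j => congrFun (congrFun hWs j) i
  have ha : ct lam W.toBlocks₁₁ = -W.toBlocks₁₁ := by
    ext i j; simp [ct, Matrix.toBlocks₁₁, hsk]
  have hd : ct lam W.toBlocks₂₂ = -W.toBlocks₂₂ := by
    ext i j; simp [ct, Matrix.toBlocks₂₂, hsk]
  have hb : W.toBlocks₂₁ = -ct lam W.toBlocks₁₂ := by
    ext i j; simp [ct, Matrix.toBlocks₁₂, Matrix.toBlocks₂₁, hsk]
  have h01 : IsUnit (W.toBlocks₁₁ 0 1) := by
    have e0 : σ (Sum.inl 0) = p := by ext; simp [σ, p]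
    have e1 : σ (Sum.inl 1) = o := by ext; simp [σ, o]
    simpa [W, Matrix.toBlocks₁₁, e0, e1] using hent₁
  have hcp := h.cong_plane h2 _ ha h01
  have hadet : IsUnit W.toBlocks₁₁.det := hcp.symm.isUnit_det (by simp [plane, Matrix.det_fin_two])
  have hainv : ct lam W.toBlocks₁₁⁻¹ = -W.toBlocks₁₁⁻¹ := by
    have h1 : W.toBlocks₁₁ * (-ct lam W.toBlocks₁₁⁻¹) = 1 := by
      rw [Matrix.mul_neg, ← Matrix.neg_mul, ← ha, ← ct_mul, Matrix.nonsing_inv_mul _ hadet, ct_one]
    rw [Matrix.inv_eq_right_inv h1, neg_neg]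
    exact congrArg (ct lam) (Matrix.inv_eq_right_inv h1).symm
  have hsym : ct lam (W.toBlocks₂₁ * W.toBlocks₁₁⁻¹) = W.toBlocks₁₁⁻¹ * W.toBlocks₁₂ := by
    rw [ct_mul, hainv, hb, ct_neg, ct_ct h.invol, Matrix.mul_neg, Matrix.neg_mul, neg_neg]
  have hcs := cong_schur h.invol _ _ _ W.toBlocks₂₂ hadet hsym
  rw [← hW] at hcs
  let d := W.toBlocks₂₂ - W.toBlocks₂₁ * W.toBlocks₁₁⁻¹ * W.toBlocks₁₂
  refine ⟨d, ?_, ?_, ?_⟩
  · have e : ct lam (W.toBlocks₂₁ * W.toBlocks₁₁⁻¹ * W.toBlocks₁₂) =
        -(W.toBlocks₂₁ * W.toBlocks₁₁⁻¹ * W.toBlocks₁₂) := by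
      rw [ct_mul, hsym, hb]
      simp [Matrix.mul_assoc]
    ext i j
    have e1 := congrFun (congrFun hd i) j
    have e2 := congrFun (congrFun e i) j
    simp only [ct, Matrix.transpose_apply, Matrix.map_apply, Matrix.neg_apply] at e1 e2
    simp only [ct, Matrix.transpose_apply, Matrix.map_apply, d, Matrix.sub_apply, map_sub, e1, e2,
      Matrix.neg_apply]
    ring
  · have := hcs.isUnit_det (by rwa [Matrix.det_submatrix_equiv_self])
    rw [Matrix.det_fromBlocks_zero₂₁] at this
    exact isUnit_of_mul_isUnit_right this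
  · refine hc₁.trans (Cong.of_submatrix σ ?_)
    have e : ((fromBlocks plane 0 0 d).submatrix finSumFinEquiv.symm finSumFinEquiv.symm).submatrix σ σ =
        fromBlocks plane 0 0 d := by
      ext i j; simp [σ]
    rw [e]
    exact hcs.trans (cong_blocks hcp (Cong.refl d))

/-- Skew hermitian invertible matrices: even size, all congruent. -/
theorem Ram.skew_classify (h : Ram lam) (h2 : IsUnit (2 : R)) :
    ∀ {n : ℕ} (w : Matrix (Fin n) (Fin n) R), ct lam w = -w → IsUnit w.det →
      Even n ∧ ∀ w' : Matrix (Fin n) (Fin n) R, ct lam w' = -w' → IsUnit w'.det → Cong lam w w' := by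
  intro n
  induction n using Nat.strong_induction_on with
  | _ n ih =>
    intro w hw hdet
    match n, ih, w, hw, hdet with
    | 0, _, w, _, _ =>
      exact ⟨Even.zero, fun w' _ _ => (Subsingleton.elim w w') ▸ Cong.refl w⟩
    | 1, _, w, hw, hdet =>
      exfalso
      rw [Matrix.det_fin_one] at hdet
      exact isUnit_iff_residue.1 hdet (h.residue_eq_zero_of_skew h2 (congrFun (congrFun hw 0) 0))
    | m + 2, ih, w, hw, hdet =>
      have em : m + 2 = 2 + m := by omega
      let c : Fin (2 + m) ≃ Fin (m + 2) := finCongr em.symm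
      have key : ∀ v : Matrix (Fin (m + 2)) (Fin (m + 2)) R, ct lam v = -v → IsUnit v.det →
          ∃ d : Matrix (Fin m) (Fin m) R, ct lam d = -d ∧ IsUnit d.det ∧
            Cong lam (v.submatrix c c)
              ((fromBlocks plane 0 0 d).submatrix finSumFinEquiv.symm finSumFinEquiv.symm) := by
        intro v hv hvd
        refine h.skew_pivot h2 _ ?_ (by rwa [Matrix.det_submatrix_equiv_self])
        ext i j
        simpa [ct] using congrFun (congrFun hv (c i)) (c j)
      obtain ⟨d, hd, hdd, hc⟩ := key w hw hdet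
      obtain ⟨hm, hall⟩ := ih m (by omega) d hd hdd
      refine ⟨hm.add even_two, fun w' hw' hdet' => ?_⟩
      obtain ⟨d', hd', hdd', hc'⟩ := key w' hw' hdet'
      refine Cong.of_submatrix c (hc.trans (Cong.trans ?_ hc'.symm))
      refine Cong.of_submatrix finSumFinEquiv ?_
      have e : ∀ d : Matrix (Fin m) (Fin m) R,
          ((fromBlocks plane 0 0 d).submatrix finSumFinEquiv.symm finSumFinEquiv.symm).submatrix
            finSumFinEquiv finSumFinEquiv = fromBlocks plane 0 0 d := by
        intro d; ext i j; simp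
      rw [e, e]
      exact cong_blocks (Cong.refl _) (hall d' hd' hdd')

end Groth.Agent.AzInv26
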