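import Groth.Agent.AzInv26.Iso
import Groth.Agent.AzInv26.Skew
import Groth.Agent.Azu26.Semilocal
import Groth.Prelude.Def_W4c2azumayainvolQEt
import Mathlib.RingTheory.Henselian
import Mathlib.FieldTheory.IsSepClosed
import Mathlib.RingTheory.IntegralClosure.IsIntegral.Basic
import Mathlib.RingTheory.Ideal.GoingUp

/-! Normal forms of involutions on matrix algebras over rings with involution. -/

namespace Groth.Agent.AzInv26

open Matrix AzInv
open scoped Polynomial

universe u v

section

variable {R : Type v} [CommRing R] {lam : R ≃+* R}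

/-- The transpose model. -/
def tr (hlam : ∀ r, lam (lam r) = r) (n : ℕ) : LamInv R (Matrix (Fin n) (Fin n) R) lam :=
  LamInv.transpose lam (Fin n) hlam

theorem tr_eq (hlam : ∀ r, lam (lam r) = r) (n : ℕ) (M : Matrix (Fin n) (Fin n) R) :
    tr hlam n M = ct lam M := rfl

/-- Every involution on a matrix algebra over a semilocal ring is a twisted transpose. -/
theorem exists_conj [Finite (MaximalSpectrum R)] [Nontrivial R] (hlam : ∀ r, lam (lam r) = r)
    {n : ℕ} (hn : 0 < n) (t : LamInv R (Matrix (Fin n) (Fin n) R) lam) :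
    ∃ (w : (Matrix (Fin n) (Fin n) R)ˣ) (e : R) (hw : tr hlam n (w : Matrix (Fin n) (Fin n) R) = e • (w : Matrix (Fin n) (Fin n) R))
      (he : lam e * e = 1), t = (tr hlam n).conj w e hw he := by
  let ψ₀ : Matrix (Fin n) (Fin n) R →ₐ[R] Matrix (Fin n) (Fin n) R :=
    { toFun := fun x => t (tr hlam n x)
      map_one' := by rw [LamInv.map_one, LamInv.map_one]
      map_mul' := fun x y => by rw [LamInv.map_mul, LamInv.map_mul]
      map_zero' := by rw [LamInv.map_zero, LamInv.map_zero]
      map_add' := fun x y => by rw [LamInv.map_add, LamInv.map_add]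
      commutes' := fun r => by rw [LamInv.map_algebraMap, LamInv.map_algebraMap, hlam] }
  have hbij : Function.Bijective ψ₀ :=
    show Function.Bijective (fun x => t (tr hlam n x)) from
      (Function.Bijective.comp ⟨t.injective, t.surjective⟩ ⟨(tr hlam n).injective, (tr hlam n).surjective⟩)
  obtain ⟨w, hw⟩ := Azu26.exists_unit_conj_matrix (AlgEquiv.ofBijective ψ₀ hbij)
  have ht : ∀ x, t x = (w : Matrix (Fin n) (Fin n) R) * ct lam x * (↑w⁻¹ : Matrix (Fin n) (Fin n) R) := by
    intro x
    have := hw (ct lam x)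
    change t (tr hlam n (ct lam x)) = _ at this
    rwa [tr_eq, ct_ct hlam] at this
  have hlw : ct lam (↑w⁻¹ : Matrix (Fin n) (Fin n) R) * ct lam (w : Matrix (Fin n) (Fin n) R) = 1 := by
    rw [← ct_mul, Units.mul_inv, ct_one]
  let z : Matrix (Fin n) (Fin n) R := ct lam (↑w : Matrix (Fin n) (Fin n) R) * (↑w⁻¹ : Matrix (Fin n) (Fin n) R)
  have hlw' : ct lam (w : Matrix (Fin n) (Fin n) R) * ct lam (↑w⁻¹ : Matrix (Fin n) (Fin n) R) = 1 := by
    rw [← ct_mul, Units.inv_mul, ct_one]
  have hz : ∀ x, x * z = z * x := by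
    intro x
    have h1 := t.invol x
    rw [ht, ht, ct_mul, ct_mul, ct_ct hlam] at h1
    set W : Matrix (Fin n) (Fin n) R := ↑w
    set W' : Matrix (Fin n) (Fin n) R := ↑w⁻¹
    have hWW : W' * W = 1 := Units.inv_mul w
    calc x * z = (W * (ct lam W' * (x * ct lam W)) * W') * z := by rw [h1]
      _ = W * ct lam W' * x * ct lam W * (W' * (ct lam W * W')) := by
        simp only [z, mul_assoc]; rfl
      _ = _ := by
        have e1 : ct lam W * W' * (W * (ct lam W' * (x * ct lam W)) * W') =
            ct lam W * ((W' * W) * (ct lam W' * (x * ct lam W))) * W' := by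
          simp only [mul_assoc]
        have h2 : z * x = x * ct lam W * W' := by
          calc z * x = ct lam W * W' * (W * (ct lam W' * (x * ct lam W)) * W') := by rw [h1]
            _ = (ct lam W * ct lam W') * (x * ct lam W) * W' := by
              rw [e1, hWW, one_mul]; simp only [mul_assoc]
            _ = x * ct lam W * W' := by rw [hlw', one_mul]
        have h3 : W * ct lam W' * x * ct lam W * W' = x := by
          simpa only [mul_assoc] using h1
        rw [h2]
        calc W * ct lam W' * x * ct lam W * (W' * (ct lam W * W'))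
            = (W * ct lam W' * x * ct lam W * W') * (ct lam W * W') := by simp only [mul_assoc]
          _ = _ := by rw [h3, mul_assoc]
  obtain ⟨e, he⟩ := Matrix.mem_range_scalar_of_commute_single (M := z)
    (fun i j _ => (hz (Matrix.single i j 1)))
  have hew : ct lam (w : Matrix (Fin n) (Fin n) R) = e • (w : Matrix (Fin n) (Fin n) R) := by
    calc ct lam (w : Matrix (Fin n) (Fin n) R) = z * w := by
          simp only [z, mul_assoc, Units.inv_mul, mul_one]
      _ = _ := by rw [← he, Matrix.smul_eq_diagonal_mul]; rfl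
  have hee : lam e * e = 1 := by
    have h1 := congrArg (ct lam) hew
    rw [ct_ct hlam, ct_smul, hew, smul_smul] at h1
    have h2 := congrArg (fun M => M * (↑w⁻¹ : Matrix (Fin n) (Fin n) R)) h1
    simp only [Units.mul_inv, smul_mul_assoc] at h2
    have := congrFun (congrFun h2 ⟨0, hn⟩) ⟨0, hn⟩
    simpa using this.symm
  exact ⟨w, e, hew, hee, LamInv.ext fun x => ht x⟩

theorem isoInv_of_cong (hlam : ∀ r, lam (lam r) = r) {n : ℕ} (w w' : (Matrix (Fin n) (Fin n) R)ˣ)
    (e e' : R) (hw : tr hlam n (w : Matrix (Fin n) (Fin n) R) = e • (w : Matrix (Fin n) (Fin n) R))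
    (he : lam e * e = 1)
    (hw' : tr hlam n (w' : Matrix (Fin n) (Fin n) R) = e' • (w' : Matrix (Fin n) (Fin n) R))
    (he' : lam e' * e' = 1) (c : Rˣ)
    (h : Cong lam ((c : R) • (w : Matrix (Fin n) (Fin n) R)) (w' : Matrix (Fin n) (Fin n) R)) :
    IsoInv ((tr hlam n).conj w e hw he) ((tr hlam n).conj w' e' hw' he') := by
  obtain ⟨g, hg⟩ := h
  let f : Matrix (Fin n) (Fin n) R ≃ₐ[R] Matrix (Fin n) (Fin n) R :=
    { toFun := fun x => (g : Matrix (Fin n) (Fin n) R) * x * (↑g⁻¹ : Matrix (Fin n) (Fin n) R)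
      invFun := fun x => (↑g⁻¹ : Matrix (Fin n) (Fin n) R) * x * (g : Matrix (Fin n) (Fin n) R)
      left_inv := fun x => by simp [mul_assoc]
      right_inv := fun x => by simp [mul_assoc]
      map_mul' := fun x y => by simp [mul_assoc]
      map_add' := fun x y => by simp [mul_add, add_mul]
      commutes' := fun r => by
        rw [← Algebra.commutes r (g : Matrix (Fin n) (Fin n) R), mul_assoc, Units.mul_inv, mul_one] }
  refine ⟨f, fun x => ?_⟩
  change (g : Matrix (Fin n) (Fin n) R) * ((w : Matrix (Fin n) (Fin n) R) * ct lam x * (↑w⁻¹ : Matrix (Fin n) (Fin n) R)) * (↑g⁻¹ : Matrix (Fin n) (Fin n) R) =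
    (w' : Matrix (Fin n) (Fin n) R) * ct lam ((g : Matrix (Fin n) (Fin n) R) * x * (↑g⁻¹ : Matrix (Fin n) (Fin n) R)) * (↑w'⁻¹ : Matrix (Fin n) (Fin n) R)
  apply w'.isUnit.mul_right_cancel
  conv_rhs => rw [mul_assoc, Units.inv_mul, mul_one]
  rw [ct_mul, ct_mul, ← hg]
  simp only [mul_assoc, Matrix.smul_mul, Matrix.mul_smul, Units.inv_mul_cancel_left]
  rw [← mul_assoc (ct lam (g : Matrix (Fin n) (Fin n) R)) (ct lam (↑g⁻¹ : Matrix (Fin n) (Fin n) R)),
    ← ct_mul (↑g⁻¹ : Matrix (Fin n) (Fin n) R) (g : Matrix (Fin n) (Fin n) R), Units.inv_mul, ct_one,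
    one_mul]

theorem one_symm (hlam : ∀ r, lam (lam r) = r) (n : ℕ) :
    tr hlam n ((1 : (Matrix (Fin n) (Fin n) R)ˣ) : Matrix (Fin n) (Fin n) R) =
      (1 : R) • ((1 : (Matrix (Fin n) (Fin n) R)ˣ) : Matrix (Fin n) (Fin n) R) := by
  rw [Units.val_one, one_smul, tr_eq, ct_one]

theorem isoInv_tr_of_cong_one (hlam : ∀ r, lam (lam r) = r) {n : ℕ}
    (w : (Matrix (Fin n) (Fin n) R)ˣ)
    (e : R) (hw : tr hlam n (w : Matrix (Fin n) (Fin n) R) = e • (w : Matrix (Fin n) (Fin n) R))
    (he : lam e * e = 1) (c : Rˣ)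
    (h : Cong lam ((c : R) • (w : Matrix (Fin n) (Fin n) R)) 1) :
    IsoInv ((tr hlam n).conj w e hw he) (tr hlam n) := by
  refine (isoInv_of_cong hlam w 1 e 1 hw he (one_symm hlam n) (by simp) c h).trans ⟨AlgEquiv.refl, fun x => ?_⟩
  simp [LamInv.conj_apply]

theorem ct_scale {n : ℕ} (w : Matrix (Fin n) (Fin n) R) (e ε c : R) (hw : ct lam w = e • w)
    (hc : lam c * e = ε * c) : ct lam (c • w) = ε • (c • w) := by
  rw [ct_smul, hw, smul_smul, smul_smul, hc]

/-- The split (unramified) case. -/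
theorem isoInv_tr_of_idem [Finite (MaximalSpectrum R)] [Nontrivial R]
    (hlam : ∀ r, lam (lam r) = r) {n : ℕ} (hn : 0 < n)
    (t : LamInv R (Matrix (Fin n) (Fin n) R) lam) (ε : R) (hε : ε * ε = ε) (hsum : ε + lam ε = 1) :
    IsoInv t (tr hlam n) := by
  obtain ⟨w, e, hw, he, rfl⟩ := exists_conj hlam hn t
  have hlε : lam ε = 1 - ε := eq_sub_of_add_eq' hsum
  have hc : IsUnit (ε * e + (1 - ε)) :=
    IsUnit.of_mul_eq_one (ε * lam e + (1 - ε))
      (by linear_combination (ε * ε) * he + (2 - ε * 0 - e - lam e) * hε)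
  have hct : lam (ε * e + (1 - ε)) * e = 1 * (ε * e + (1 - ε)) := by
    rw [map_add, map_mul, map_sub, map_one, hlε]
    linear_combination (1 - ε) * he
  have hw' := ct_scale (w : Matrix (Fin n) (Fin n) R) e 1 _ hw hct
  rw [one_smul] at hw'
  set W : Matrix (Fin n) (Fin n) R := (ε * e + (1 - ε)) • (w : Matrix (Fin n) (Fin n) R) with hW
  let g : Matrix (Fin n) (Fin n) R := ε • W + (1 - ε) • 1
  have hWu : IsUnit W := by
    rw [hW, Matrix.isUnit_iff_isUnit_det, Matrix.det_smul]
    exact (hc.pow _).mul ((Matrix.isUnit_iff_isUnit_det _).1 w.isUnit)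
  obtain ⟨Wu, hWu⟩ := hWu
  have hgW : g * ct lam g = W := by
    simp only [g, show ct lam (ε • W + (1 - ε) • (1 : Matrix (Fin n) (Fin n) R)) =
        (1 - ε) • W + ε • 1 by
      ext i j
      have := congrFun (congrFun hw' i) j
      simp only [ct, Matrix.transpose_apply, Matrix.map_apply] at this
      simp only [ct, Matrix.transpose_apply, Matrix.map_apply, Matrix.add_apply, Matrix.smul_apply,
        smul_eq_mul, map_add, map_mul, map_sub, map_one, hlε, this, Matrix.one_apply,
        apply_ite lam, map_zero, sub_sub_cancel]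
      by_cases h : i = j
      · simp [h]
      · simp [h, Ne.symm h]]
    simp only [add_mul, mul_add, Matrix.smul_mul, Matrix.mul_smul, Matrix.mul_one, Matrix.one_mul,
      smul_smul]
    have h0 : ε * (1 - ε) = 0 := by linear_combination (-1 : R) * hε
    have h1 : (1 - ε) * (1 - ε) = 1 - ε := by linear_combination hε
    rw [mul_comm (1 - ε) ε, h0, h1, hε, zero_smul, zero_smul, zero_add, add_zero, ← add_smul]
    simp
  have hg : IsUnit g := by
    let g' : Matrix (Fin n) (Fin n) R := ε • (↑Wu⁻¹ : Matrix (Fin n) (Fin n) R) + (1 - ε) • 1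
    have key : ∀ X Y : Matrix (Fin n) (Fin n) R, X * Y = 1 →
        (ε • X + (1 - ε) • 1) * (ε • Y + (1 - ε) • 1) = 1 := by
      intro X Y hXY
      simp only [add_mul, mul_add, Matrix.smul_mul, Matrix.mul_smul, Matrix.mul_one, Matrix.one_mul,
        smul_smul, hXY]
      have h0 : ε * (1 - ε) = 0 := by linear_combination (-1 : R) * hε
      have h1 : (1 - ε) * (1 - ε) = 1 - ε := by linear_combination hε
      rw [mul_comm (1 - ε) ε, h0, h1, hε, zero_smul, zero_smul, add_zero, zero_add, ← add_smul]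
      simp
    refine ⟨⟨g, g', ?_, ?_⟩, rfl⟩
    · refine key _ _ ?_; rw [← hWu]; exact Units.mul_inv Wu
    · refine key _ _ ?_; rw [← hWu]; exact Units.inv_mul Wu
  refine isoInv_tr_of_cong_one hlam w e hw he hc.unit ?_
  rw [IsUnit.unit_spec, ← hW]
  exact Cong.symm ⟨hg.unit, by rw [IsUnit.unit_spec, mul_one, hgW]⟩

end

section RamifiedCase

open IsLocalRing

variable {R : Type v} [CommRing R] [IsLocalRing R] {lam : R ≃+* R}

instance finite_maximalSpectrum_local : Finite (MaximalSpectrum R) :=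
  Finite.of_surjective (fun _ : Unit => (⟨maximalIdeal R, inferInstance⟩ : MaximalSpectrum R))
    fun m => ⟨(), MaximalSpectrum.ext (eq_maximalIdeal m.isMaximal).symm⟩

/-- The ramified case. -/
theorem Ram.normal_form (h : Ram lam) {n : ℕ} (hn : 0 < n) (hc : IsUnit (2 : R) ∨ Odd n)
    (t : LamInv R (Matrix (Fin n) (Fin n) R) lam) :
    IsoInv t (tr h.invol n) ∨
      (IsUnit (2 : R) ∧ Even n ∧ ∀ (w₀ : (Matrix (Fin n) (Fin n) R)ˣ)
        (hw₀ : tr h.invol n (w₀ : Matrix (Fin n) (Fin n) R) = (-1 : R) • (w₀ : Matrix (Fin n) (Fin n) R))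
        (he₀ : lam (-1) * (-1) = 1), IsoInv t ((tr h.invol n).conj w₀ (-1) hw₀ he₀)) := by
  obtain ⟨w, e, hw, he, rfl⟩ := exists_conj h.invol hn t
  have hwdet : IsUnit (w : Matrix (Fin n) (Fin n) R).det :=
    (Matrix.isUnit_iff_isUnit_det _).1 w.isUnit
  have main : ∀ c : Rˣ, lam (c : R) * e = c → IsoInv ((tr h.invol n).conj w e hw he) (tr h.invol n) := by
    intro c hce
    refine isoInv_tr_of_cong_one h.invol w e hw he c (h.cong_one_of _ ?_ ?_ hc)
    · simpa using ct_scale (w : Matrix (Fin n) (Fin n) R) e 1 (c : R) hw (by rw [one_mul, hce])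
    · rw [Matrix.det_smul]; exact (c.isUnit.pow _).mul hwdet
  rcases Nat.even_or_odd n with heven | hodd
  swap
  · obtain ⟨k, hk⟩ := hodd
    left
    have hd : lam (w : Matrix (Fin n) (Fin n) R).det = e ^ n * (w : Matrix (Fin n) (Fin n) R).det := by
      have := congrArg Matrix.det (show ct lam (w : Matrix (Fin n) (Fin n) R) = e • (w : Matrix (Fin n) (Fin n) R) from hw)
      rw [ct, Matrix.det_transpose, Matrix.det_smul, Fintype.card_fin] at this
      rw [← this, RingEquiv.map_det, RingEquiv.mapMatrix_apply]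
    have heu : IsUnit e := IsUnit.of_mul_eq_one _ (by rw [mul_comm, he])
    refine main ((hwdet.mul (heu.pow (k + 1))).unit) ?_
    rw [IsUnit.unit_spec, map_mul, hd, map_pow, show e ^ n = e ^ (2 * k + 1) from congrArg (e ^ ·) hk]
    calc e ^ (2 * k + 1) * (w : Matrix (Fin n) (Fin n) R).det * lam e ^ (k + 1) * e
        = (w : Matrix (Fin n) (Fin n) R).det * e ^ (k + 1) * (lam e * e) ^ (k + 1) := by ring
      _ = _ := by rw [he, one_pow, mul_one]
  have h2 : IsUnit (2 : R) := hc.resolve_right (Nat.not_odd_iff_even.2 heven)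
  have hre : residue R e * residue R e = 1 := by
    conv_lhs => arg 1; rw [← h.residue_eq e]
    rw [← map_mul, he, map_one]
  have hr2 : (2 : ResidueField R) ≠ 0 := by
    rw [← map_ofNat (residue R) 2]; exact isUnit_iff_residue.1 h2
  rcases mul_self_eq_one_iff.1 hre with hp | hm
  · left
    have hu : IsUnit (1 + e) := by
      rw [isUnit_iff_residue, map_add, map_one, hp, one_add_one_eq_two]; exact hr2
    refine main hu.unit ?_
    rw [IsUnit.unit_spec, map_add, map_one, add_mul, he, one_mul, add_comm]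
  · right
    refine ⟨h2, heven, fun w₀ hw₀ he₀ => ?_⟩
    have hu : IsUnit (e - 1) := by
      rw [isUnit_iff_residue, map_sub, hm, map_one,
        show (-1 : ResidueField R) - 1 = -2 by ring]
      exact neg_ne_zero.2 hr2
    refine isoInv_of_cong h.invol w w₀ e (-1) hw he hw₀ he₀ hu.unit ?_
    rw [IsUnit.unit_spec]
    refine (h.skew_classify h2 _ ?_ ?_).2 _ ?_ ((Matrix.isUnit_iff_isUnit_det _).1 w₀.isUnit)
    · simpa using ct_scale (w : Matrix (Fin n) (Fin n) R) e (-1) (e - 1) hw
        (by rw [map_sub, map_one, sub_mul, he]; ring)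
    · rw [Matrix.det_smul]; exact (hu.pow _).mul hwdet
    · simpa [tr_eq] using hw₀

end RamifiedCase

section Pair

open IsLocalRing

variable {H : Type u} [CommRing H] [HenselianLocalRing H] [IsSepClosed (ResidueField H)]
variable {R : Type v} [CommRing R] [Algebra H R] {lam : R ≃+* R}

/-- A ring with involution over its fixed strictly henselian ring with square roots. -/
structure Pair (H : Type u) [CommRing H] (R : Type v) [CommRing R] [Algebra H R] (lam : R ≃+* R) :
    Prop where
  invol : ∀ r, lam (lam r) = r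
  fix : RInv.IsFixedRing H R lam
  sqrt : ∀ x : H, IsUnit x → ∃ y, y * y = x

theorem Pair.exists_eq (h : Pair H R lam) {r : R} (hr : lam r = r) : ∃ x, algebraMap H R x = r :=
  (h.fix.2 r).1 hr

theorem Pair.lam_algebraMap (h : Pair H R lam) (x : H) : lam (algebraMap H R x) = algebraMap H R x :=
  (h.fix.2 _).2 ⟨x, rfl⟩

omit [HenselianLocalRing H] [IsSepClosed (ResidueField H)] in
theorem isIntegral_of_fixed (invol : ∀ r, lam (lam r) = r) (fix : RInv.IsFixedRing H R lam) :
    Algebra.IsIntegral H R := by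
  refine ⟨fun r => ?_⟩
  obtain ⟨s, hs⟩ := (fix.2 (r + lam r)).1 (by rw [map_add, invol, add_comm])
  obtain ⟨p, hp⟩ := (fix.2 (r * lam r)).1 (by rw [map_mul, invol, mul_comm])
  refine ⟨Polynomial.X ^ 2 - Polynomial.C s * Polynomial.X + Polynomial.C p, by monicity!, ?_⟩
  simp [hs, hp]
  ring

theorem Pair.isIntegral (h : Pair H R lam) : Algebra.IsIntegral H R :=
  isIntegral_of_fixed h.invol h.fix

theorem Pair.nontrivial (h : Pair H R lam) : Nontrivial R :=
  h.fix.1.nontrivial

theorem Pair.comap_max (h : Pair H R lam) (q : MaximalSpectrum R) :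
    q.asIdeal.comap (algebraMap H R) = maximalIdeal H :=
  haveI := h.isIntegral
  eq_maximalIdeal (Ideal.isMaximal_comap_of_isIntegral_of_isMaximal (I := q.asIdeal))

theorem Pair.max_eq_or (h : Pair H R lam) (q q' : MaximalSpectrum R) :
    q' = q ∨ q'.asIdeal = q.asIdeal.comap lam.toRingHom := by
  have hsub : (q'.asIdeal : Set R) ⊆
      (q.asIdeal : Set R) ∪ (q.asIdeal.comap lam.toRingHom : Set R) := by
    intro x hx
    obtain ⟨p, hp⟩ := h.exists_eq (r := x * lam x) (by rw [map_mul, h.invol, mul_comm])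
    have hm : p ∈ maximalIdeal H := by
      rw [← h.comap_max q', Ideal.mem_comap, hp]
      exact q'.asIdeal.mul_mem_right _ hx
    rw [← h.comap_max q, Ideal.mem_comap, hp] at hm
    exact (q.isMaximal.isPrime.mem_or_mem hm).imp id id
  rcases Ideal.subset_union.1 hsub with h1 | h1
  · exact Or.inl (MaximalSpectrum.ext (q'.isMaximal.eq_of_le q.isMaximal.ne_top h1))
  · exact Or.inr (q'.isMaximal.eq_of_le
      (Ideal.comap_ne_top _ q.isMaximal.ne_top) h1)

theorem Pair.finite_max (h : Pair H R lam) : Finite (MaximalSpectrum R) := by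
  haveI := h.nontrivial
  obtain ⟨q, hq⟩ := Ideal.exists_maximal R
  haveI : (q.comap lam.toRingHom).IsMaximal :=
    Ideal.comap_isMaximal_of_surjective _ lam.surjective
  refine Finite.of_surjective (fun b : Bool => if b then (⟨q, hq⟩ : MaximalSpectrum R) else
    ⟨q.comap lam.toRingHom, inferInstance⟩) fun m => ?_
  rcases h.max_eq_or ⟨q, hq⟩ m with h1 | h1
  · exact ⟨true, h1.symm⟩
  · exact ⟨false, MaximalSpectrum.ext h1.symm⟩

/-- An idempotent splitting the unramified case. -/
theorem Pair.exists_idem (h : Pair H R lam) (r : R) (hr : IsUnit (r - lam r)) :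
    ∃ ε : R, ε * ε = ε ∧ ε + lam ε = 1 := by
  obtain ⟨s, hs⟩ := h.exists_eq (r := r + lam r) (by rw [map_add, h.invol, add_comm])
  obtain ⟨p, hp⟩ := h.exists_eq (r := r * lam r) (by rw [map_mul, h.invol, mul_comm])
  let D := s ^ 2 - 4 * p
  have hD : IsUnit D := by
    rw [← not_not (a := IsUnit D), ← mem_nonunits_iff, ← mem_maximalIdeal]
    intro hD
    haveI := h.nontrivial
    obtain ⟨q, hq⟩ := Ideal.exists_maximal R
    rw [← h.comap_max ⟨q, hq⟩, Ideal.mem_comap] at hD
    have : algebraMap H R D = (r - lam r) ^ 2 := by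
      simp only [D, map_sub, map_pow, map_mul, map_ofNat, hs, hp]; ring
    rw [this] at hD
    exact hq.ne_top (Ideal.eq_top_of_isUnit_mem _ hD (hr.pow 2))
  let f : H[X] := Polynomial.X ^ 2 - Polynomial.C s * Polynomial.X + Polynomial.C p
  have hf : f.Monic := by simp only [f]; monicity!
  have hfd : f.derivative = 2 * Polynomial.X - Polynomial.C s := by
    simp [f, Polynomial.derivative_pow]
    rfl
  let fk := f.map (residue H)
  have hfk : fk.Monic := hf.map _
  have hrD : residue H D ≠ 0 := by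
    rw [ne_eq, residue_eq_zero_iff, mem_maximalIdeal, mem_nonunits_iff, not_not]; exact hD
  have hsep : fk.Separable := by
    obtain ⟨i, hi⟩ := isUnit_iff_exists_inv.1 hD
    have h1 : IsCoprime f f.derivative := by
      refine ⟨Polynomial.C (-4 * i), Polynomial.C i * f.derivative, ?_⟩
      rw [hfd]
      have : Polynomial.C D * Polynomial.C i = (1 : H[X]) := by
        rw [← map_mul, hi, map_one]
      simp only [f, D, map_mul, map_neg, map_sub, map_pow, map_ofNat] at this ⊢
      linear_combination this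
    have := h1.map (Polynomial.mapRingHom (residue H))
    simpa [Polynomial.Separable, fk, Polynomial.derivative_map] using this
  have hdeg : f.natDegree = 2 := by
    simp only [f]; compute_degree!
  obtain ⟨a₀, ha₀⟩ := IsSepClosed.exists_root fk (by
    rw [Polynomial.degree_eq_natDegree hfk.ne_zero, hf.natDegree_map, hdeg]; simp) hsep
  obtain ⟨a₁, ha₁⟩ := residue_surjective a₀
  have hev : residue H (f.eval a₁) = 0 := by
    have : fk.eval (residue H a₁) = 0 := by rw [ha₁]; exact ha₀
    rwa [Polynomial.eval_map, Polynomial.eval₂_at_apply] at this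
  have hev' : IsUnit (f.derivative.eval a₁) := by
    rw [← not_not (a := IsUnit _), ← mem_nonunits_iff, ← mem_maximalIdeal, ← residue_eq_zero_iff]
    intro h0
    have h1 : fk.derivative.eval (residue H a₁) = 0 := by
      rw [Polynomial.derivative_map, Polynomial.eval_map, Polynomial.eval₂_at_apply]; exact h0
    exact Polynomial.Separable.eval₂_derivative_ne_zero (RingHom.id _) hsep
      (by simpa [ha₁] using ha₀) (by simpa [ha₁] using h1)
  obtain ⟨a, ha, haa⟩ := HenselianLocalRing.is_henselian f hf a₁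
    (by rwa [← residue_eq_zero_iff]) hev'
  have hfa : a ^ 2 - s * a + p = 0 := by simpa [f, Polynomial.IsRoot] using ha
  have hu : IsUnit (2 * a - s) := by
    have h2 : (2 * a - s) ^ 2 = D := by simp only [D]; linear_combination 4 * hfa
    exact (isUnit_pow_iff (two_ne_zero)).1 (h2 ▸ hD)
  obtain ⟨i, hi⟩ := isUnit_iff_exists_inv.1 hu
  have e1 := congrArg (algebraMap H R) hfa
  have e2 := congrArg (algebraMap H R) hi
  simp only [map_add, map_sub, map_mul, map_pow, map_zero, map_one, map_ofNat, hs, hp] at e1 e2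
  refine ⟨(r - (r + lam r - algebraMap H R a)) * algebraMap H R i, ?_, ?_⟩
  · linear_combination (-(algebraMap H R i * algebraMap H R i)) * e1 +
      ((algebraMap H R a - lam r) * algebraMap H R i) * e2
  · simp only [map_mul, map_sub, map_add, h.invol, h.lam_algebraMap]
    linear_combination e2

/-- The ramified case is local. -/
theorem Pair.local_of_ram (h : Pair H R lam) (hr : ∀ r, ¬ IsUnit (r - lam r)) :
    ∃ _ : IsLocalRing R, Ram lam := by
  haveI := h.nontrivial
  obtain ⟨q, hq⟩ := Ideal.exists_maximal R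
  let Q : MaximalSpectrum R := ⟨q, hq⟩
  have hall : ∀ m : MaximalSpectrum R, m = Q := by
    intro m
    rcases h.max_eq_or Q m with h1 | h1
    · exact h1
    by_contra hne
    have hne' : m.asIdeal ≠ q := fun e => hne (MaximalSpectrum.ext e)
    haveI := m.isMaximal
    obtain ⟨a, ha, b, hb, hab⟩ := Submodule.mem_sup.1
      (show (1 : R) ∈ q ⊔ m.asIdeal by
        rw [hq.coprime_of_ne m.isMaximal (Ne.symm hne')]; trivial)
    refine hr a ?_
    by_contra hu
    obtain ⟨m', hm', hm⟩ := exists_max_ideal_of_mem_nonunits hu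
    have hlb : lam b ∈ q := by rw [h1] at hb; exact hb
    have hla : lam a ∈ m.asIdeal := by
      rw [h1]; change lam (lam a) ∈ q; rwa [h.invol]
    rcases h.max_eq_or Q ⟨m', hm'⟩ with h2 | h2
    · have h3 : m' = q := congrArg MaximalSpectrum.asIdeal h2
      subst h3
      have h4 : lam a ∈ m' := by simpa using m'.sub_mem ha hm
      have h5 : (1 : R) ∈ m' := by
        have : lam a + lam b = 1 := by rw [← map_add, hab, map_one]
        rw [← this]; exact m'.add_mem h4 hlb
      exact hm'.ne_top ((Ideal.eq_top_iff_one m').2 h5)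
    · have h3 : m' = m.asIdeal := h2.trans h1.symm
      subst h3
      have h4 : a ∈ m.asIdeal := by simpa using m.asIdeal.add_mem hm hla
      exact hm'.ne_top ((Ideal.eq_top_iff_one _).2 (hab ▸ m.asIdeal.add_mem h4 hb))
  haveI hloc : IsLocalRing R := IsLocalRing.of_unique_max_ideal
    ⟨q, hq, fun m hm => congrArg MaximalSpectrum.asIdeal (hall ⟨m, hm⟩)⟩
  refine ⟨hloc, h.invol, fun r => ?_, fun a ha hla => ?_⟩
  · rw [mem_maximalIdeal, mem_nonunits_iff]
    intro hu
    refine hr r ?_
    have := hu.neg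
    rwa [neg_sub] at this
  · obtain ⟨x, rfl⟩ := h.exists_eq hla
    have hx : IsUnit x := by
      rw [← not_not (a := IsUnit x), ← mem_nonunits_iff, ← mem_maximalIdeal]
      intro hx
      rw [← h.comap_max ⟨q, hq⟩, Ideal.mem_comap] at hx
      exact hq.ne_top (Ideal.eq_top_of_isUnit_mem _ hx ha)
    obtain ⟨y, hy⟩ := h.sqrt x hx
    exact ⟨algebraMap H R y, h.lam_algebraMap y, by rw [← map_mul, hy]⟩

/-- Normal form over a pair. -/
theorem Pair.normal_form (h : Pair H R lam) {n : ℕ} (hn : 0 < n)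
    (hc : IsUnit (2 : R) ∨ (∃ r, IsUnit (r - lam r)) ∨ Odd n)
    (t : LamInv R (Matrix (Fin n) (Fin n) R) lam) :
    IsoInv t (tr h.invol n) ∨
      (Even n ∧ IsUnit (2 : R) ∧ (∀ r, ¬ IsUnit (r - lam r)) ∧
        ∀ (w₀ : (Matrix (Fin n) (Fin n) R)ˣ)
          (hw₀ : tr h.invol n (w₀ : Matrix (Fin n) (Fin n) R) = (-1 : R) • (w₀ : Matrix (Fin n) (Fin n) R))
          (he₀ : lam (-1) * (-1) = 1), IsoInv t ((tr h.invol n).conj w₀ (-1) hw₀ he₀)) := by
  haveI := h.nontrivial
  haveI := h.finite_max
  by_cases hu : ∃ r, IsUnit (r - lam r)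
  · obtain ⟨r, hr⟩ := hu
    obtain ⟨ε, h1, h2⟩ := h.exists_idem r hr
    exact Or.inl (isoInv_tr_of_idem h.invol hn t ε h1 h2)
  · have hc' : IsUnit (2 : R) ∨ Odd n := hc.elim Or.inl fun h => Or.inr (h.resolve_left hu)
    push Not at hu
    obtain ⟨_, hR⟩ := h.local_of_ram hu
    exact (hR.normal_form hn hc' t).imp id fun ⟨a, b, c⟩ => ⟨b, a, hu, c⟩

end Pair

end Groth.Agent.AzInv26
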