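import Groth.Agent.AzInv26.Stage
import Groth.Agent.AzInv26.Normal
import Mathlib.RingTheory.Flat.Basic

/-! Translation between `T ⊗[S] A` and `(T ⊗[S] R) ⊗[R] A`. -/

namespace Groth.Agent.AzInv26

open scoped TensorProduct
open AzInv

universe u v w w' u'

attribute [local instance] Algebra.TensorProduct.rightAlgebra

section

variable {S : Type u} [CommRing S] {R : Type v} [CommRing R] [Algebra S R]
variable (T : Type u') [CommRing T] [Algebra S T]

/-- The involution of `T ⊗[S] R`. -/
noncomputable def lamT (lam : R ≃ₐ[S] R) : T ⊗[S] R ≃+* T ⊗[S] R :=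
  (Algebra.TensorProduct.congr (AlgEquiv.refl : T ≃ₐ[T] T) lam).toRingEquiv

@[simp]
theorem lamT_tmul (lam : R ≃ₐ[S] R) (x : T) (r : R) :
    lamT T lam (x ⊗ₜ[S] r) = x ⊗ₜ[S] lam r := by simp [lamT]

theorem compatT (lam : R ≃ₐ[S] R) (hlam : ∀ r, lam (lam r) = r) :
    Compat (T ⊗[S] R) (lam : R → R) (lamT T lam) := by
  refine ⟨fun r => ?_, fun z => ?_⟩
  · change lamT T lam ((1 : T) ⊗ₜ[S] r) = (1 : T) ⊗ₜ[S] lam r
    simp
  · induction z using TensorProduct.induction_on with
    | zero => simp
    | tmul a b => simp [hlam]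
    | add a b ha hb => simp [ha, hb]

variable {A : Type w} [Ring A] [Algebra S A] [Algebra R A] [IsScalarTower S R A]
  {A' : Type w'} [Ring A'] [Algebra S A'] [Algebra R A'] [IsScalarTower S R A']

instance towerRT : IsScalarTower S R (T ⊗[S] R) :=
  IsScalarTower.of_algebraMap_eq fun s => by
    change algebraMap S (T ⊗[S] R) s = (1 : T) ⊗ₜ[S] algebraMap S R s
    rw [Algebra.algebraMap_eq_smul_one, Algebra.algebraMap_eq_smul_one (R := S) (A := R),
      TensorProduct.tmul_smul, Algebra.TensorProduct.one_def]

variable (R A) in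
/-- The forward comparison map. -/
noncomputable def phiFwd : T ⊗[S] A →ₐ[S] (T ⊗[S] R) ⊗[R] A :=
  Algebra.TensorProduct.lift
    ((Algebra.TensorProduct.includeLeft (R := R) (S := S) (A := T ⊗[S] R) (B := A)).comp
      (Algebra.TensorProduct.includeLeft (R := S) (S := S) (A := T) (B := R)))
    (Algebra.TensorProduct.includeRight.restrictScalars S)
    fun x a => by
      change Commute ((x ⊗ₜ[S] (1 : R)) ⊗ₜ[R] (1 : A)) ((1 : T ⊗[S] R) ⊗ₜ[R] a)
      simp [commute_iff_eq, Algebra.TensorProduct.tmul_mul_tmul]

@[simp]
theorem phiFwd_tmul (x : T) (a : A) :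
    phiFwd R T A (x ⊗ₜ[S] a) = (x ⊗ₜ[S] (1 : R)) ⊗ₜ[R] a := by
  simp [phiFwd, Algebra.TensorProduct.tmul_mul_tmul]

variable (R A) in
/-- The backward comparison map. -/
noncomputable def phiBwd : (T ⊗[S] R) ⊗[R] A →+ T ⊗[S] A :=
  TensorProduct.liftAddHom
    { toFun := fun z =>
        { toFun := fun a => Algebra.TensorProduct.map (AlgHom.id S T) (IsScalarTower.toAlgHom S R A) z *
            ((1 : T) ⊗ₜ[S] a)
          map_zero' := by simp
          map_add' := fun a b => by simp [TensorProduct.tmul_add, mul_add] }
      map_zero' := by ext a; simp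
      map_add' := fun x y => by ext a; simp [add_mul] }
    fun r z a => by
      have e : r • z = ((1 : T) ⊗ₜ[S] r) * z := Algebra.smul_def r z
      simp only [AddMonoidHom.coe_mk, ZeroHom.coe_mk, e, map_mul, Algebra.TensorProduct.map_tmul,
        AlgHom.coe_id, id_eq, IsScalarTower.toAlgHom_apply]
      rw [commute_one_tmul, mul_assoc, Algebra.TensorProduct.tmul_mul_tmul, one_mul,
        ← Algebra.smul_def]

theorem phiBwd_tmul (x : T) (r : R) (a : A) :
    phiBwd R T A ((x ⊗ₜ[S] r) ⊗ₜ[R] a) = x ⊗ₜ[S] (r • a) := by
  simp [phiBwd, Algebra.TensorProduct.tmul_mul_tmul, Algebra.smul_def]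

variable (R A) in
/-- The comparison isomorphism. -/
noncomputable def phi : T ⊗[S] A ≃+* (T ⊗[S] R) ⊗[R] A :=
  { (phiFwd R T A).toRingHom with
    invFun := phiBwd R T A
    left_inv := fun z => by
      change phiBwd R T A (phiFwd R T A z) = z
      induction z using TensorProduct.induction_on with
      | zero => simp
      | tmul x a => rw [phiFwd_tmul, phiBwd_tmul, one_smul]
      | add x y hx hy => rw [map_add, map_add, hx, hy]
    right_inv := fun z => by
      change phiFwd R T A (phiBwd R T A z) = z
      induction z using TensorProduct.induction_on with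
      | zero => simp
      | add x y hx hy => rw [map_add, map_add, hx, hy]
      | tmul z a =>
        induction z using TensorProduct.induction_on with
        | zero => simp
        | add x y hx hy => rw [TensorProduct.add_tmul, map_add, map_add, hx, hy]
        | tmul x r =>
          rw [phiBwd_tmul, phiFwd_tmul, ← TensorProduct.smul_tmul]
          congr 1
          rw [Algebra.smul_def]
          change ((1 : T) ⊗ₜ[S] r) * (x ⊗ₜ[S] (1 : R)) = _
          simp [Algebra.TensorProduct.tmul_mul_tmul] }

@[simp]
theorem phi_tmul (x : T) (a : A) : phi R T A (x ⊗ₜ[S] a) = (x ⊗ₜ[S] (1 : R)) ⊗ₜ[R] a :=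
  phiFwd_tmul T x a

theorem phi_scalar (x : T) (r : R) :
    phi R T A (x ⊗ₜ[S] algebraMap R A r) = algebraMap (T ⊗[S] R) _ (x ⊗ₜ[S] r) := by
  rw [phi_tmul, Algebra.TensorProduct.algebraMap_apply, Algebra.algebraMap_eq_smul_one,
    ← TensorProduct.smul_tmul, Algebra.smul_def]
  change ((1 : T) ⊗ₜ[S] r * x ⊗ₜ[S] (1 : R)) ⊗ₜ[R] (1 : A) = _
  simp [Algebra.TensorProduct.tmul_mul_tmul]

variable (lam : R ≃ₐ[S] R) (hlam : ∀ r, lam (lam r) = r)

/-- The base changed involution. -/
noncomputable def tT (t : LamInv R A lam) :
    LamInv (T ⊗[S] R) ((T ⊗[S] R) ⊗[R] A) (lamT T lam) :=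
  bcInv (compatT T lam hlam) t

theorem phi_bc (t : LamInv R A lam) (x : T ⊗[S] A) :
    phi R T A (t.bc S lam T x) = tT T lam hlam t (phi R T A x) := by
  induction x using TensorProduct.induction_on with
  | zero => simp
  | tmul a b => simp [tT]
  | add a b ha hb => simp only [map_add, LamInv.map_add, ha, hb]

theorem isoT_iff (t : LamInv R A lam) (t' : LamInv R A' lam) :
    IsoT S lam T t t' ↔ IsoInv (tT T lam hlam t) (tT T lam hlam t') := by
  constructor
  · rintro ⟨f, hfr, hft⟩
    let g := ((phi R T A).symm.trans f.toRingEquiv).trans (phi R T A')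
    have hgen : ∀ (x : T) (r : R),
        g (algebraMap (T ⊗[S] R) _ (x ⊗ₜ[S] r)) = algebraMap (T ⊗[S] R) _ (x ⊗ₜ[S] r) := by
      intro x r
      rw [← phi_scalar]
      simp only [g, RingEquiv.trans_apply, RingEquiv.symm_apply_apply]
      rw [← phi_scalar]
      congr 1
      have e : x ⊗ₜ[S] algebraMap R A r = x • (((1 : T) ⊗ₜ[S] algebraMap R A r) * 1) := by
        rw [mul_one, TensorProduct.smul_tmul', smul_eq_mul, mul_one]
      change f (x ⊗ₜ[S] algebraMap R A r) = _
      rw [e, map_smul, hfr, map_one, mul_one, TensorProduct.smul_tmul', smul_eq_mul, mul_one]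
    refine ⟨AlgEquiv.ofRingEquiv (f := g) fun z => ?_, fun a => ?_⟩
    · induction z using TensorProduct.induction_on with
      | zero => simp
      | tmul x r => exact hgen x r
      | add x y hx hy => simp only [map_add, hx, hy]
    · obtain ⟨b, rfl⟩ := (phi R T A).surjective a
      change g (tT T lam hlam t (phi R T A b)) = tT T lam hlam t' (g (phi R T A b))
      simp only [g, RingEquiv.trans_apply, RingEquiv.symm_apply_apply]
      rw [← phi_bc, RingEquiv.symm_apply_apply, ← phi_bc]
      congr 1
      exact hft b
  · rintro ⟨g, hg⟩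
    let f := ((phi R T A).trans g.toRingEquiv).trans (phi R T A').symm
    have hgen : ∀ (x : T) (r : R),
        f (x ⊗ₜ[S] algebraMap R A r) = x ⊗ₜ[S] algebraMap R A' r := by
      intro x r
      apply (phi R T A').injective
      simp only [f, RingEquiv.trans_apply, RingEquiv.apply_symm_apply, phi_scalar]
      exact g.commutes _
    refine ⟨AlgEquiv.ofRingEquiv (f := f) fun x => ?_, fun r x => ?_, fun x => ?_⟩
    · rw [Algebra.TensorProduct.algebraMap_apply, Algebra.TensorProduct.algebraMap_apply]
      simpa using hgen x 1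
    · change f _ = _
      rw [map_mul f, hgen]
      rfl
    · change f _ = t'.bc S lam T (f x)
      apply (phi R T A').injective
      rw [phi_bc T lam hlam]
      simp only [f, RingEquiv.trans_apply, RingEquiv.apply_symm_apply, phi_bc T lam hlam]
      exact hg _

theorem isFixedRing_of_flat [Module.Flat S T] (hfix : RInv.IsFixedRing S R lam.toRingEquiv) :
    RInv.IsFixedRing T (T ⊗[S] R) (lamT T lam) := by
  let d : R →ₗ[S] R :=
    { toFun := fun r => lam r - r
      map_add' := fun x y => by simp only [map_add]; abel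
      map_smul' := fun s x => by simp only [map_smul, smul_sub, RingHom.id_apply] }
  have hex : Function.Exact (Algebra.linearMap S R) d := fun r => by
    change lam r - r = 0 ↔ _
    rw [sub_eq_zero]
    exact hfix.2 r
  have hT := Module.Flat.lTensor_exact T hex
  have hinj := Module.Flat.lTensor_preserves_injective_linearMap (M := T) (Algebra.linearMap S R) hfix.1
  have hl : ∀ z : T ⊗[S] S,
      LinearMap.lTensor T (Algebra.linearMap S R) z =
        algebraMap T (T ⊗[S] R) (TensorProduct.rid S T z) := by
    intro z
    induction z using TensorProduct.induction_on with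
    | zero => simp
    | tmul x s =>
      simp only [LinearMap.lTensor_tmul, Algebra.linearMap_apply, TensorProduct.rid_tmul,
        Algebra.TensorProduct.algebraMap_apply, Algebra.algebraMap_eq_smul_one (R := S) (A := R),
        TensorProduct.tmul_smul, TensorProduct.smul_tmul', smul_eq_mul]
      rfl
    | add a b ha hb => simp only [map_add, ha, hb]
  refine ⟨fun x y h => ?_, fun z => ⟨fun h => ?_, ?_⟩⟩
  · have := hinj (a₁ := (TensorProduct.rid S T).symm x) (a₂ := (TensorProduct.rid S T).symm y)
      (by rw [hl, hl]; simpa using h)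
    exact (TensorProduct.rid S T).symm.injective this
  · obtain ⟨w, hw⟩ : z ∈ Set.range (LinearMap.lTensor T (Algebra.linearMap S R)) := by
      refine (hT z).1 ?_
      have e : LinearMap.lTensor T d z = lamT T lam z - z := by
        induction z using TensorProduct.induction_on with
        | zero => simp
        | tmul a b => simp [d, TensorProduct.tmul_sub]
        | add a b _ _ =>
          have : ∀ z : T ⊗[S] R, LinearMap.lTensor T d z =
              lamT T lam z - z := by
            intro z
            induction z using TensorProduct.induction_on with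
            | zero => simp
            | tmul a b => simp [d, TensorProduct.tmul_sub]
            | add a b ha hb => rw [map_add, ha, hb, map_add]; abel
          exact this _
      rw [e, h, sub_self]
    exact ⟨TensorProduct.rid S T w, by rw [← hl, hw]⟩
  · rintro ⟨x, rfl⟩
    simp [Algebra.TensorProduct.algebraMap_apply]

end

end Groth.Agent.AzInv26
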