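import Groth.Agent.AzInv26.SignPoint
import Mathlib.Algebra.Azumaya.Matrix

/-! Classification of involutions by signs. -/

namespace Groth.Agent.AzInv26

open scoped TensorProduct
open AzInv

universe u v w w' u'

variable {S : Type u} [CommRing S] {R : Type v} [CommRing R] [Algebra S R] {lam : R ≃ₐ[S] R}

/-- The standard skew unit of even size. -/
def skewUnit (n : ℕ) (hn : Even n) : (Matrix (Fin n) (Fin n) R)ˣ :=
  let e : Fin (n / 2) ⊕ Fin (n / 2) ≃ Fin n :=
    finSumFinEquiv.trans (finCongr (by obtain ⟨k, hk⟩ := hn; omega))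
  let f := Matrix.reindexAlgEquiv R R e
  Units.map f.toRingEquiv.toRingHom.toMonoidHom
    ⟨Matrix.fromBlocks 0 1 (-1) 0, Matrix.fromBlocks 0 (-1) 1 0,
      by simp [Matrix.fromBlocks_multiply, Matrix.fromBlocks_one],
      by simp [Matrix.fromBlocks_multiply, Matrix.fromBlocks_one]⟩

theorem trA_skewUnit (hlam : ∀ r, lam (lam r) = r) (n : ℕ) (hn : Even n) :
    trA lam hlam n (skewUnit (R := R) n hn : Matrix (Fin n) (Fin n) R) =
      (-1 : R) • (skewUnit (R := R) n hn : Matrix (Fin n) (Fin n) R) := by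
  ext i j
  simp only [trA, LamInv.transpose_apply, skewUnit, Units.coe_map, Matrix.smul_apply,
    RingHom.toMonoidHom_eq_coe, MonoidHom.coe_coe, RingEquiv.toRingHom_eq_coe, RingEquiv.coe_toRingHom,
    AlgEquiv.coe_ringEquiv, Matrix.reindexAlgEquiv_apply, Matrix.reindex_apply, Matrix.submatrix_apply]
  generalize ((finSumFinEquiv.trans (finCongr _)).symm i) = a
  generalize ((finSumFinEquiv.trans (finCongr _)).symm j) = b
  rcases a with a | a <;> rcases b with b | b <;>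
    simp [Matrix.one_apply, apply_ite lam, eq_comm, apply_ite (Neg.neg : R → R)]

variable {A : Type w} [Ring A] [Algebra S A] [Algebra R A] [IsScalarTower S R A]
  {A' : Type w'} [Ring A'] [Algebra S A'] [Algebra R A'] [IsScalarTower S R A']

theorem neg_one_mul (hlam : ∀ r, lam (lam r) = r) : lam (-1) * (-1) = 1 := by
  have _ := hlam
  simp

/-- The sign classification at a strict henselization. -/
theorem hull_cases (hlam : ∀ r, lam (lam r) = r) (hfix : RInv.IsFixedRing S R lam.toRingEquiv)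
    (hs : HullSqrt S) {n : ℕ} (hn : 0 < n)
    (hc : IsUnit (2 : S) ∨ RInv.IsQuadEtale S R ∨ Odd n) (hA : IsAzumayaDeg R A n)
    (t : LamInv R A lam) (p : PrimeSpectrum S) :
    (IsoT S lam (TP p) t (trA lam hlam n) ∧ (IsUnit (2 : S) → ∀ q : PrimeSpectrum R,
        ∀ hq : ∀ r, lam r - r ∈ q.asIdeal, q.asIdeal.comap (algebraMap S R) = p.asIdeal →
          Pos (atQ t q hq) ∧ fDim (atQ t q hq) = Nat.choose (n + 1) 2)) ∨
      (IsUnit (2 : S) ∧ Even n ∧ (∃ q : PrimeSpectrum R,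
          q.asIdeal.comap (algebraMap S R) = p.asIdeal ∧ ∀ r, lam r - r ∈ q.asIdeal) ∧
        (∀ (w₀ : (Matrix (Fin n) (Fin n) R)ˣ)
          (hw₀ : trA lam hlam n (w₀ : Matrix (Fin n) (Fin n) R) =
            (-1 : R) • (w₀ : Matrix (Fin n) (Fin n) R))
          (he₀ : lam (-1) * (-1) = 1),
          IsoT S lam (TP p) t ((trA lam hlam n).conj w₀ (-1) hw₀ he₀)) ∧
        ∀ q : PrimeSpectrum R, ∀ hq : ∀ r, lam r - r ∈ q.asIdeal,
          q.asIdeal.comap (algebraMap S R) = p.asIdeal →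
          ¬ Pos (atQ t q hq) ∧ fDim (atQ t q hq) ≠ Nat.choose (n + 1) 2) := by
  haveI := hA.1
  rcases normal_hull hlam hfix hs hn hc hA t p with h | ⟨he, ⟨q₀, hq₀p, hq₀⟩, h⟩
  · refine Or.inl ⟨h, fun h2 q hq hqp => ?_⟩
    rw [pos_iff_of_isoT hlam h2 h q hq hqp, fDim_eq_of_isoT hlam h2 h q hq hqp]
    exact atQ_trA hlam h2 hn q hq
  · have h2 : IsUnit (2 : S) := by
      rcases hc with h2 | hqe | hodd
      · exact h2
      · exact (quadEtale_no_fixed_prime hlam hfix hqe q₀.asIdeal hq₀).elim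
      · exact absurd he (Nat.not_even_iff_odd.2 hodd)
    refine Or.inr ⟨h2, he, ⟨q₀, hq₀p, hq₀⟩, h, fun q hq hqp => ?_⟩
    have h' := h (skewUnit n he) (trA_skewUnit hlam n he) (neg_one_mul hlam)
    rw [pos_iff_of_isoT hlam h2 h' q hq hqp, fDim_eq_of_isoT hlam h2 h' q hq hqp]
    exact atQ_skew hlam h2 hn _ _ _ q hq

theorem pos_iff_fDim (hlam : ∀ r, lam (lam r) = r) (hfix : RInv.IsFixedRing S R lam.toRingEquiv)
    (h2 : IsUnit (2 : S)) {n : ℕ} (hn : 0 < n) (hA : IsAzumayaDeg R A n) (t : LamInv R A lam)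
    (q : PrimeSpectrum R) (hq : ∀ r, lam r - r ∈ q.asIdeal) :
    Pos (atQ t q hq) ↔ fDim (atQ t q hq) = Nat.choose (n + 1) 2 := by
  rcases hull_cases hlam hfix (hullSqrt_of_two h2) hn (Or.inl h2) hA t
      ⟨q.asIdeal.comap (algebraMap S R), inferInstance⟩ with ⟨-, h⟩ | ⟨-, -, -, -, h⟩
  · exact iff_of_true (h h2 q hq rfl).1 (h h2 q hq rfl).2
  · exact iff_of_false (h q hq rfl).1 (h q hq rfl).2

/-- Two involutions of the same degree with equal signs are isomorphic at a henselization. -/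
theorem isoT_of_signs (hlam : ∀ r, lam (lam r) = r) (hfix : RInv.IsFixedRing S R lam.toRingEquiv)
    (hs : HullSqrt S) {n : ℕ} (hn : 0 < n)
    (hc : IsUnit (2 : S) ∨ RInv.IsQuadEtale S R ∨ Odd n) (hA : IsAzumayaDeg R A n)
    (hA' : IsAzumayaDeg R A' n) (t : LamInv R A lam) (t' : LamInv R A' lam) (p : PrimeSpectrum S)
    (hsig : IsUnit (2 : S) → ∀ q : PrimeSpectrum R, ∀ hq : ∀ r, lam r - r ∈ q.asIdeal,
      q.asIdeal.comap (algebraMap S R) = p.asIdeal → (Pos (atQ t q hq) ↔ Pos (atQ t' q hq))) :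
    IsoT S lam (TP p) t t' := by
  rcases hull_cases hlam hfix hs hn hc hA t p with
      ⟨h, hp⟩ | ⟨h2, he, ⟨q, hqp, hq⟩, h, hp⟩ <;>
    rcases hull_cases hlam hfix hs hn hc hA' t' p with
      ⟨h', hp'⟩ | ⟨h2', he', ⟨q', hqp', hq'⟩, h', hp'⟩
  · exact h.trans' hlam (h'.symm' hlam)
  · exact absurd ((hsig h2' q' hq' hqp').1 (hp h2' q' hq' hqp').1) (hp' q' hq' hqp').1
  · exact absurd ((hsig h2 q hq hqp).2 (hp' h2 q hq hqp).1) (hp q hq hqp).1
  · exact (h _ (trA_skewUnit hlam n he) (neg_one_mul hlam)).trans' hlam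
      ((h' _ (trA_skewUnit hlam n he) (neg_one_mul hlam)).symm' hlam)

theorem isAzumayaDeg_matrix {N : ℕ} (hN : 0 < N) :
    IsAzumayaDeg R (Matrix (Fin N) (Fin N) R) N := by
  haveI : Nonempty (Fin N) := ⟨⟨0, hN⟩⟩
  refine ⟨IsAzumaya.matrix R (Fin N), fun p => ?_⟩
  haveI : Nontrivial R := by
    by_contra hn
    rw [not_nontrivial_iff_subsingleton] at hn
    exact p.isPrime.ne_top (Subsingleton.elim _ _)
  rw [Module.rankAtStalk_eq_finrank_of_free]
  simp [Module.finrank_matrix, sq]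

/-- Matrices of matrices. -/
noncomputable def flat2 (m n N : ℕ) (h : m * n = N) :
    Matrix (Fin m) (Fin m) (Matrix (Fin n) (Fin n) R) ≃ₐ[R] Matrix (Fin N) (Fin N) R :=
  (Matrix.compAlgEquiv (Fin m) (Fin n) R R).trans
    (Matrix.reindexAlgEquiv R R (finProdFinEquiv.trans (finCongr h)))

/-- A matrix algebra model of `t.matrix`. -/
theorem exists_matrix_model (hlam : ∀ r, lam (lam r) = r)
    (hfix : RInv.IsFixedRing S R lam.toRingEquiv) (h2 : IsUnit (2 : S)) {n : ℕ} (hn : 0 < n)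
    (hA : IsAzumayaDeg R A n) (t : LamInv R A lam) {m : ℕ} (hm : 0 < m) {N : ℕ} (hmn : m * n = N)
    (p : PrimeSpectrum S) :
    ∃ s : LamInv R (Matrix (Fin N) (Fin N) R) lam, IsoT S lam (TP p) (t.matrix (Fin m)) s ∧
      ∀ q : PrimeSpectrum R, ∀ hq : ∀ r, lam r - r ∈ q.asIdeal,
        q.asIdeal.comap (algebraMap S R) = p.asIdeal → (Pos (atQ t q hq) ↔ Pos (atQ s q hq)) := by
  haveI := hA.1
  have key : ∀ M : LamInv R (Matrix (Fin n) (Fin n) R) lam, IsoT S lam (TP p) t M →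
      ∃ s : LamInv R (Matrix (Fin N) (Fin N) R) lam, IsoT S lam (TP p) (t.matrix (Fin m)) s ∧
        ∀ q : PrimeSpectrum R, ∀ hq : ∀ r, lam r - r ∈ q.asIdeal,
          q.asIdeal.comap (algebraMap S R) = p.asIdeal → (Pos (atQ t q hq) ↔ Pos (atQ s q hq)) := by
    intro M hM
    refine ⟨transport (M.matrix (Fin m)) (flat2 m n N hmn),
      (hM.matrix' hlam m).trans' hlam (isoT_of_isoInv hlam (isoInv_transport _ _)), fun q hq hqp => ?_⟩
    rw [pos_iff_of_isoT hlam h2 hM q hq hqp, ← pos_matrix_atQ M hm q hq]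
    exact pos_congr ((isoInv_transport _ _).bc (compat_field (residue_fixed hq)))
  rcases hull_cases hlam hfix (hullSqrt_of_two h2) hn (Or.inl h2) hA t p with
    ⟨h, -⟩ | ⟨-, he, -, h, -⟩
  · exact key _ h
  · exact key _ (h _ (trA_skewUnit hlam n he) (neg_one_mul hlam))

theorem sameType_iff (hlam : ∀ r, lam (lam r) = r) (hfix : RInv.IsFixedRing S R lam.toRingEquiv)
    (h2 : IsUnit (2 : S)) {n n' : ℕ} (hn : 0 < n) (hn' : 0 < n') (hA : IsAzumayaDeg R A n)
    (hA' : IsAzumayaDeg R A' n') (t : LamInv R A lam) (t' : LamInv R A' lam) :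
    SameType S lam t t' ↔ ∀ q : PrimeSpectrum R, ∀ hq : ∀ r, lam r - r ∈ q.asIdeal,
      (Pos (atQ t q hq) ↔ Pos (atQ t' q hq)) := by
  haveI := hA.1
  haveI := hA'.1
  constructor
  · rintro ⟨m, m', hm, hm', h⟩ q hq
    let p : PrimeSpectrum S := ⟨q.asIdeal.comap (algebraMap S R), inferInstance⟩
    have h1 := pos_iff_of_isoT hlam h2 (isoT_hull_of_locIsoEt S lam h p) q hq rfl
    rwa [pos_matrix_atQ t hm q hq, pos_matrix_atQ t' hm' q hq] at h1
  · intro hsig
    refine ⟨n', n, hn', hn, locIsoEt_of_hull S lam fun p => ?_⟩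
    obtain ⟨s, hs, hsp⟩ := exists_matrix_model hlam hfix h2 hn hA t hn' (N := n' * n) rfl p
    obtain ⟨s', hs', hsp'⟩ := exists_matrix_model hlam hfix h2 hn' hA' t' hn (N := n' * n)
      (mul_comm n n') p
    refine (hs.trans' hlam ?_).trans' hlam (hs'.symm' hlam)
    refine isoT_of_signs hlam hfix (hullSqrt_of_two h2) (Nat.mul_pos hn' hn) (Or.inl h2)
      (isAzumayaDeg_matrix (Nat.mul_pos hn' hn)) (isAzumayaDeg_matrix (Nat.mul_pos hn' hn)) s s' p
      fun _ q hq hqp => ?_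
    rw [← hsp q hq hqp, ← hsp' q hq hqp]
    exact hsig q hq

theorem locIsoEt_of_sameType (hlam : ∀ r, lam (lam r) = r)
    (hfix : RInv.IsFixedRing S R lam.toRingEquiv) (hs : HullSqrt S) {n : ℕ} (hn : 0 < n)
    (hc : IsUnit (2 : S) ∨ RInv.IsQuadEtale S R ∨ Odd n) (hA : IsAzumayaDeg R A n)
    (hA' : IsAzumayaDeg R A' n) (t : LamInv R A lam) (t' : LamInv R A' lam)
    (h : SameType S lam t t') : LocIsoEt S lam t t' := by
  haveI := hA.1
  haveI := hA'.1
  exact locIsoEt_of_hull S lam fun p => isoT_of_signs hlam hfix hs hn hc hA hA' t t' p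
    fun h2 q hq _ => (sameType_iff hlam hfix h2 hn hn hA hA' t t').1 h q hq

end Groth.Agent.AzInv26
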