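import Groth.Prelude.Def_AzInv
import Mathlib.LinearAlgebra.Matrix.NonsingularInverse
import Mathlib.LinearAlgebra.Matrix.Transvection
import Mathlib.LinearAlgebra.Matrix.SchurComplement
import Mathlib.RingTheory.LocalRing.ResidueField.Basic
import Mathlib.GroupTheory.Perm.Cycle.Type
import Mathlib.LinearAlgebra.Matrix.Block

/-! Congruence classification of hermitian and skew hermitian matrices over local rings. -/

namespace Groth.Agent.AzInv26

open Matrix IsLocalRing

universe u

variable {R : Type u} [CommRing R] (lam : R ≃+* R)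

/-- The conjugate transpose for `lam`. -/
def ct {m n : Type*} (g : Matrix m n R) : Matrix n m R := (g.map lam)ᵀ

/-- Congruence of square matrices. -/
def Cong {ι : Type*} [Fintype ι] [DecidableEq ι] (w w' : Matrix ι ι R) : Prop :=
  ∃ g : (Matrix ι ι R)ˣ, (g : Matrix ι ι R) * w * ct lam (g : Matrix ι ι R) = w'

variable {lam}

theorem ct_mul {l m n : Type*} [Fintype m] (a : Matrix l m R) (b : Matrix m n R) :
    ct lam (a * b) = ct lam b * ct lam a := by
  simp [ct, Matrix.map_mul, Matrix.transpose_mul]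

theorem ct_one {n : Type*} [DecidableEq n] : ct lam (1 : Matrix n n R) = 1 := by simp [ct]

theorem ct_ct (hlam : ∀ r, lam (lam r) = r) {m n : Type*} (a : Matrix m n R) :
    ct lam (ct lam a) = a := by
  ext i j; simp [ct, hlam]

theorem ct_fromBlocks {l m n o : Type*} (a : Matrix n l R) (b : Matrix n m R) (c : Matrix o l R)
    (d : Matrix o m R) :
    ct lam (fromBlocks a b c d) = fromBlocks (ct lam a) (ct lam c) (ct lam b) (ct lam d) := by
  simp [ct, fromBlocks_map, fromBlocks_transpose]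

theorem ct_neg {m n : Type*} (a : Matrix m n R) : ct lam (-a) = -ct lam a := by
  ext i j; simp [ct]

theorem ct_smul {m n : Type*} (c : R) (a : Matrix m n R) : ct lam (c • a) = lam c • ct lam a := by
  ext i j; simp [ct]

theorem ct_inv {n : Type*} [Fintype n] [DecidableEq n] (g : Matrix n n R) (hg : IsUnit g.det) :
    ct lam g * ct lam g⁻¹ = 1 := by
  rw [← ct_mul, Matrix.nonsing_inv_mul g hg, ct_one]

section

variable {ι : Type*} [Fintype ι] [DecidableEq ι]

theorem Cong.refl (w : Matrix ι ι R) : Cong lam w w := ⟨1, by simp [ct_one]⟩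

theorem Cong.trans {w₁ w₂ w₃ : Matrix ι ι R} (h : Cong lam w₁ w₂) (h' : Cong lam w₂ w₃) :
    Cong lam w₁ w₃ := by
  obtain ⟨g, rfl⟩ := h
  obtain ⟨g', rfl⟩ := h'
  exact ⟨g' * g, by simp [ct_mul, mul_assoc]⟩

theorem Cong.symm {w w' : Matrix ι ι R} (h : Cong lam w w') : Cong lam w' w := by
  obtain ⟨g, rfl⟩ := h
  refine ⟨g⁻¹, ?_⟩
  calc (↑g⁻¹ : Matrix ι ι R) * (↑g * w * ct lam ↑g) * ct lam ↑g⁻¹
      = (↑g⁻¹ * ↑g) * w * (ct lam ↑g * ct lam ↑g⁻¹) := by simp only [mul_assoc]
    _ = w := by rw [Units.inv_mul, ← ct_mul, Units.inv_mul, ct_one, one_mul, mul_one]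

theorem Cong.isUnit_det {w w' : Matrix ι ι R} (h : Cong lam w w') (hw : IsUnit w.det) :
    IsUnit w'.det := by
  obtain ⟨g, rfl⟩ := h
  have hg : IsUnit (g : Matrix ι ι R).det := (Matrix.isUnit_iff_isUnit_det _).1 g.isUnit
  rw [det_mul, det_mul, ct, det_transpose, ← RingEquiv.mapMatrix_apply, ← RingEquiv.map_det]
  exact (hg.mul hw).mul (hg.map lam)

theorem Cong.symmetry {w w' : Matrix ι ι R} (hlam : ∀ r, lam (lam r) = r) (h : Cong lam w w')
    {ε : R} (hw : ct lam w = ε • w) : ct lam w' = ε • w' := by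
  obtain ⟨g, rfl⟩ := h
  rw [ct_mul, ct_mul, hw, ct_ct hlam]
  simp [mul_assoc]

theorem Cong.of_submatrix {κ : Type*} [Fintype κ] [DecidableEq κ] (σ : κ ≃ ι)
    {w w' : Matrix ι ι R} (h : Cong lam (w.submatrix σ σ) (w'.submatrix σ σ)) : Cong lam w w' := by
  obtain ⟨g, hg⟩ := h
  refine ⟨(Units.map (Matrix.reindexAlgEquiv R R σ).toAlgHom.toRingHom.toMonoidHom) g, ?_⟩
  have hct : ct lam ((Matrix.reindexAlgEquiv R R σ) (g : Matrix κ κ R)) =
      (Matrix.reindexAlgEquiv R R σ) (ct lam (g : Matrix κ κ R)) := by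
    ext i j; simp [ct]
  have e : ∀ v : Matrix ι ι R, v = (Matrix.reindexAlgEquiv R R σ) (v.submatrix σ σ) := by
    intro v; ext i j; simp
  simp only [Units.coe_map]
  change (Matrix.reindexAlgEquiv R R σ) (g : Matrix κ κ R) * w *
    ct lam ((Matrix.reindexAlgEquiv R R σ) (g : Matrix κ κ R)) = w'
  rw [hct, e w, ← map_mul, ← map_mul, hg, ← e w']

end

variable [IsLocalRing R]

theorem exists_unit_entry {ι : Type*} [Fintype ι] [DecidableEq ι] {w : Matrix ι ι R}
    (hw : IsUnit w.det) (i : ι) : ∃ j, IsUnit (w i j) := by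
  by_contra h
  push Not at h
  have : w.det ∈ maximalIdeal R := by
    rw [← Matrix.det_transpose, Matrix.det_apply]
    refine sum_mem fun σ _ => Submodule.smul_of_tower_mem _ _ ?_
    exact Ideal.mem_of_dvd _ (Finset.dvd_prod_of_mem _ (Finset.mem_univ i))
      ((mem_maximalIdeal _).2 (h (σ i)))
  exact (mem_maximalIdeal _).1 this hw

/-- Schur complement congruence. -/
theorem cong_schur (hlam : ∀ r, lam (lam r) = r) {κ μ : Type*} [Fintype κ] [DecidableEq κ]
    [Fintype μ] [DecidableEq μ] (a : Matrix κ κ R) (b : Matrix κ μ R) (c : Matrix μ κ R)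
    (d : Matrix μ μ R) (ha : IsUnit a.det) (hsym : ct lam (c * a⁻¹) = a⁻¹ * b) :
    Cong lam (fromBlocks a b c d) (fromBlocks a 0 0 (d - c * a⁻¹ * b)) := by
  let g : Matrix (κ ⊕ μ) (κ ⊕ μ) R := fromBlocks 1 0 (-(c * a⁻¹)) 1
  have hg : IsUnit g.det := by simp [g, Matrix.det_fromBlocks_zero₁₂]
  refine ⟨((Matrix.isUnit_iff_isUnit_det g).2 hg).unit, ?_⟩
  rw [IsUnit.unit_spec]
  simp only [g, ct_fromBlocks, ct_one, ct_neg, hsym, fromBlocks_multiply]
  have h0 : ct lam (0 : Matrix κ μ R) = 0 := by ext i j; simp [ct]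
  have e1 : -(c * a⁻¹) * a + c = 0 := by
    rw [Matrix.neg_mul, Matrix.mul_assoc, Matrix.nonsing_inv_mul a ha, Matrix.mul_one,
      neg_add_cancel]
  have e2 : a * -(a⁻¹ * b) + b = 0 := by
    rw [Matrix.mul_neg, ← Matrix.mul_assoc, Matrix.mul_nonsing_inv a ha, Matrix.one_mul,
      neg_add_cancel]
  simp only [Matrix.one_mul, Matrix.mul_one, Matrix.zero_mul, Matrix.mul_zero, add_zero, zero_add,
    h0, e1, e2]
  congr 1
  rw [Matrix.neg_mul, sub_eq_add_neg, add_comm]

theorem cong_blocks {κ μ : Type*} [Fintype κ] [DecidableEq κ] [Fintype μ] [DecidableEq μ]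
    {a a' : Matrix κ κ R} {d d' : Matrix μ μ R} (ha : Cong lam a a') (hd : Cong lam d d') :
    Cong lam (fromBlocks a 0 0 d) (fromBlocks a' 0 0 d') := by
  obtain ⟨g, rfl⟩ := ha
  obtain ⟨h, rfl⟩ := hd
  refine ⟨⟨fromBlocks g 0 0 h, fromBlocks ↑g⁻¹ 0 0 ↑h⁻¹, ?_, ?_⟩, ?_⟩
  · simp [fromBlocks_multiply, ← fromBlocks_one]
  · simp [fromBlocks_multiply, ← fromBlocks_one]
  · have h0 : ct lam (0 : Matrix κ μ R) = 0 := by ext i j; simp [ct]
    have h0' : ct lam (0 : Matrix μ κ R) = 0 := by ext i j; simp [ct]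
    simp [ct_fromBlocks, h0, h0', fromBlocks_multiply]

theorem det_eq_zero_of_alternating {k : Type u} [CommRing k] (h2 : (2 : k) = 0)
    {ι : Type*} [Fintype ι] [DecidableEq ι] (hodd : Odd (Fintype.card ι)) (w : Matrix ι ι k)
    (hs : wᵀ = w) (hd : ∀ i, w i i = 0) : w.det = 0 := by
  rw [Matrix.det_apply]
  have hsgn : ∀ (σ : Equiv.Perm ι) (x : k), Equiv.Perm.sign σ • x = x := by
    intro σ x
    rcases Int.units_eq_one_or (Equiv.Perm.sign σ) with h | h <;> rw [h]
    · exact one_smul _ _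
    · simp only [Units.neg_smul, one_smul]
      exact neg_eq_of_add_eq_zero_left (by rw [← two_mul, h2, zero_mul])
  simp only [hsgn]
  refine Finset.sum_involution (fun σ _ => σ⁻¹) (fun σ _ => ?_) (fun σ _ hne hσ => ?_)
    (fun σ _ => Finset.mem_univ _) (fun σ _ => inv_inv σ)
  · have : ∏ i, w (σ⁻¹ i) i = ∏ i, w (σ i) i := by
      rw [← Equiv.prod_comp σ (fun i => w (σ⁻¹ i) i)]
      refine Finset.prod_congr rfl fun i _ => ?_
      rw [Equiv.Perm.inv_def, Equiv.symm_apply_apply]
      exact congrFun (congrFun hs (σ i)) i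
    rw [this, ← two_mul, h2, zero_mul]
  · apply hne
    obtain ⟨i, hi⟩ : ∃ i, σ i = i := by
      by_contra hno
      push Not at hno
      have hsupp : σ.support = Finset.univ := Finset.eq_univ_of_forall fun i =>
        Equiv.Perm.mem_support.2 (hno i)
      have hsq : σ ^ 2 = 1 := by
        rw [sq]; nth_rw 1 [← hσ]; exact inv_mul_cancel σ
      have heven : 2 ∣ σ.support.card := by
        rw [← Equiv.Perm.sum_cycleType]
        refine Multiset.dvd_sum fun m hm => ?_
        have h1 : m ∣ 2 := (Equiv.Perm.dvd_of_mem_cycleType hm).trans (orderOf_dvd_of_pow_eq_one hsq)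
        have h3 := Equiv.Perm.two_le_of_mem_cycleType hm
        have h4 := Nat.le_of_dvd two_pos h1
        rw [show m = 2 by omega]
      rw [hsupp, Finset.card_univ] at heven
      exact (Nat.not_even_iff_odd.2 hodd) (even_iff_two_dvd.2 heven)
    exact Finset.prod_eq_zero (Finset.mem_univ i) (by rw [hi, hd])

theorem lam_inv_fixed {a : R} (hla : lam a = a) (ha : IsUnit a) :
    lam (↑ha.unit⁻¹ : R) = ↑ha.unit⁻¹ := by
  refine ha.mul_right_cancel ?_
  calc lam (↑ha.unit⁻¹ : R) * a = lam (↑ha.unit⁻¹ : R) * lam a := by rw [hla]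
    _ = ↑ha.unit⁻¹ * a := by rw [← map_mul, IsUnit.val_inv_mul, map_one]

/-- Data of a ramified local ring with involution and square roots of fixed units. -/
structure Ram (lam : R ≃+* R) : Prop where
  invol : ∀ r, lam (lam r) = r
  res : ∀ r, lam r - r ∈ maximalIdeal R
  sqrt : ∀ a, IsUnit a → lam a = a → ∃ y, lam y = y ∧ y * y = a

theorem Ram.residue_eq (h : Ram lam) (r : R) : residue R (lam r) = residue R r :=
  Ideal.Quotient.eq.2 (h.res r)

theorem isUnit_iff_residue {x : R} : IsUnit x ↔ residue R x ≠ 0 := by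
  rw [ne_eq, residue_eq_zero_iff, mem_maximalIdeal, mem_nonunits_iff, not_not]

theorem Ram.isUnit_lam (h : Ram lam) {r : R} : IsUnit (lam r) ↔ IsUnit r := by
  rw [isUnit_iff_residue, isUnit_iff_residue, h.residue_eq]

theorem Ram.ct_inv_single (h : Ram lam) {μ : Type*} {a : R} (hla : lam a = a) (ha : IsUnit a)
    (b : Matrix Unit μ R) :
    ct lam (ct lam b * (Matrix.of fun _ _ : Unit => a)⁻¹) =
      (Matrix.of fun _ _ : Unit => a)⁻¹ * b := by
  rw [ct_mul, ct_ct h.invol]
  congr 1
  have : (Matrix.of fun _ _ : Unit => a)⁻¹ = Matrix.of fun _ _ : Unit => (↑ha.unit⁻¹ : R) := by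
    refine Matrix.inv_eq_right_inv ?_
    ext i j
    simp [Matrix.mul_apply]
  rw [this]
  ext i j
  simp only [ct, Matrix.transpose_apply, Matrix.map_apply, Matrix.of_apply]
  exact lam_inv_fixed hla ha

/-- One step of diagonalisation. -/
theorem Ram.pivot (h : Ram lam) {n : ℕ} (w : Matrix (Fin (n + 1)) (Fin (n + 1)) R)
    (hw : ct lam w = w) (i₀ : Fin (n + 1)) (hu : IsUnit (w i₀ i₀)) :
    ∃ (σ : Unit ⊕ Fin n ≃ Fin (n + 1)) (d : Matrix (Fin n) (Fin n) R),
      σ (Sum.inl ()) = i₀ ∧
      Cong lam (w.submatrix σ σ) (fromBlocks (Matrix.of fun _ _ => w i₀ i₀) 0 0 d) ∧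
      ct lam d = d ∧ (∀ j, w i₀ (σ (Sum.inr j)) = 0 → d j j = w (σ (Sum.inr j)) (σ (Sum.inr j))) := by
  let σ₀ : Unit ⊕ Fin n ≃ Fin (n + 1) :=
    ((Equiv.sumComm _ _).trans (Equiv.optionEquivSumPUnit (Fin n)).symm).trans
      (finSuccEquiv' i₀).symm
  let W := w.submatrix σ₀ σ₀
  have hσ : σ₀ (Sum.inl ()) = i₀ := by simp [σ₀]
  let a : Matrix Unit Unit R := Matrix.of fun _ _ => w i₀ i₀
  let b := W.toBlocks₁₂
  have hW : W = fromBlocks a b W.toBlocks₂₁ W.toBlocks₂₂ := by
    conv_lhs => rw [← fromBlocks_toBlocks W]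
    congr 1
  have hent : ∀ i j, lam (w i j) = w j i := fun i j => congrFun (congrFun hw j) i
  have hc : W.toBlocks₂₁ = ct lam b := by
    ext i j
    simp [W, b, ct, Matrix.toBlocks₁₂, Matrix.toBlocks₂₁, hent]
  have hd : ct lam W.toBlocks₂₂ = W.toBlocks₂₂ := by
    ext i j
    simp [W, ct, Matrix.toBlocks₂₂, hent]
  have hadet : IsUnit a.det := by simpa [a] using hu
  have hsym := h.ct_inv_single (hent i₀ i₀) hu b
  refine ⟨σ₀, W.toBlocks₂₂ - ct lam b * a⁻¹ * b, hσ, ?_, ?_, ?_⟩
  · change Cong lam W _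
    conv => arg 2; rw [hW, hc]
    exact cong_schur h.invol a b (ct lam b) W.toBlocks₂₂ hadet hsym
  · have h2 : ct lam (ct lam b * a⁻¹ * b) = ct lam b * a⁻¹ * b := by
      rw [ct_mul, hsym, Matrix.mul_assoc]
    ext i j
    have e1 := congrFun (congrFun hd i) j
    have e2 := congrFun (congrFun h2 i) j
    simp only [ct, Matrix.transpose_apply, Matrix.map_apply] at e1 e2
    simp only [ct, Matrix.transpose_apply, Matrix.map_apply, Matrix.sub_apply, map_sub, e1, e2]
  · intro j hj
    have : b () j = 0 := by simpa [b, W, Matrix.toBlocks₁₂, hσ] using hj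
    simp [Matrix.mul_apply, this, W, Matrix.toBlocks₂₂]

theorem cong_transvection (hlam : ∀ r, lam (lam r) = r) {ι : Type*} [Fintype ι] [DecidableEq ι]
    (w : Matrix ι ι R) (i j : ι) (hij : i ≠ j) (x : R) :
    ∃ w', Cong lam w w' ∧ w' i i = w i i + x * w j i + lam x * (w i j + x * w j j) ∧
      (∀ k, k ≠ i → w' i k = w i k + x * w j k) ∧
      (∀ k, k ≠ i → w' k i = w k i + lam x * w k j) ∧
      (∀ k l, k ≠ i → l ≠ i → w' k l = w k l) := by
  have hg : IsUnit (transvection i j x).det := by simp [det_transvection_of_ne i j hij]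
  refine ⟨transvection i j x * w * ct lam (transvection i j x),
    ⟨((Matrix.isUnit_iff_isUnit_det _).2 hg).unit, by rw [IsUnit.unit_spec]⟩, ?_⟩
  have hct : ct lam (transvection i j x) = transvection j i (lam x) := by
    ext p q
    simp only [ct, transvection, Matrix.transpose_apply, Matrix.map_apply, Matrix.add_apply,
      map_add, Matrix.one_apply, Matrix.single_apply, apply_ite lam, map_one, map_zero]
    congr 1
    · exact if_congr eq_comm rfl rfl
    · exact if_congr and_comm rfl rfl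
  rw [hct]
  refine ⟨?_, fun k hk => ?_, fun k hk => ?_, fun k l hk hl => ?_⟩
  · simp [mul_transvection_apply_same, transvection_mul_apply_same]
  · rw [mul_transvection_apply_of_ne _ _ _ _ hk, transvection_mul_apply_same]
  · rw [mul_transvection_apply_same, transvection_mul_apply_of_ne _ _ _ _ hk,
      transvection_mul_apply_of_ne _ _ _ _ hk]
  · rw [mul_transvection_apply_of_ne _ _ _ _ hl, transvection_mul_apply_of_ne _ _ _ _ hk]

/-- Hermitian matrices with some unit diagonal entry are congruent to `1`. -/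
theorem Ram.cong_one (h : Ram lam) :
    ∀ {n : ℕ} (w : Matrix (Fin n) (Fin n) R), ct lam w = w → IsUnit w.det →
      (n = 0 ∨ ∃ i, IsUnit (w i i)) → Cong lam w 1 := by
  intro n
  induction n with
  | zero =>
    intro w _ _ _
    have : w = 1 := Subsingleton.elim _ _
    rw [this]; exact Cong.refl _
  | succ n ih =>
    intro w hw hdet hd
    obtain ⟨i₀, hu⟩ := hd.resolve_left (Nat.succ_ne_zero n)
    -- first pivot
    obtain ⟨σ, d, hσ, hc, hdd, -⟩ := h.pivot w hw i₀ hu
    have hddet : IsUnit d.det := by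
      have := hc.isUnit_det (by rwa [Matrix.det_submatrix_equiv_self])
      rw [Matrix.det_fromBlocks_zero₂₁] at this
      exact isUnit_of_mul_isUnit_right this
    have hone : ∀ (w' : Matrix (Fin (n + 1)) (Fin (n + 1)) R) (σ : Unit ⊕ Fin n ≃ Fin (n + 1))
        (a : R) (d : Matrix (Fin n) (Fin n) R), IsUnit a → lam a = a →
        Cong lam (w'.submatrix σ σ) (fromBlocks (Matrix.of fun _ _ => a) 0 0 d) →
        Cong lam d 1 → Cong lam w' 1 := by
      intro w' σ a d ha hla hc hd1
      refine Cong.of_submatrix σ ?_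
      rw [Matrix.submatrix_one_equiv, ← fromBlocks_one]
      refine hc.trans (cong_blocks ?_ hd1)
      obtain ⟨y, hy, hyy⟩ := h.sqrt a ha hla
      have hyu : IsUnit y := isUnit_of_mul_isUnit_left (hyy ▸ ha)
      refine ⟨⟨Matrix.of fun _ _ => ↑hyu.unit⁻¹, Matrix.of fun _ _ => y, ?_, ?_⟩, ?_⟩
      · ext i j; simp [Matrix.mul_apply]
      · ext i j; simp [Matrix.mul_apply]
      · have hly : lam (↑hyu.unit⁻¹ : R) = (↑hyu.unit⁻¹ : R) := lam_inv_fixed hy hyu
        ext i j
        simp only [Matrix.mul_apply, ct, Finset.univ_unique, Finset.sum_singleton,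
          Matrix.of_apply, Matrix.transpose_apply, Matrix.map_apply, hly, ← hyy, Matrix.one_apply,
          if_pos (Subsingleton.elim i j)]
        rw [← mul_assoc, IsUnit.val_inv_mul, one_mul, IsUnit.mul_val_inv, if_pos trivial]
    have hla : lam (w i₀ i₀) = w i₀ i₀ := congrFun (congrFun hw i₀) i₀
    by_cases hgood : n = 0 ∨ ∃ j, IsUnit (d j j)
    · exact hone w σ _ d hu hla hc (ih d hdd hddet hgood)
    push Not at hgood
    obtain ⟨hn, hnd⟩ := hgood
    obtain ⟨p⟩ : Nonempty (Fin n) := ⟨⟨0, Nat.pos_of_ne_zero hn⟩⟩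
    obtain ⟨q, hq⟩ := exists_unit_entry hddet p
    have hpq : p ≠ q := fun e => hnd q (e ▸ hq)
    have hent : ∀ i j, lam (d i j) = d j i := fun i j => congrFun (congrFun hdd j) i
    by_cases h2 : IsUnit (2 : R)
    · obtain ⟨d', hd', hpp, -⟩ := cong_transvection h.invol d p q hpq 1
      have hu' : IsUnit (d' p p) := by
        rw [isUnit_iff_residue, hpp]
        have h0 : ∀ i, residue R (d i i) = 0 := fun i => by
          by_contra hne; exact hnd i (isUnit_iff_residue.2 hne)
        rw [← hent p q]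
        simp only [map_one, one_mul, map_add, h0, h.residue_eq, zero_add, add_zero, ← two_mul]
        refine mul_ne_zero ?_ (isUnit_iff_residue.1 hq)
        rw [← map_ofNat (residue R) 2]; exact isUnit_iff_residue.1 h2
      have hsy : ct lam d' = d' := by
        simpa using hd'.symmetry h.invol (ε := 1) (by simpa using hdd)
      exact hone w σ _ d hu hla hc
        (hd'.trans (ih d' hsy (hd'.isUnit_det hddet) (Or.inr ⟨p, hu'⟩)))
    -- residue characteristic two
    let W := fromBlocks (Matrix.of fun _ _ : Unit => w i₀ i₀) 0 0 d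
    let E := W.submatrix σ.symm σ.symm
    have hcE : Cong lam w E := by
      refine Cong.of_submatrix σ ?_
      have : E.submatrix σ σ = W := by ext i j; simp [E]
      rw [this]; exact hc
    have hEsym : ct lam E = E := by
      simpa using hcE.symmetry h.invol (ε := 1) (by simpa using hw)
    let I := σ (Sum.inl ())
    let P := σ (Sum.inr p)
    let Q := σ (Sum.inr q)
    have hIP : I ≠ P := by simp [I, P]
    have hIQ : I ≠ Q := by simp [I, Q]
    have hPQ : P ≠ Q := by simp [P, Q, hpq]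
    obtain ⟨E₁, hE₁, hII, hIk, hkI, hkl⟩ := cong_transvection h.invol E I P hIP 1
    have hE₁sym : ct lam E₁ = E₁ := by
      simpa using hE₁.symmetry h.invol (ε := 1) (by simpa using hEsym)
    -- remove the `P` component of the pivot row
    have hEII : E I I = w i₀ i₀ := by simp [E, W, I]
    have hEIP : E I P = 0 := by simp [E, W, I, P]
    have hEPI : E P I = 0 := by simp [E, W, I, P]
    have hEIQ : E I Q = 0 := by simp [E, W, I, Q]
    have hEQI : E Q I = 0 := by simp [E, W, I, Q]
    have hEPQ : E P Q = d p q := by simp [E, W, P, Q]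
    have hEQP : E Q P = d q p := by simp [E, W, P, Q]
    have hEPP : E P P = d p p := by simp [E, W, P]
    have hEQQ : E Q Q = d q q := by simp [E, W, Q]
    have h0 : ∀ i, residue R (d i i) = 0 := fun i => by
      by_contra hne; exact hnd i (isUnit_iff_residue.2 hne)
    have hr2 : (2 : ResidueField R) = 0 := by
      by_contra hne; rw [← map_ofNat (residue R) 2] at hne; exact h2 (isUnit_iff_residue.2 hne)
    -- the corrected entries
    have e1 : E₁ I I = w i₀ i₀ + d p p := by
      rw [hII, hEII, hEPI, hEIP, hEPP, map_one]; ring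
    have e2 : E₁ Q I = d q p := by rw [hkI Q (Ne.symm hIQ), hEQI, hEQP, map_one]; ring
    have e3 : E₁ I Q = d p q := by rw [hIk Q (Ne.symm hIQ), hEIQ, hEPQ]; ring
    have e4 : E₁ Q Q = d q q := by rw [hkl Q Q (Ne.symm hIQ) (Ne.symm hIQ), hEQQ]
    obtain ⟨b, hb⟩ : ∃ b, b * (w i₀ i₀ + d p p) = 1 := by
      have : IsUnit (w i₀ i₀ + d p p) := by
        rw [isUnit_iff_residue, map_add, h0, add_zero]; exact isUnit_iff_residue.1 hu
      exact isUnit_iff_exists_inv'.1 this
    obtain ⟨E₃, hE₃, hQQ', hQk', hkQ', hkl''⟩ :=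
      cong_transvection h.invol E₁ Q I (Ne.symm hIQ) (-(d q p) * b)
    have f1 : E₃ I I = w i₀ i₀ + d p p := by rw [hkl'' I I hIQ hIQ, e1]
    have f2 : E₃ Q I = 0 := by
      rw [hQk' I hIQ, e2, e1, mul_assoc, hb, mul_one, add_neg_cancel]
    have hsym3 : ct lam E₃ = E₃ := by
      simpa using hE₃.symmetry h.invol (ε := 1) (by simpa using hE₁sym)
    have f3 : E₃ I Q = 0 := by
      have := congrFun (congrFun hsym3 I) Q
      simp only [ct, Matrix.transpose_apply, Matrix.map_apply, f2, map_zero] at this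
      exact this.symm
    have f4 : IsUnit (E₃ Q Q) := by
      have hbu : residue R b ≠ 0 := isUnit_iff_residue.1 (IsUnit.of_mul_eq_one _ hb)
      have hdu : residue R (d q p) ≠ 0 := by
        rw [← hent p q, h.residue_eq]; exact isUnit_iff_residue.1 hq
      have hdd' : residue R (d p q) = residue R (d q p) := by rw [← hent q p, h.residue_eq]
      have hbw : residue R b * residue R (w i₀ i₀) = 1 := by
        have := congrArg (residue R) hb
        simpa [map_mul, map_add, h0] using this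
      rw [isUnit_iff_residue, hQQ', e4, e3, e2, e1]
      simp only [map_add, map_mul, map_neg, h.residue_eq, h0, hdd', zero_add, add_zero]
      have : -residue R (d q p) * residue R b * residue R (d q p) +
          -residue R (d q p) * residue R b *
            (residue R (d q p) + -residue R (d q p) * residue R b * residue R (w i₀ i₀)) =
          -(residue R (d q p) * residue R b * residue R (d q p)) := by
        linear_combination (residue R (d q p) * residue R (d q p) * residue R b) * hbw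
      rw [this]
      exact neg_ne_zero.2 (mul_ne_zero (mul_ne_zero hdu hbu) hdu)
    have f5 : IsUnit (E₃ I I) := by rw [f1]; exact IsUnit.of_mul_eq_one_right _ hb
    obtain ⟨τ, d₃, hτ, hc₃, hd₃, hdiag⟩ := h.pivot E₃ hsym3 I f5
    obtain ⟨j, hj⟩ : ∃ j, τ (Sum.inr j) = Q := by
      rcases hx : τ.symm Q with ⟨⟩ | j
      · exact absurd (by rw [← τ.apply_symm_apply Q, hx, hτ]) hIQ
      · exact ⟨j, by rw [← hx, τ.apply_symm_apply]⟩
    have hd₃det : IsUnit d₃.det := by
      have := hc₃.isUnit_det (by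
        rw [Matrix.det_submatrix_equiv_self]
        exact ((hcE.trans hE₁).trans hE₃).isUnit_det hdet)
      rw [Matrix.det_fromBlocks_zero₂₁] at this
      exact isUnit_of_mul_isUnit_right this
    have hjj : IsUnit (d₃ j j) := by rw [hdiag j (hj ▸ f3), hj]; exact f4
    exact ((hcE.trans hE₁).trans hE₃).trans (hone E₃ τ _ d₃ f5 (congrFun (congrFun hsym3 I) I)
      hc₃ (ih d₃ hd₃ hd₃det (Or.inr ⟨j, hjj⟩)))

/-- Hermitian invertible matrices with `2` invertible or of odd size are congruent to `1`. -/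
theorem Ram.cong_one_of (h : Ram lam) {n : ℕ} (w : Matrix (Fin n) (Fin n) R) (hw : ct lam w = w)
    (hdet : IsUnit w.det) (hc : IsUnit (2 : R) ∨ Odd n) : Cong lam w 1 := by
  rcases Nat.eq_zero_or_pos n with rfl | hn
  · exact h.cong_one w hw hdet (Or.inl rfl)
  by_cases hd : ∃ i, IsUnit (w i i)
  · exact h.cong_one w hw hdet (Or.inr hd)
  push Not at hd
  have h0 : ∀ i, residue R (w i i) = 0 := fun i => by
    by_contra hne; exact hd i (isUnit_iff_residue.2 hne)
  have hent : ∀ i j, lam (w i j) = w j i := fun i j => congrFun (congrFun hw j) i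
  by_cases h2 : IsUnit (2 : R)
  · obtain ⟨q, hq⟩ := exists_unit_entry hdet (⟨0, hn⟩ : Fin n)
    have hpq : (⟨0, hn⟩ : Fin n) ≠ q := fun e => hd q (e ▸ hq)
    obtain ⟨w', hw', hpp, -⟩ := cong_transvection h.invol w _ q hpq 1
    refine hw'.trans (h.cong_one w' (by simpa using hw'.symmetry h.invol (ε := 1) (by simpa using hw))
      (hw'.isUnit_det hdet) (Or.inr ⟨⟨0, hn⟩, ?_⟩))
    rw [isUnit_iff_residue, hpp, ← hent ⟨0, hn⟩ q]
    simp only [map_one, one_mul, map_add, h0, h.residue_eq, zero_add, add_zero, ← two_mul]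
    refine mul_ne_zero ?_ (isUnit_iff_residue.1 hq)
    rw [← map_ofNat (residue R) 2]; exact isUnit_iff_residue.1 h2
  · exfalso
    have hodd : Odd n := hc.resolve_left h2
    have hz : ((residue R).mapMatrix w).det = 0 := by
      refine det_eq_zero_of_alternating ?_ (by simpa using hodd) _ ?_ h0
      · by_contra hne; rw [← map_ofNat (residue R) 2] at hne; exact h2 (isUnit_iff_residue.2 hne)
      · ext i j
        change residue R (w j i) = residue R (w i j)
        rw [← hent i j, h.residue_eq]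
    rw [← RingHom.map_det] at hz
    exact isUnit_iff_residue.1 hdet hz

end Groth.Agent.AzInv26
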