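import Groth.Agent.Azu26.Hull
import Mathlib.RingTheory.Etale.Pi
import Mathlib.RingTheory.Spectrum.Prime.Chevalley
import Mathlib.RingTheory.Flat.FaithfullyFlat.Algebra
import Mathlib.RingTheory.LocalRing.ResidueField.Ideal
import Mathlib.RingTheory.Ideal.GoingDown
import Mathlib.RingTheory.Etale.Field
import Mathlib.RingTheory.Smooth.Flat

/-! From strict henselizations to etale covers. -/

namespace Groth.Agent.AzInv26

open scoped TensorProduct
open Groth.Agent CategoryTheory

universe u w

variable {S : Type u} [CommRing S]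

/-- A geometric point over a prime. -/
abbrev GPt (p : PrimeSpectrum S) : Type u := AlgebraicClosure p.asIdeal.ResidueField

theorem algebraMap_gpt_eq_zero (p : PrimeSpectrum S) (x : S) :
    algebraMap S (GPt p) x = 0 ↔ x ∈ p.asIdeal := by
  rw [IsScalarTower.algebraMap_apply S p.asIdeal.ResidueField (GPt p), map_eq_zero,
    Ideal.algebraMap_residueField_eq_zero]

theorem exists_cover (P : ∀ (T : Type u) [CommRing T] [Algebra S T], Prop)
    (hpi : ∀ (n : ℕ) (T : Fin n → Type u) [∀ i, CommRing (T i)] [∀ i, Algebra S (T i)],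
      (∀ i, P (T i)) → P (∀ i, T i))
    (hloc : ∀ p : PrimeSpectrum S, ∃ i : Henz21.Pt S (GPt p), P i.S) :
    ∃ (T : Type u) (_ : CommRing T) (_ : Algebra S T) (_ : Algebra.Etale S T)
      (_ : Module.FaithfullyFlat S T), P T := by
  classical
  choose i hi using hloc
  let U : PrimeSpectrum S → Set (PrimeSpectrum S) :=
    fun p => Set.range (PrimeSpectrum.comap (algebraMap S (i p).S))
  have hU : ∀ p, IsOpen (U p) := fun p => by
    haveI : Module.Flat S (i p).S := inferInstance
    exact (PrimeSpectrum.isOpenMap_comap_of_hasGoingDown_of_finitePresentation).isOpen_range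
  have hmem : ∀ p, p ∈ U p := by
    intro p
    refine ⟨⟨RingHom.ker (i p).pt, RingHom.ker_isPrime _⟩, ?_⟩
    ext x
    simp only [PrimeSpectrum.comap_asIdeal, Ideal.mem_comap, RingHom.mem_ker]
    change (i p).pt (algebraMap S (i p).S x) = 0 ↔ _
    rw [AlgHom.commutes, algebraMap_gpt_eq_zero]
  obtain ⟨s, hs⟩ := (isCompact_univ (X := PrimeSpectrum S)).elim_finite_subcover U hU
    fun p _ => Set.mem_iUnion.2 ⟨p, hmem p⟩
  let e := s.equivFin
  let T : Fin s.card → Type u := fun j => (i (e.symm j : PrimeSpectrum S)).S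
  refine ⟨∀ j, T j, inferInstance, inferInstance, inferInstance, ?_,
    hpi _ T fun j => hi _⟩
  refine Module.FaithfullyFlat.of_comap_surjective (A := S) (B := ∀ j, T j) fun p => ?_
  obtain ⟨q, hq, hp⟩ := Set.mem_iUnion₂.1 (hs (Set.mem_univ p))
  obtain ⟨P₀, hP₀⟩ := hp
  let j := e ⟨q, hq⟩
  have hj : (e.symm j : PrimeSpectrum S) = q := by simp [j]
  obtain ⟨P₁, hP₁⟩ : ∃ P₁ : PrimeSpectrum (T j),
      PrimeSpectrum.comap (algebraMap S (T j)) P₁ = p := by
    have : ∀ q', q' = q → ∃ P₁ : PrimeSpectrum (i q').S,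
        PrimeSpectrum.comap (algebraMap S (i q').S) P₁ = p := by
      rintro _ rfl
      exact ⟨P₀, hP₀⟩
    exact this _ hj
  refine ⟨PrimeSpectrum.comap (Pi.evalRingHom T j) P₁, ?_⟩
  rw [← hP₁]
  rfl

section Tensor

variable {K : Type u} [Field K] [Algebra S K] {M : Type w} [AddCommGroup M] [Module S M]

theorem exists_stage_eqs [IsAlgClosed K] (i : Henz21.Pt S K) (s : Finset (i.S ⊗[S] M))
    (h : ∀ x ∈ s, LinearMap.rTensor M (Henz21.H.incl i).toLinearMap x = 0) :
    ∃ (k : Henz21.Pt S K) (f : i ⟶ k), ∀ x ∈ s, LinearMap.rTensor M f.φ.toLinearMap x = 0 := by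
  classical
  induction s using Finset.induction with
  | empty => exact ⟨i, 𝟙 i, by simp⟩
  | insert a s ha ih =>
    obtain ⟨k, f, hf⟩ := ih fun x hx => h x (Finset.mem_insert_of_mem hx)
    have h0 : LinearMap.rTensor M (Henz21.H.incl k).toLinearMap
        (LinearMap.rTensor M f.φ.toLinearMap a) = 0 := by
      rw [← LinearMap.rTensor_comp_apply, ← AlgHom.comp_toLinearMap, Henz21.H.incl_comp]
      exact h a (Finset.mem_insert_self _ _)
    obtain ⟨l, g, hg⟩ := Azu26.exists_stage_eq_zero k _ h0
    refine ⟨l, f ≫ g, fun x hx => ?_⟩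
    rw [Henz21.Pt.comp_φ, AlgHom.comp_toLinearMap, LinearMap.rTensor_comp_apply]
    rcases Finset.mem_insert.1 hx with rfl | hx
    · exact hg
    · rw [hf x hx, map_zero]

theorem exists_stage_family [IsAlgClosed K] {ι : Type*} [Finite ι]
    (v : ι → Henz21.H S K ⊗[S] M) :
    ∃ (i : Henz21.Pt S K) (w : ι → i.S ⊗[S] M),
      ∀ j, LinearMap.rTensor M (Henz21.H.incl i).toLinearMap (w j) = v j := by
  classical
  cases nonempty_fintype ι
  suffices h : ∀ s : Finset ι, ∃ (i : Henz21.Pt S K) (w : ι → i.S ⊗[S] M),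
      ∀ j ∈ s, LinearMap.rTensor M (Henz21.H.incl i).toLinearMap (w j) = v j by
    obtain ⟨i, w, hw⟩ := h Finset.univ
    exact ⟨i, w, fun j => hw j (Finset.mem_univ j)⟩
  intro s
  induction s using Finset.induction with
  | empty => exact ⟨Henz21.H.base S K, fun _ => 0, by simp⟩
  | insert a s ha ih =>
    obtain ⟨i, w, hw⟩ := ih
    obtain ⟨k, y, hy⟩ := Azu26.exists_stage_tensor (v a)
    refine ⟨IsFiltered.max i k, Function.update
      (fun j => LinearMap.rTensor M (IsFiltered.leftToMax i k).φ.toLinearMap (w j)) a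
      (LinearMap.rTensor M (IsFiltered.rightToMax i k).φ.toLinearMap y), fun j hj => ?_⟩
    rcases eq_or_ne j a with rfl | hne
    · rw [Function.update_self, ← LinearMap.rTensor_comp_apply, ← AlgHom.comp_toLinearMap,
        Henz21.H.incl_comp, hy]
    · rw [Function.update_of_ne hne, ← LinearMap.rTensor_comp_apply, ← AlgHom.comp_toLinearMap,
        Henz21.H.incl_comp]
      exact hw j ((Finset.mem_insert.1 hj).resolve_left hne)

theorem pi_tensor_bijective {n : ℕ} (T : Fin n → Type u) [∀ i, CommRing (T i)]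
    [∀ i, Algebra S (T i)] :
    Function.Bijective fun (z : (∀ i, T i) ⊗[S] M) (i : Fin n) =>
      LinearMap.rTensor M (LinearMap.proj (R := S) (φ := T) i) z := by
  let inv : (∀ i, T i ⊗[S] M) → (∀ i, T i) ⊗[S] M := fun y =>
    ∑ i, LinearMap.rTensor M (LinearMap.single S T i) (y i)
  refine Function.bijective_iff_has_inverse.2 ⟨inv, fun z => ?_, fun y => funext fun j => ?_⟩
  · simp only [inv]
    induction z using TensorProduct.induction_on with
    | zero => simp
    | tmul a m =>
      simp only [LinearMap.rTensor_tmul, LinearMap.coe_proj, Function.eval,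
        LinearMap.coe_single, ← TensorProduct.sum_tmul]
      rw [Finset.univ_sum_single]
    | add a b ha hb => simp only [map_add, Finset.sum_add_distrib, ha, hb]
  · simp only [inv, map_sum, ← LinearMap.rTensor_comp_apply]
    rw [Finset.sum_eq_single j]
    · have : LinearMap.proj (R := S) (φ := T) j ∘ₗ LinearMap.single S T j = LinearMap.id := by
        ext a; simp
      rw [this, LinearMap.rTensor_id, LinearMap.id_apply]
    · intro i _ hi
      have : LinearMap.proj (R := S) (φ := T) j ∘ₗ LinearMap.single S T i = 0 := by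
        ext a; simp [Pi.single_eq_of_ne (Ne.symm hi)]
      rw [this, LinearMap.rTensor_zero, LinearMap.zero_apply]
    · simp

end Tensor

end Groth.Agent.AzInv26
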