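import Groth.Agent.AzInv26.HullNormal

/-! Descent of finite systems of equations, and applications to automorphisms and splittings. -/

namespace Groth.Agent.AzInv26

open scoped TensorProduct
open AzInv CategoryTheory

universe u v w u'

section Equations

variable {S : Type u} [CommRing S] {A : Type w} [Ring A] [Algebra S A]

variable (A) in
/-- Functoriality of `T ⊗[S] A` in `T`. -/
noncomputable def mapA {T T' : Type u'} [CommRing T] [Algebra S T] [CommRing T'] [Algebra S T']
    (ψ : T →ₐ[S] T') : T ⊗[S] A →ₐ[S] T' ⊗[S] A :=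
  Algebra.TensorProduct.map ψ (AlgHom.id S A)

@[simp]
theorem mapA_tmul {T T' : Type u'} [CommRing T] [Algebra S T] [CommRing T'] [Algebra S T']
    (ψ : T →ₐ[S] T') (x : T) (a : A) : mapA A ψ (x ⊗ₜ[S] a) = ψ x ⊗ₜ[S] a := by simp [mapA]

theorem mapA_eq_rTensor {T T' : Type u'} [CommRing T] [Algebra S T] [CommRing T'] [Algebra S T']
    (ψ : T →ₐ[S] T') (x : T ⊗[S] A) : mapA A ψ x = LinearMap.rTensor A ψ.toLinearMap x := by
  induction x using TensorProduct.induction_on with
  | zero => simp
  | tmul a b => simp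
  | add a b ha hb => simp only [map_add, ha, hb]

/-- A finite system of equations soluble over every strict henselization is soluble on a cover. -/
theorem exists_cover_system {ι κ : Type*} [Finite ι] [Finite κ]
    (E : ∀ (T : Type u) [CommRing T] [Algebra S T], (ι → T ⊗[S] A) → κ → T ⊗[S] A)
    (hE : ∀ (T T' : Type u) [CommRing T] [Algebra S T] [CommRing T'] [Algebra S T']
      (ψ : T →ₐ[S] T') (v : ι → T ⊗[S] A) (k : κ),
        E T' (fun i => mapA A ψ (v i)) k = mapA A ψ (E T v k))
    (h : ∀ p : PrimeSpectrum S, ∃ v, ∀ k, E (Henz21.H S (GPt p)) v k = 0) :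
    ∃ (T : Type u) (_ : CommRing T) (_ : Algebra S T) (_ : Algebra.Etale S T)
      (_ : Module.FaithfullyFlat S T) (v : ι → T ⊗[S] A), ∀ k, E T v k = 0 := by
  classical
  cases nonempty_fintype κ
  obtain ⟨T, i1, i2, i3, i4, hT⟩ := exists_cover (S := S) (fun T _ _ => ∃ v, ∀ k, E T v k = 0)
    (fun n T _ _ hT => by
      choose v hv using hT
      choose x hx using fun q => (pi_tensor_bijective (M := A) T).2 fun i => v i q
      refine ⟨x, fun k => (pi_tensor_bijective (M := A) T).1 (funext fun i => ?_)⟩
      dsimp only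
      change LinearMap.rTensor A (Pi.evalAlgHom S T i).toLinearMap _ =
        LinearMap.rTensor A (Pi.evalAlgHom S T i).toLinearMap 0
      rw [← mapA_eq_rTensor, map_zero, ← hE]
      convert hv i k using 2
      funext q
      rw [mapA_eq_rTensor]
      exact congrFun (hx q) i)
    (fun p => by
      obtain ⟨v, hv⟩ := h p
      obtain ⟨i, w, hw⟩ := exists_stage_family v
      obtain ⟨k, f, hf⟩ := exists_stage_eqs i (Finset.univ.image (E i.S w)) fun z hz => by
        obtain ⟨q, -, rfl⟩ := Finset.mem_image.1 hz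
        rw [← mapA_eq_rTensor, ← hE, funext fun j => (mapA_eq_rTensor _ (w j)).trans (hw j)]
        exact hv q
      refine ⟨k, fun j => mapA A f.φ (w j), fun q => ?_⟩
      rw [hE, mapA_eq_rTensor]
      exact hf _ (Finset.mem_image_of_mem _ (Finset.mem_univ q)))
  obtain ⟨v, hv⟩ := hT
  exact ⟨T, i1, i2, i3, i4, v, hv⟩

end Equations

attribute [local instance] Algebra.TensorProduct.rightAlgebra

section Scalars

variable {S : Type u} [CommRing S] {R : Type v} [CommRing R] [Algebra S R]
  {A : Type w} [Ring A] [Algebra S A] [Algebra R A] [IsScalarTower S R A]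
  {T : Type u'} [CommRing T] [Algebra S T]

variable (T R A) in
/-- The scalars of `T ⊗[S] A`. -/
noncomputable def scal : T ⊗[S] R →ₐ[T] T ⊗[S] A :=
  Algebra.TensorProduct.map (AlgHom.id T T) (IsScalarTower.toAlgHom S R A)

@[simp]
theorem scal_tmul (x : T) (r : R) : scal R A T (x ⊗ₜ[S] r) = x ⊗ₜ[S] algebraMap R A r := by
  simp [scal]

theorem phi_scal (z : T ⊗[S] R) : phi R T A (scal R A T z) = algebraMap (T ⊗[S] R) _ z := by
  induction z using TensorProduct.induction_on with
  | zero => simp
  | tmul x r => rw [scal_tmul, phi_scalar]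
  | add a b ha hb => simp only [map_add, ha, hb]

theorem scal_commute (z : T ⊗[S] R) (x : T ⊗[S] A) : scal R A T z * x = x * scal R A T z :=
  (phi R T A).injective (by rw [map_mul, map_mul, phi_scal, Algebra.commutes])

theorem scal_injective [IsAzumaya R A] : Function.Injective (scal R A T (S := S)) := by
  intro z z' h
  haveI := Azu26.isAzumaya_baseChange R (T ⊗[S] R) A
  apply Azu26.algebraMap_injective (R := T ⊗[S] R) (A := (T ⊗[S] R) ⊗[R] A)
  rw [← phi_scal, ← phi_scal, h]

theorem exists_scal_of_central [IsAzumaya R A] (c : T ⊗[S] A)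
    (hc : ∀ a : A, c * ((1 : T) ⊗ₜ[S] a) = ((1 : T) ⊗ₜ[S] a) * c) : ∃ z, scal R A T z = c := by
  haveI := Azu26.isAzumaya_baseChange R (T ⊗[S] R) A
  have hall : ∀ x, c * x = x * c := by
    intro x
    induction x using TensorProduct.induction_on with
    | zero => simp
    | tmul s a =>
      have e : s ⊗ₜ[S] a = s • ((1 : T) ⊗ₜ[S] a) := by
        rw [TensorProduct.smul_tmul', smul_eq_mul, mul_one]
      rw [e, mul_smul_comm, smul_mul_assoc, hc]
    | add a b ha hb => rw [mul_add, add_mul, ha, hb]
  obtain ⟨z, hz⟩ := (Azu26.mem_center_iff (R := T ⊗[S] R) (A := (T ⊗[S] R) ⊗[R] A)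
    (c := phi R T A c)).1 (fun y => by
      obtain ⟨x, rfl⟩ := (phi R T A).surjective y
      rw [← map_mul, ← map_mul, hall x])
  exact ⟨z, (phi R T A).injective (by rw [phi_scal, hz])⟩

end Scalars

end Groth.Agent.AzInv26
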