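import Groth.Prelude.Def_W4c2azumayainvolQEt
import Mathlib.RingTheory.Kaehler.Basic
import Mathlib.RingTheory.Unramified.Basic
import Mathlib.RingTheory.Ideal.Cotangent
import Mathlib.RingTheory.Ideal.IdempotentFG
import Mathlib.RingTheory.Spectrum.Prime.FreeLocus
import Mathlib.RingTheory.IntegralClosure.IsIntegral.Basic
import Mathlib.RingTheory.Ideal.GoingUp
import Mathlib.RingTheory.Flat.Basic

/-! Ramification of a ring with involution over its fixed ring. -/

namespace Groth.Agent.AzInv26

open scoped TensorProduct

universe u v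

section Quad

variable {S : Type u} [CommRing S] {R : Type v} [CommRing R] [Algebra S R] {lam : R ≃ₐ[S] R}

/-- A quadratic etale algebra has no prime at which the involution is trivial. -/
theorem quadEtale_no_fixed_prime (hlam : ∀ r, lam (lam r) = r)
    (hfix : RInv.IsFixedRing S R lam.toRingEquiv) (hq : RInv.IsQuadEtale S R)
    (q : Ideal R) [q.IsPrime] (hram : ∀ r, lam r - r ∈ q) : False := by
  classical
  obtain ⟨hfin, hproj, hunr, hrk⟩ := hq
  haveI := hfin; haveI := hproj; haveI := hunr
  let I : Ideal R := Ideal.span (Set.range fun r => lam r - r)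
  have hmem : ∀ r, lam r - r ∈ I := fun r => Ideal.subset_span ⟨r, rfl⟩
  have hIq : I ≤ q := Ideal.span_le.2 (Set.range_subset_iff.2 hram)
  let δ : Derivation S R I.Cotangent :=
    { toFun := fun r => I.toCotangent ⟨lam r - r, hmem r⟩
      map_add' := fun a b => by
        rw [← map_add]
        congr 1
        ext
        simp only [map_add, Submodule.coe_add]
        abel
      map_smul' := fun s a => by
        rw [RingHom.id_apply, ← LinearMap.map_smul_of_tower]
        congr 1
        ext
        simp [smul_sub]
      map_one_eq_zero' := by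
        change I.toCotangent ⟨lam 1 - 1, hmem 1⟩ = 0
        rw [Ideal.toCotangent_eq_zero]
        simp
      leibniz' := fun a b => by
        change I.toCotangent ⟨lam (a * b) - a * b, hmem _⟩ =
          a • I.toCotangent ⟨lam b - b, hmem b⟩ + b • I.toCotangent ⟨lam a - a, hmem a⟩
        rw [← map_smul, ← map_smul, ← map_add, Ideal.toCotangent_eq]
        have e : lam (a * b) - a * b - (a * (lam b - b) + b * (lam a - a)) =
            (lam a - a) * (lam b - b) := by rw [map_mul]; ring
        simp only [Submodule.coe_add, SetLike.val_smul, smul_eq_mul, e]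
        rw [pow_two]
        exact Ideal.mul_mem_mul (hmem a) (hmem b) }
  have hδ : δ = 0 := by
    haveI : Subsingleton (Derivation S R I.Cotangent) :=
      (KaehlerDifferential.linearMapEquivDerivation (R := S) (S := R)
        (M := I.Cotangent)).symm.toEquiv.subsingleton
    exact Subsingleton.elim _ _
  have hidem : IsIdempotentElem I := by
    change I * I = I
    refine le_antisymm Ideal.mul_le_right (Ideal.span_le.2 (Set.range_subset_iff.2 fun r => ?_))
    have h1 : δ r = 0 := by rw [hδ]; rfl
    have h2 := (Ideal.toCotangent_eq_zero _ _).1 h1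
    rw [pow_two] at h2
    exact h2
  have hfg : I.FG := by
    obtain ⟨s, hs⟩ := hfin.fg_top
    refine ⟨s.image fun g => lam g - g, le_antisymm (Ideal.span_le.2 ?_) (Ideal.span_le.2 ?_)⟩
    · intro x hx
      simp only [Finset.coe_image, Set.mem_image] at hx
      obtain ⟨g, -, rfl⟩ := hx
      exact hmem g
    · rintro _ ⟨r, rfl⟩
      change lam r - r ∈ Ideal.span _
      have hr : r ∈ Submodule.span S (s : Set R) := by rw [hs]; trivial
      induction hr using Submodule.span_induction with
      | mem g hg => exact Ideal.subset_span (by simp only [Finset.coe_image]; exact ⟨g, hg, rfl⟩)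
      | zero => simp
      | add a b _ _ ha hb =>
        rw [map_add, add_sub_add_comm]
        exact add_mem ha hb
      | smul c a _ ha =>
        rw [map_smul, ← smul_sub, Algebra.smul_def]
        exact Ideal.mul_mem_left _ _ ha
  obtain ⟨e, he, hIe⟩ := (Ideal.isIdempotentElem_iff_of_fg I hfg).1 hidem
  have heI : e ∈ I := by rw [hIe]; exact Ideal.mem_span_singleton_self e
  have hkey : ∀ r, (lam r - r) * (1 - e) = 0 := by
    intro r
    have := hmem r
    rw [hIe] at this
    obtain ⟨c, hc⟩ := Ideal.mem_span_singleton'.1 this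
    rw [← hc]
    linear_combination (-c) * he.eq
  have hlam_e : lam e = e := by
    have h1 : (lam e - e) * (1 - e) = 0 := hkey e
    have h2 : (lam (lam e) - lam e) * (1 - lam e) = 0 := by
      have := congrArg lam h1
      rwa [map_mul, map_sub, map_sub, map_one, map_zero] at this
    rw [hlam] at h2
    have he' : lam e * lam e = lam e := by rw [← map_mul, he.eq]
    linear_combination h1 - h2 - he.eq + he'
  obtain ⟨f, hf⟩ := (hfix.2 (1 - e)).1 (by
    change lam (1 - e) = 1 - e
    rw [map_sub, map_one, hlam_e])
  let p : PrimeSpectrum S := ⟨q.comap (algebraMap S R), inferInstance⟩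
  have hfp : f ∈ p.asIdeal.primeCompl := by
    intro h
    change algebraMap S R f ∈ q at h
    rw [hf] at h
    exact (Ideal.IsPrime.ne_top ‹q.IsPrime›)
      ((Ideal.eq_top_iff_one q).2 (by simpa using q.add_mem h (hIq heI)))
  let Sp := Localization.AtPrime p.asIdeal
  have hspan : ∀ z : Sp ⊗[S] R, ∃ c : Sp, c • (1 : Sp ⊗[S] R) = z := by
    intro z
    induction z using TensorProduct.induction_on with
    | zero => exact ⟨0, zero_smul _ _⟩
    | tmul a r =>
      obtain ⟨s, hs⟩ := (hfix.2 (algebraMap S R f * r)).1 (by
        change lam _ = _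
        rw [map_mul, AlgEquiv.commutes, ← sub_eq_zero, ← mul_sub, mul_comm, hf]
        exact hkey r)
      obtain ⟨g, hg⟩ := isUnit_iff_exists_inv.1 (IsLocalization.map_units Sp ⟨f, hfp⟩)
      refine ⟨a * g * algebraMap S Sp s, ?_⟩
      rw [Algebra.TensorProduct.one_def, TensorProduct.smul_tmul', smul_eq_mul, mul_one,
        mul_comm (a * g), ← Algebra.smul_def, TensorProduct.smul_tmul, Algebra.smul_def, mul_one,
        hs, ← Algebra.smul_def, ← TensorProduct.smul_tmul, Algebra.smul_def, mul_left_comm, hg,
        mul_one]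
    | add x y hx hy =>
      obtain ⟨c, rfl⟩ := hx
      obtain ⟨d, rfl⟩ := hy
      exact ⟨c + d, add_smul _ _ _⟩
  have h2 : Module.rankAtStalk (R := S) R p = 2 := by simpa using hrk p
  rw [Module.rankAtStalk_eq_finrank_tensorProduct] at h2
  have h3 : Module.finrank Sp (Sp ⊗[S] R) ≤ 1 := finrank_le_one _ hspan
  simp only [Sp] at h3
  omega

end Quad

section Free

variable {P : Type u} [CommRing P] {R : Type v} [CommRing R] [Algebra P R] {lam : R ≃+* R}

/-- An element moved by a unit gives a quadratic etale structure. -/
theorem quadEtale_of_unit (hlam : ∀ r, lam (lam r) = r) (hfix : RInv.IsFixedRing P R lam) (r : R)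
    (hr : IsUnit (r - lam r)) : RInv.IsQuadEtale P R := by
  classical
  obtain ⟨i, hi⟩ := isUnit_iff_exists_inv.1 hr
  have hP : ∀ s : P, lam (algebraMap P R s) = algebraMap P R s := fun s => (hfix.2 _).2 ⟨s, rfl⟩
  have hli : lam i = -i := by
    have h1 : lam (r - lam r) * lam i = 1 := by rw [← map_mul, hi, map_one]
    rw [map_sub, hlam] at h1
    linear_combination (-i) * h1 - lam i * hi
  let f : (Fin 2 → P) →ₗ[P] R := Fintype.linearCombination P ![1, r]
  have hf : ∀ v, f v = algebraMap P R (v 0) + algebraMap P R (v 1) * r := by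
    intro v
    simp [f, Fintype.linearCombination_apply, Fin.sum_univ_two, Algebra.smul_def]
  have hinj : Function.Injective f := by
    rw [injective_iff_map_eq_zero]
    intro v hv
    rw [hf] at hv
    have h1 : algebraMap P R (v 0) + algebraMap P R (v 1) * lam r = 0 := by
      have := congrArg lam hv
      rwa [map_add, map_mul, hP, hP, map_zero] at this
    have h2 : algebraMap P R (v 1) = 0 := by
      linear_combination i * hv - i * h1 - algebraMap P R (v 1) * hi
    have h3 : algebraMap P R (v 0) = 0 := by simpa [h2] using hv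
    ext j
    fin_cases j
    · exact hfix.1 (h3.trans (map_zero _).symm)
    · exact hfix.1 (h2.trans (map_zero _).symm)
  have hsurj : Function.Surjective f := by
    intro x
    obtain ⟨y, hy⟩ := (hfix.2 ((x - lam x) * i)).1 (by
      rw [map_mul, map_sub, hlam, hli]; ring)
    obtain ⟨z, hz⟩ := (hfix.2 (x - (x - lam x) * i * r)).1 (by
      rw [map_sub, map_mul, map_mul, map_sub, hlam, hli]
      linear_combination (x - lam x) * hi)
    refine ⟨![z, y], ?_⟩
    rw [hf]
    simp [hy, hz]
  let b : Module.Basis (Fin 2) P R :=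
    Module.Basis.ofEquivFun (LinearEquiv.ofBijective f ⟨hinj, hsurj⟩).symm
  haveI := Module.Free.of_basis b
  haveI := Module.Finite.of_basis b
  refine ⟨inferInstance, inferInstance, ?_, fun p => ?_⟩
  · obtain ⟨s, hs⟩ := (hfix.2 (r + lam r)).1 (by rw [map_add, hlam, add_comm])
    obtain ⟨q, hq⟩ := (hfix.2 (r * lam r)).1 (by rw [map_mul, hlam, mul_comm])
    let D := KaehlerDifferential.D P R
    have hDr : D r = 0 := by
      have h0 : r * r - algebraMap P R s * r + algebraMap P R q = 0 := by rw [hs, hq]; ring
      have h1 := congrArg D h0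
      rw [map_add, map_sub, Derivation.leibniz, Derivation.leibniz, Derivation.map_algebraMap,
        Derivation.map_algebraMap, smul_zero, add_zero, add_zero, map_zero, ← add_smul, ← sub_smul,
        hs] at h1
      have h2 := congrArg (fun ω => i • ω) h1
      simp only [smul_zero, smul_smul] at h2
      rwa [show i * (r + r - (r + lam r)) = 1 by linear_combination hi, one_smul] at h2
    rw [Algebra.formallyUnramified_iff]
    refine ⟨fun x y => ?_⟩
    have hzero : ∀ w : Ω[R⁄P], w = 0 := by
      intro w
      have hw : w ∈ Submodule.span R (Set.range D) := by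
        rw [KaehlerDifferential.span_range_derivation]; trivial
      induction hw using Submodule.span_induction with
      | mem w hw =>
        obtain ⟨z, rfl⟩ := hw
        obtain ⟨v, rfl⟩ := hsurj z
        rw [hf, map_add, Derivation.leibniz, Derivation.map_algebraMap, Derivation.map_algebraMap,
          hDr, smul_zero, smul_zero, zero_add, zero_add]
      | zero => rfl
      | add a b _ _ ha hb => rw [ha, hb, add_zero]
      | smul c a _ ha => rw [ha, smul_zero]
    rw [hzero x, hzero y]
  · haveI : Nontrivial P := by
      by_contra hn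
      rw [not_nontrivial_iff_subsingleton] at hn
      exact p.isPrime.ne_top (Subsingleton.elim _ _)
    rw [Module.rankAtStalk_eq_finrank_of_free, Pi.natCast_apply, Module.finrank_eq_card_basis b]
    simp

/-- Over a local fixed ring the absence of fixed primes gives an element moved by a unit. -/
theorem exists_unit_sub [IsLocalRing P] (hlam : ∀ r, lam (lam r) = r)
    (hfix : RInv.IsFixedRing P R lam)
    (hno : ∀ q : Ideal R, q.IsMaximal → ∃ r, lam r - r ∉ q) :
    ∃ r : R, IsUnit (r - lam r) := by
  haveI : Algebra.IsIntegral P R := by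
    refine ⟨fun r => ?_⟩
    obtain ⟨s, hs⟩ := (hfix.2 (r + lam r)).1 (by rw [map_add, hlam, add_comm])
    obtain ⟨p, hp⟩ := (hfix.2 (r * lam r)).1 (by rw [map_mul, hlam, mul_comm])
    refine ⟨Polynomial.X ^ 2 - Polynomial.C s * Polynomial.X + Polynomial.C p, by monicity!, ?_⟩
    simp [hs, hp]
    ring
  haveI : Nontrivial R := hfix.1.nontrivial
  have hcomap : ∀ m : Ideal R, m.IsMaximal →
      m.comap (algebraMap P R) = IsLocalRing.maximalIdeal P := fun m hm =>
    haveI := hm
    IsLocalRing.eq_maximalIdeal (Ideal.isMaximal_comap_of_isIntegral_of_isMaximal (I := m))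
  obtain ⟨q, hq⟩ := Ideal.exists_maximal R
  haveI := hq
  haveI hq' : (q.comap lam.toRingHom).IsMaximal :=
    Ideal.comap_isMaximal_of_surjective _ lam.surjective
  have hall : ∀ m : Ideal R, m.IsMaximal → m = q ∨ m = q.comap lam.toRingHom := by
    intro m hm
    have hsub : (m : Set R) ⊆ (q : Set R) ∪ (q.comap lam.toRingHom : Set R) := by
      intro x hx
      obtain ⟨p, hp⟩ := (hfix.2 (x * lam x)).1 (by rw [map_mul, hlam, mul_comm])
      have hm' : p ∈ IsLocalRing.maximalIdeal P := by
        rw [← hcomap m hm, Ideal.mem_comap, hp]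
        exact m.mul_mem_right _ hx
      rw [← hcomap q hq, Ideal.mem_comap, hp] at hm'
      exact (hq.isPrime.mem_or_mem hm').imp id id
    rcases Ideal.subset_union.1 hsub with h1 | h1
    · exact Or.inl (hm.eq_of_le hq.ne_top h1)
    · exact Or.inr (hm.eq_of_le hq'.ne_top h1)
  obtain ⟨r, hr, hr'⟩ : ∃ r, r - lam r ∉ q ∧ r - lam r ∉ q.comap lam.toRingHom := by
    suffices h : ∃ r, r - lam r ∉ q by
      obtain ⟨r, hr⟩ := h
      refine ⟨r, hr, fun h' => hr ?_⟩
      have : lam (r - lam r) ∈ q := h'
      rw [map_sub, hlam] at this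
      simpa using q.neg_mem this
    obtain ⟨r, hr⟩ := hno q hq
    exact ⟨r, fun h => hr (by simpa using q.neg_mem h)⟩
  refine ⟨r, ?_⟩
  by_contra hu
  obtain ⟨m, hm, hmem⟩ := exists_max_ideal_of_mem_nonunits hu
  rcases hall m hm with rfl | rfl
  · exact hr hmem
  · exact hr' hmem

end Free

end Groth.Agent.AzInv26
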