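import Groth.Agent.AzInv26.Model
import Groth.Agent.AzInv26.Ramified
import Groth.Agent.Azu26.StrictLocal
import Groth.Agent.Henz21.Flat

/-! Normal forms over strict henselizations of the fixed ring. -/

namespace Groth.Agent.AzInv26

open scoped TensorProduct
open AzInv IsLocalRing

universe u v w

/-- The strict henselization at a prime. -/
abbrev TP {S : Type u} [CommRing S] (p : PrimeSpectrum S) : Type u := Henz21.H S (GPt p)

/-- Square roots of units in every strict henselization. -/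
def HullSqrt (S : Type u) [CommRing S] : Prop :=
  ∀ (p : PrimeSpectrum S) (x : TP p), IsUnit x → ∃ y, y * y = x

theorem hullSqrt_of_hsq {S : Type u} [CommRing S]
    (hsq : ∀ (S₁ : Type u) [CommRing S₁] [Algebra S S₁] [Algebra.Etale S S₁] (x : S₁ˣ),
      ∃ (S₂ : Type u) (_ : CommRing S₂) (_ : Algebra S₁ S₂) (_ : Algebra.Etale S₁ S₂)
        (_ : Module.FaithfullyFlat S₁ S₂) (y : S₂), y * y = algebraMap S₁ S₂ ↑x) :
    HullSqrt S := fun _ _ hx => Azu26.exists_sq_hull hsq hx

theorem hullSqrt_of_two {S : Type u} [CommRing S] (h2 : IsUnit (2 : S)) : HullSqrt S := by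
  intro p x hx
  haveI : IsLocalHom (Henz21.H.proj S (GPt p)).toRingHom :=
    ⟨fun _ h => Henz21.H.isUnit_of_isUnit_proj h⟩
  obtain ⟨z, hz⟩ := IsAlgClosed.exists_eq_mul_self (Henz21.H.proj S (GPt p) x)
  have hz0 : z ≠ 0 := fun h => by
    rw [h, mul_zero] at hz
    exact (hx.map (Henz21.H.proj S (GPt p))).ne_zero hz
  obtain ⟨a, ha, -⟩ := Henz21.H.exists_root (Polynomial.X ^ 2 - Polynomial.C x)
    (by monicity!) z
    (by
      simp only [Polynomial.eval₂_sub, Polynomial.eval₂_X_pow, Polynomial.eval₂_C]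
      rw [pow_two, ← hz]
      exact sub_self _)
    (by
      simp only [Polynomial.derivative_sub, Polynomial.derivative_X_pow, Polynomial.derivative_C,
        sub_zero, Nat.cast_ofNat, Nat.add_one_sub_one, pow_one, Polynomial.eval₂_mul,
        Polynomial.eval₂_C, Polynomial.eval₂_X, map_ofNat]
      refine (IsUnit.mul ?_ (Ne.isUnit hz0))
      simpa [map_ofNat] using h2.map (algebraMap S (GPt p)))
  refine ⟨a, sub_eq_zero.1 ?_⟩
  simpa [pow_two] using ha

section

attribute [local instance] Algebra.TensorProduct.rightAlgebra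

variable {S : Type u} [CommRing S] {R : Type v} [CommRing R] [Algebra S R] {lam : R ≃ₐ[S] R}
  {A : Type w} [Ring A] [Algebra S A] [Algebra R A] [IsScalarTower S R A]

variable (lam) in
/-- The transpose involution for an algebra automorphism. -/
def trA (hlam : ∀ r, lam (lam r) = r) (n : ℕ) : LamInv R (Matrix (Fin n) (Fin n) R) lam :=
  LamInv.transpose lam (Fin n) hlam

theorem pairHull (hlam : ∀ r, lam (lam r) = r) (hfix : RInv.IsFixedRing S R lam.toRingEquiv)
    (hs : HullSqrt S) (p : PrimeSpectrum S) :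
    Pair (TP p) (TP p ⊗[S] R) (lamT (TP p) lam) :=
  ⟨(compatT (TP p) lam hlam).2, isFixedRing_of_flat (TP p) lam hfix, fun x hx => hs p x hx⟩

/-- A fixed prime below a ramified hull. -/
theorem fixed_prime_of_ramified {p : PrimeSpectrum S}
    (h : Pair (TP p) (TP p ⊗[S] R) (lamT (TP p) lam))
    (hram : ∀ z : TP p ⊗[S] R, ¬ IsUnit (z - lamT (TP p) lam z)) :
    ∃ q : PrimeSpectrum R, q.asIdeal.comap (algebraMap S R) = p.asIdeal ∧
      ∀ r, lam r - r ∈ q.asIdeal := by
  obtain ⟨hloc, hR⟩ := h.local_of_ram hram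
  let i : R →ₐ[S] TP p ⊗[S] R := Algebra.TensorProduct.includeRight
  refine ⟨⟨(maximalIdeal (TP p ⊗[S] R)).comap i.toRingHom, inferInstance⟩, ?_, fun r => ?_⟩
  · ext s
    simp only [Ideal.mem_comap]
    change i (algebraMap S R s) ∈ maximalIdeal (TP p ⊗[S] R) ↔ _
    rw [i.commutes, IsScalarTower.algebraMap_apply S (TP p) (TP p ⊗[S] R), ← Ideal.mem_comap,
      h.comap_max ⟨maximalIdeal (TP p ⊗[S] R), inferInstance⟩, Henz21.H.maximalIdeal_eq,
      RingHom.mem_ker, AlgHom.commutes, algebraMap_gpt_eq_zero]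
  · change i (lam r - r) ∈ maximalIdeal (TP p ⊗[S] R)
    rw [map_sub, show i (lam r) = lamT (TP p) lam (i r) from (lamT_tmul (TP p) lam 1 r).symm,
      ← residue_eq_zero_iff, map_sub, hR.residue_eq, sub_self]

/-- Normal forms at a strict henselization. -/
theorem normal_hull (hlam : ∀ r, lam (lam r) = r) (hfix : RInv.IsFixedRing S R lam.toRingEquiv)
    (hs : HullSqrt S) {n : ℕ} (hn : 0 < n)
    (hc : IsUnit (2 : S) ∨ RInv.IsQuadEtale S R ∨ Odd n) (hA : IsAzumayaDeg R A n)
    (t : LamInv R A lam) (p : PrimeSpectrum S) :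
    IsoT S lam (TP p) t (trA lam hlam n) ∨
      (Even n ∧ (∃ q : PrimeSpectrum R, q.asIdeal.comap (algebraMap S R) = p.asIdeal ∧
          ∀ r, lam r - r ∈ q.asIdeal) ∧
        ∀ (w₀ : (Matrix (Fin n) (Fin n) R)ˣ)
          (hw₀ : trA lam hlam n (w₀ : Matrix (Fin n) (Fin n) R) =
            (-1 : R) • (w₀ : Matrix (Fin n) (Fin n) R))
          (he₀ : lam (-1) * (-1) = 1),
          IsoT S lam (TP p) t ((trA lam hlam n).conj w₀ (-1) hw₀ he₀)) := by
  have hP := pairHull hlam hfix hs p
  haveI := hP.isIntegral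
  haveI := hP.finite_max
  let C := compatT (TP p) lam hlam
  have hAT : IsAzumayaDeg (TP p ⊗[S] R) ((TP p ⊗[S] R) ⊗[R] A) n := isAzumayaDeg_bc hA
  obtain ⟨f⟩ := Azu26.exists_split_strict (H := TP p) hAT.1 hn hAT.2
  let t₀ := tT (TP p) lam hlam t
  have htr : IsoInv (tT (TP p) lam hlam (trA lam hlam n)) (tr hP.invol n) :=
    tr_bc (lam := lam.toRingEquiv) hlam C n
  have hc' : IsUnit (2 : TP p ⊗[S] R) ∨ (∃ z, IsUnit (z - lamT (TP p) lam z)) ∨ Odd n := by
    rcases hc with h2 | hq | hodd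
    · left; simpa [map_ofNat] using h2.map (algebraMap S (TP p ⊗[S] R))
    · right; left
      by_contra hcon
      push Not at hcon
      obtain ⟨q, -, hq'⟩ := fixed_prime_of_ramified hP hcon
      exact quadEtale_no_fixed_prime hlam hfix hq q.asIdeal hq'
    · exact Or.inr (Or.inr hodd)
  rcases hP.normal_form hn hc' (transport t₀ f) with h | ⟨heven, -, hram, h⟩
  · left
    rw [isoT_iff (TP p) lam hlam]
    exact ((isoInv_transport t₀ f).trans h).trans htr.symm
  · refine Or.inr ⟨heven, fixed_prime_of_ramified hP hram, fun w₀ hw₀ he₀ => ?_⟩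
    rw [isoT_iff (TP p) lam hlam]
    have hm := model_bc (lam := lam.toRingEquiv) hlam C w₀ (-1) hw₀ he₀
    refine ((isoInv_transport t₀ f).trans ?_).trans hm.symm
    have he : algebraMap R (TP p ⊗[S] R) (-1) = -1 := by simp
    convert h (mapUnit w₀) (by simpa [he] using tr_mapUnit (lam := lam.toRingEquiv) (hlam := hlam) C hw₀) (by simp) using 2

end

end Groth.Agent.AzInv26
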