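import Groth.Prelude.Def_AzInv
import Groth.Agent.Azu26.Basic
import Mathlib.RingTheory.TensorProduct.Maps
import Mathlib.LinearAlgebra.Matrix.Reindex
import Mathlib.RingTheory.MatrixAlgebra
import Mathlib.Data.Matrix.Composition

/-! Base change of involutions and calculus of isomorphisms of algebras with involution. -/

namespace Groth.Agent.AzInv26

open scoped TensorProduct
open AzInv

universe v v' v'' w w' w''

section

variable {R : Type v} [CommRing R] {A : Type w} [Ring A] [Algebra R A] {A' : Type w'} [Ring A']
  [Algebra R A'] {A'' : Type w''} [Ring A''] [Algebra R A''] {lam : R → R}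

/-- Isomorphism of algebras with involution. -/
def IsoInv (t : LamInv R A lam) (t' : LamInv R A' lam) : Prop :=
  ∃ f : A ≃ₐ[R] A', IsInvHom t t' f

theorem IsoInv.refl (t : LamInv R A lam) : IsoInv t t := ⟨AlgEquiv.refl, fun _ => rfl⟩

theorem IsoInv.symm {t : LamInv R A lam} {t' : LamInv R A' lam} (h : IsoInv t t') :
    IsoInv t' t := by
  obtain ⟨f, hf⟩ := h
  refine ⟨f.symm, fun a => f.injective ?_⟩
  rw [f.apply_symm_apply, hf, f.apply_symm_apply]

theorem IsoInv.trans {t : LamInv R A lam} {t' : LamInv R A' lam} {t'' : LamInv R A'' lam}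
    (h : IsoInv t t') (h' : IsoInv t' t'') : IsoInv t t'' := by
  obtain ⟨f, hf⟩ := h
  obtain ⟨g, hg⟩ := h'
  exact ⟨f.trans g, fun a => by rw [AlgEquiv.trans_apply, hf, hg]; rfl⟩

/-- Transport of an involution along an isomorphism. -/
def transport (t : LamInv R A lam) (f : A ≃ₐ[R] A') : LamInv R A' lam where
  toFun x := f (t (f.symm x))
  map_add' a b := by simp
  map_mul' a b := by rw [map_mul, t.map_mul, map_mul]
  map_smul' r a := by rw [map_smul, t.map_smul, map_smul]
  invol' a := by simp

theorem isoInv_transport (t : LamInv R A lam) (f : A ≃ₐ[R] A') : IsoInv t (transport t f) :=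
  ⟨f, fun a => by
    change f (t a) = f (t (f.symm (f a)))
    rw [f.symm_apply_apply]⟩

theorem IsoInv.matrix {t : LamInv R A lam} {t' : LamInv R A' lam} (h : IsoInv t t') (m : Type*)
    [Fintype m] [DecidableEq m] : IsoInv (t.matrix m) (t'.matrix m) := by
  obtain ⟨f, hf⟩ := h
  refine ⟨f.mapMatrix, fun a => ?_⟩
  ext i j
  exact hf (a j i)

theorem matrix_reindex (t : LamInv R A lam) {m n : Type*} [Fintype m] [DecidableEq m] [Fintype n]
    [DecidableEq n] (e : m ≃ n) : IsoInv (t.matrix m) (t.matrix n) :=
  ⟨Matrix.reindexAlgEquiv R A e, fun a => by ext i j; rfl⟩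

theorem matrix_one (t : LamInv R A lam) : IsoInv (t.matrix (Fin 1)) t := by
  let f : Matrix (Fin 1) (Fin 1) A ≃ₐ[R] A :=
    { toFun := fun M => M 0 0
      invFun := fun a => Matrix.of fun _ _ => a
      left_inv := fun M => by
        ext i j
        rw [Subsingleton.elim i 0, Subsingleton.elim j 0]; rfl
      right_inv := fun a => rfl
      map_mul' := fun M N => by simp [Matrix.mul_apply]
      map_add' := fun M N => rfl
      commutes' := fun r => by simp [Matrix.algebraMap_matrix_apply] }
  exact ⟨f, fun a => rfl⟩

theorem matrix_matrix (t : LamInv R A lam) (m n : Type*) [Fintype m] [DecidableEq m] [Fintype n]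
    [DecidableEq n] : IsoInv ((t.matrix n).matrix m) (t.matrix (m × n)) :=
  ⟨Matrix.compAlgEquiv m n A R, fun a => by ext ⟨i, i'⟩ ⟨j, j'⟩; rfl⟩

end

section BaseChange

variable {R : Type v} [CommRing R] {A : Type w} [Ring A] [Algebra R A] {A' : Type w'} [Ring A']
  [Algebra R A'] {lam : R → R}
variable (R' : Type v') [CommRing R'] [Algebra R R'] (lam' : R' ≃+* R')

/-- Compatibility of involutions of rings. -/
def Compat (lam : R → R) (lam' : R' ≃+* R') : Prop :=
  (∀ r, lam' (algebraMap R R' r) = algebraMap R R' (lam r)) ∧ ∀ r', lam' (lam' r') = r'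

variable {R'} {lam'}

/-- The semilinear map underlying the base change. -/
noncomputable def bcFun (h : Compat R' lam lam') (t : LamInv R A lam) :
    R' ⊗[R] A →+ R' ⊗[R] A :=
  TensorProduct.liftAddHom
    { toFun := fun x =>
        { toFun := fun a => lam' x ⊗ₜ[R] t a
          map_zero' := by simp
          map_add' := fun a b => by simp [TensorProduct.tmul_add] }
      map_zero' := by ext a; simp
      map_add' := fun x y => by ext a; simp [TensorProduct.add_tmul] }
    fun r x a => by
      change lam' (r • x) ⊗ₜ[R] t a = lam' x ⊗ₜ[R] t (r • a)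
      rw [t.map_smul, Algebra.smul_def, map_mul, h.1, ← Algebra.smul_def, TensorProduct.smul_tmul]

/-- Base change of an involution along a map of rings with involution. -/
noncomputable def bcInv (h : Compat R' lam lam') (t : LamInv R A lam) :
    LamInv R' (R' ⊗[R] A) lam' where
  toFun := bcFun h t
  map_add' := map_add _
  map_mul' a b := by
    induction a using TensorProduct.induction_on with
    | zero => simp
    | add x y hx hy => simp only [add_mul, map_add, hx, hy, mul_add]
    | tmul x a =>
      induction b using TensorProduct.induction_on with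
      | zero => simp
      | add x y hx hy => simp only [mul_add, map_add, hx, hy, add_mul]
      | tmul y b =>
        rw [Algebra.TensorProduct.tmul_mul_tmul]
        change lam' (x * y) ⊗ₜ t (a * b) = (lam' y ⊗ₜ t b) * (lam' x ⊗ₜ t a)
        rw [Algebra.TensorProduct.tmul_mul_tmul, mul_comm (lam' y), ← map_mul lam', ← t.map_mul]
  map_smul' r a := by
    induction a using TensorProduct.induction_on with
    | zero => simp
    | add x y hx hy => simp only [smul_add, map_add, hx, hy]
    | tmul x a =>
      rw [TensorProduct.smul_tmul']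
      change lam' (r • x) ⊗ₜ t a = lam' r • (lam' x ⊗ₜ t a)
      rw [smul_eq_mul, map_mul, TensorProduct.smul_tmul', smul_eq_mul]
  invol' a := by
    induction a using TensorProduct.induction_on with
    | zero => simp
    | add x y hx hy => simp only [map_add, hx, hy]
    | tmul x a =>
      change lam' (lam' x) ⊗ₜ t (t a) = x ⊗ₜ a
      rw [h.2, t.invol]

@[simp]
theorem bcInv_tmul (h : Compat R' lam lam') (t : LamInv R A lam) (x : R') (a : A) :
    bcInv h t (x ⊗ₜ[R] a) = lam' x ⊗ₜ[R] t a := rfl

theorem IsoInv.bc (h : Compat R' lam lam') {t : LamInv R A lam} {t' : LamInv R A' lam}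
    (hi : IsoInv t t') : IsoInv (bcInv h t) (bcInv h t') := by
  obtain ⟨f, hf⟩ := hi
  refine ⟨Algebra.TensorProduct.congr AlgEquiv.refl f, fun a => ?_⟩
  induction a using TensorProduct.induction_on with
  | zero => simp
  | tmul x a => simp [Algebra.TensorProduct.congr_apply, hf a]
  | add x y hx hy => simp only [map_add, LamInv.map_add, hx, hy]

/-- Base change commutes with matrices. -/
theorem bc_matrix (h : Compat R' lam lam') (t : LamInv R A lam) (m : Type*) [Fintype m]
    [DecidableEq m] : IsoInv (bcInv h (t.matrix m)) ((bcInv h t).matrix m) := by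
  let f₀ : R' ⊗[R] Matrix m m A →ₐ[R'] Matrix m m (R' ⊗[R] A) :=
    Algebra.TensorProduct.lift (Algebra.ofId R' _)
      (Algebra.TensorProduct.includeRight.mapMatrix) fun x M => Algebra.commutes x _
  let g₀ : Matrix m m (R' ⊗[R] A) →ₗ[R] R' ⊗[R] Matrix m m A :=
    ∑ i, ∑ j, (LinearMap.lTensor R' (Matrix.singleLinearMap R i j)) ∘ₗ
      Matrix.entryLinearMap R (R' ⊗[R] A) i j
  have htm : ∀ x M i j, f₀ (x ⊗ₜ[R] M) i j = x ⊗ₜ[R] M i j := by
    intro x M i j
    simp [f₀, Algebra.ofId_apply, Matrix.algebraMap_eq_diagonal, Matrix.diagonal_mul,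
      Algebra.TensorProduct.algebraMap_apply, Algebra.TensorProduct.tmul_mul_tmul]
  have h1 : ∀ z, g₀ (f₀ z) = z := by
    intro z
    induction z using TensorProduct.induction_on with
    | zero => simp
    | add x y hx hy => rw [map_add, map_add, hx, hy]
    | tmul x M =>
      simp only [g₀, LinearMap.sum_apply, LinearMap.comp_apply, Matrix.entryLinearMap_apply, htm,
        LinearMap.lTensor_tmul, ← TensorProduct.tmul_sum]
      congr 1
      exact (Matrix.matrix_eq_sum_single M).symm
  have h2 : ∀ z, f₀ (g₀ z) = z := by
    intro z
    have hsingle : ∀ i j (y : R' ⊗[R] A),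
        f₀ (LinearMap.lTensor R' (Matrix.singleLinearMap R i j) y) = Matrix.single i j y := by
      intro i j y
      induction y using TensorProduct.induction_on with
      | zero => simp
      | add x y hx hy => rw [map_add, map_add, hx, hy, Matrix.single_add]
      | tmul x a =>
        ext p q
        simp [htm, Matrix.single_apply, apply_ite (fun b => x ⊗ₜ[R] b)]
    simp only [g₀, LinearMap.sum_apply, LinearMap.comp_apply, map_sum, hsingle,
      Matrix.entryLinearMap_apply]
    exact (Matrix.matrix_eq_sum_single z).symm
  refine ⟨AlgEquiv.ofBijective f₀ ⟨Function.LeftInverse.injective h1,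
    Function.RightInverse.surjective h2⟩, fun z => ?_⟩
  induction z using TensorProduct.induction_on with
  | zero => simp
  | add x y hx hy => simp only [map_add, LamInv.map_add, hx, hy]
  | tmul x M =>
    ext i j
    simp [htm]

/-- Base change is transitive. -/
theorem bc_trans {R'' : Type v''} [CommRing R''] [Algebra R R''] [Algebra R' R'']
    [IsScalarTower R R' R''] {lam'' : R'' ≃+* R''} (h : Compat R' lam lam')
    (h' : Compat R'' (fun r => lam' r) lam'') (h'' : Compat R'' lam lam'') (t : LamInv R A lam) :
    IsoInv (bcInv h' (bcInv h t)) (bcInv h'' t) := by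
  let e := TensorProduct.AlgebraTensorModule.cancelBaseChange R R' R'' R'' A
  have hmul : ∀ a b, e (a * b) = e a * e b := by
    intro a b
    induction a using TensorProduct.induction_on with
    | zero => simp
    | add x y hx hy => simp only [add_mul, map_add, hx, hy]
    | tmul x y =>
      induction b using TensorProduct.induction_on with
      | zero => simp
      | add p q hp hq => simp only [mul_add, map_add, hp, hq]
      | tmul p q =>
        induction y using TensorProduct.induction_on with
        | zero => simp
        | add c d hc hd =>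
          simp only [TensorProduct.tmul_add, add_mul, map_add, hc, hd]
        | tmul c d =>
          induction q using TensorProduct.induction_on with
          | zero => simp
          | add q₁ q₂ hq₁ hq₂ => simp only [TensorProduct.tmul_add, mul_add, map_add, hq₁, hq₂]
          | tmul q₁ q₂ =>
            simp only [e, Algebra.TensorProduct.tmul_mul_tmul,
              TensorProduct.AlgebraTensorModule.cancelBaseChange_tmul, Algebra.smul_def, map_mul]
            congr 1
            ring
  refine ⟨AlgEquiv.ofLinearEquiv e (by simp [e, Algebra.TensorProduct.one_def]) hmul, fun z => ?_⟩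
  induction z using TensorProduct.induction_on with
  | zero => simp
  | add x y hx hy => simp only [map_add, LamInv.map_add, hx, hy]
  | tmul x y =>
    induction y using TensorProduct.induction_on with
    | zero => simp
    | add a b ha hb => simp only [TensorProduct.tmul_add, map_add, LamInv.map_add, ha, hb]
    | tmul r a =>
      simp [e, Algebra.smul_def, h'.1]

theorem isAzumayaDeg_bc {n : ℕ} (hA : IsAzumayaDeg R A n) :
    IsAzumayaDeg R' (R' ⊗[R] A) n := by
  haveI := hA.1
  refine ⟨Azu26.isAzumaya_baseChange R R' A, fun p => ?_⟩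
  rw [Module.rankAtStalk_baseChange]
  exact hA.2 _

end BaseChange

end Groth.Agent.AzInv26
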