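import Groth.Agent.AzInv26.HullNormal

/-! Calculus of isomorphisms after base change. -/

namespace Groth.Agent.AzInv26

open scoped TensorProduct
open AzInv

universe u v w w' w'' u'

instance finite_matrix {R : Type v} [CommRing R] {A : Type w} [Ring A] [Algebra R A] [Module.Finite R A]
    {m n : Type*} [Fintype m] [Fintype n] : Module.Finite R (Matrix m n A) :=
  inferInstanceAs (Module.Finite R (m → n → A))

instance projective_pi_const {R : Type v} [CommRing R] {M : Type w} [AddCommGroup M] [Module R M]
    [Module.Projective R M] {m : Type*} [Fintype m] [DecidableEq m] : Module.Projective R (m → M) :=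
  Module.Projective.of_equiv (DFinsupp.linearEquivFunOnFintype (R := R) (M := fun _ : m => M))

instance projective_matrix {R : Type v} [CommRing R] {A : Type w} [Ring A] [Algebra R A]
    [Module.Projective R A] {m n : Type*} [Fintype m] [Fintype n] [DecidableEq m] [DecidableEq n] :
    Module.Projective R (Matrix m n A) :=
  inferInstanceAs (Module.Projective R (m → n → A))

section

variable {S : Type u} [CommRing S] {R : Type v} [CommRing R] [Algebra S R] {lam : R ≃ₐ[S] R}
  {A : Type w} [Ring A] [Algebra S A] [Algebra R A] [IsScalarTower S R A]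
  {A' : Type w'} [Ring A'] [Algebra S A'] [Algebra R A'] [IsScalarTower S R A']
  {A'' : Type w''} [Ring A''] [Algebra S A''] [Algebra R A''] [IsScalarTower S R A'']
  {T : Type u'} [CommRing T] [Algebra S T]

theorem IsoT.symm' (hlam : ∀ r, lam (lam r) = r) {t : LamInv R A lam} {t' : LamInv R A' lam}
    (h : IsoT S lam T t t') : IsoT S lam T t' t := by
  rw [isoT_iff T lam hlam] at h ⊢
  exact h.symm

theorem IsoT.trans' (hlam : ∀ r, lam (lam r) = r) {t : LamInv R A lam} {t' : LamInv R A' lam}
    {t'' : LamInv R A'' lam} (h : IsoT S lam T t t') (h' : IsoT S lam T t' t'') :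
    IsoT S lam T t t'' := by
  rw [isoT_iff T lam hlam] at h h' ⊢
  exact h.trans h'

attribute [local instance] Algebra.TensorProduct.rightAlgebra in
theorem isoT_of_isoInv (hlam : ∀ r, lam (lam r) = r) {t : LamInv R A lam} {t' : LamInv R A' lam}
    (h : IsoInv t t') : IsoT S lam T t t' := by
  rw [isoT_iff T lam hlam]
  exact h.bc (compatT T lam hlam)

attribute [local instance] Algebra.TensorProduct.rightAlgebra in
theorem IsoT.matrix' (hlam : ∀ r, lam (lam r) = r) {t : LamInv R A lam} {t' : LamInv R A' lam}
    (h : IsoT S lam T t t') (m : ℕ) : IsoT S lam T (t.matrix (Fin m)) (t'.matrix (Fin m)) := by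
  rw [isoT_iff T lam hlam] at h ⊢
  exact ((bc_matrix (compatT T lam hlam) t (Fin m)).trans (h.matrix (Fin m))).trans
    (bc_matrix (compatT T lam hlam) t' (Fin m)).symm

theorem self_matrix (hlam : ∀ r, lam (lam r) = r) (n : ℕ) :
    IsoInv ((LamInv.self lam hlam).matrix (Fin n)) (trA lam hlam n) :=
  ⟨AlgEquiv.refl, fun x => by ext i j; rfl⟩

theorem sameType_self_of_hull [Module.Finite R A] [Module.Projective R A]
    (hlam : ∀ r, lam (lam r) = r) {n : ℕ} (hn : 0 < n) (t : LamInv R A lam)
    (h : ∀ p : PrimeSpectrum S, IsoT S lam (TP p) t (trA lam hlam n)) :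
    SameType S lam t (LamInv.self lam hlam) :=
  ⟨1, n, one_pos, hn, locIsoEt_of_hull S lam fun p =>
    ((isoT_of_isoInv hlam (matrix_one t)).trans' hlam (h p)).trans' hlam
      ((isoT_of_isoInv hlam (self_matrix hlam n)).symm' hlam)⟩

end

end Groth.Agent.AzInv26
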