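import Groth.Agent.AzInv26.Bridge
import Mathlib.RingTheory.MatrixAlgebra

/-! Matrix models under base change, and evaluation of isomorphisms at points. -/

namespace Groth.Agent.AzInv26

open scoped TensorProduct
open AzInv

universe u v w w' v' u'

section

variable {R : Type v} [CommRing R] {lam : R ≃+* R} (R' : Type v') [CommRing R'] [Algebra R R']
  {lam' : R' ≃+* R'}

/-- Matrices after base change. -/
noncomputable def matBC (n : ℕ) :
    R' ⊗[R] Matrix (Fin n) (Fin n) R ≃ₐ[R'] Matrix (Fin n) (Fin n) R' :=
  AlgEquiv.ofBijective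
    (Algebra.TensorProduct.lift (Algebra.ofId R' _) ((Algebra.ofId R R').mapMatrix)
      fun x M => Algebra.commutes x _)
    (by
      have : ∀ z, (Algebra.TensorProduct.lift (Algebra.ofId R' _) ((Algebra.ofId R R').mapMatrix)
          fun x M => Algebra.commutes x _) z = (matrixEquivTensor (Fin n) R R').symm z := by
        intro z
        induction z using TensorProduct.induction_on with
        | zero => simp
        | tmul x M =>
          ext i j
          simp [Algebra.ofId_apply, Matrix.algebraMap_eq_diagonal, Matrix.diagonal_mul]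
        | add a b ha hb => rw [map_add, map_add, ha, hb]
      exact (funext this).symm ▸ (matrixEquivTensor (Fin n) R R').symm.bijective)

theorem matBC_tmul (n : ℕ) (x : R') (M : Matrix (Fin n) (Fin n) R) :
    matBC R' n (x ⊗ₜ[R] M) = x • M.map (algebraMap R R') := by
  ext i j
  simp [matBC, Algebra.ofId_apply, Matrix.algebraMap_eq_diagonal, Matrix.diagonal_mul]

variable {R'}

theorem tr_map_eq {hlam : ∀ r, lam (lam r) = r} (h : Compat R' lam lam') {n : ℕ}
    (M : Matrix (Fin n) (Fin n) R) :
    tr h.2 n (M.map (algebraMap R R')) = (tr hlam n M).map (algebraMap R R') := by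
  ext i j
  simp [tr_eq, ct, h.1]

theorem compat_mul (h : Compat R' lam lam') {e : R} (he : lam e * e = 1) :
    lam' (algebraMap R R' e) * algebraMap R R' e = 1 := by
  rw [h.1, ← map_mul, he, map_one]

/-- The unit obtained from `w` by base change. -/
noncomputable def mapUnit {n : ℕ} (w : (Matrix (Fin n) (Fin n) R)ˣ) :
    (Matrix (Fin n) (Fin n) R')ˣ :=
  Units.map (RingHom.mapMatrix (algebraMap R R') : Matrix (Fin n) (Fin n) R →+* _).toMonoidHom w

theorem tr_mapUnit {hlam : ∀ r, lam (lam r) = r} (h : Compat R' lam lam') {n : ℕ}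
    {w : (Matrix (Fin n) (Fin n) R)ˣ} {e : R}
    (hw : tr hlam n (w : Matrix (Fin n) (Fin n) R) = e • (w : Matrix (Fin n) (Fin n) R)) :
    tr h.2 n (mapUnit (R' := R') w : Matrix (Fin n) (Fin n) R') =
      algebraMap R R' e • (mapUnit (R' := R') w : Matrix (Fin n) (Fin n) R') := by
  change tr h.2 n ((w : Matrix (Fin n) (Fin n) R).map (algebraMap R R')) =
    algebraMap R R' e • (w : Matrix (Fin n) (Fin n) R).map (algebraMap R R')
  rw [tr_map_eq (hlam := hlam) h, hw]
  ext i j
  simp

/-- Base change of a twisted transpose. -/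
theorem model_bc (hlam : ∀ r, lam (lam r) = r) (h : Compat R' lam lam') {n : ℕ}
    (w : (Matrix (Fin n) (Fin n) R)ˣ) (e : R)
    (hw : tr hlam n (w : Matrix (Fin n) (Fin n) R) = e • (w : Matrix (Fin n) (Fin n) R))
    (he : lam e * e = 1) :
    IsoInv (bcInv h ((tr hlam n).conj w e hw he))
      ((tr h.2 n).conj (mapUnit w) (algebraMap R R' e) (tr_mapUnit h hw) (compat_mul h he)) := by
  refine ⟨matBC R' n, fun z => ?_⟩
  induction z using TensorProduct.induction_on with
  | zero => simp
  | add x y hx hy => simp only [LamInv.map_add, map_add, hx, hy]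
  | tmul x M =>
    rw [bcInv_tmul, matBC_tmul, matBC_tmul, LamInv.map_smul]
    congr 1
    rw [LamInv.conj_apply, LamInv.conj_apply, tr_map_eq (hlam := hlam) h]
    simp only [mapUnit, Units.coe_map, Units.coe_map_inv, RingHom.toMonoidHom_eq_coe,
      MonoidHom.coe_coe, RingHom.mapMatrix_apply, Matrix.map_mul]

theorem conj_one (hlam : ∀ r, lam (lam r) = r) (n : ℕ) :
    (tr hlam n).conj 1 1 (one_symm hlam n) (by simp) = tr hlam n :=
  LamInv.ext fun x => by simp [LamInv.conj_apply]

theorem tr_bc (hlam : ∀ r, lam (lam r) = r) (h : Compat R' lam lam') (n : ℕ) :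
    IsoInv (bcInv h (tr hlam n)) (tr h.2 n) := by
  have := model_bc hlam h (n := n) 1 1 (one_symm hlam n) (by simp)
  rw [conj_one] at this
  convert this using 1
  exact (LamInv.ext fun x => by simp [LamInv.conj_apply, mapUnit]).symm

end

section Point

variable {S : Type u} [CommRing S] {R : Type v} [CommRing R] [Algebra S R] {lam : R ≃ₐ[S] R}
  {A : Type w} [Ring A] [Algebra S A] [Algebra R A] [IsScalarTower S R A]
  {A' : Type w'} [Ring A'] [Algebra S A'] [Algebra R A'] [IsScalarTower S R A']

attribute [local instance] Algebra.TensorProduct.rightAlgebra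

/-- An isomorphism over `T` gives one at every compatible point. -/
theorem isoInv_point {T : Type u'} [CommRing T] [Algebra S T] (hlam : ∀ r, lam (lam r) = r)
    {t : LamInv R A lam} {t' : LamInv R A' lam} (hT : IsoT S lam T t t')
    {L : Type v'} [CommRing L] [Algebra R L] [Algebra S L] [IsScalarTower S R L]
    {lam' : L ≃+* L} (h : Compat L lam lam') (ψ : T →ₐ[S] L) (hψ : ∀ x, lam' (ψ x) = ψ x) :
    IsoInv (bcInv h t) (bcInv h t') := by
  let χ : T ⊗[S] R →ₐ[S] L :=
    Algebra.TensorProduct.lift ψ (IsScalarTower.toAlgHom S R L) fun x r => Commute.all _ _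
  letI : Algebra (T ⊗[S] R) L := χ.toRingHom.toAlgebra
  haveI : IsScalarTower R (T ⊗[S] R) L := IsScalarTower.of_algebraMap_eq fun r => by
    change algebraMap R L r = χ ((1 : T) ⊗ₜ[S] r)
    simp [χ]
  have h' : Compat L (fun z => lamT T lam z) lam' := by
    refine ⟨fun z => ?_, h.2⟩
    change lam' (χ z) = χ (lamT T lam z)
    induction z using TensorProduct.induction_on with
    | zero => simp
    | tmul x r => simp [χ, hψ, h.1]
    | add a b ha hb => simp only [map_add, ha, hb]
  have h1 := ((isoT_iff T lam hlam t t').1 hT).bc (lam' := lam') h'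
  exact ((bc_trans (compatT T lam hlam) h' h t).symm.trans h1).trans
    (bc_trans (compatT T lam hlam) h' h t')

end Point

end Groth.Agent.AzInv26
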