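import Groth.Agent.AzInv26.IsoT
import Mathlib.Data.Sym.Card
import Mathlib.LinearAlgebra.FiniteDimensional.Basic
import Mathlib.LinearAlgebra.Dimension.Constructions

/-! The sign of an involution of the first kind over a field. -/

namespace Groth.Agent.AzInv26

open scoped TensorProduct
open AzInv

universe u v w w' v' v''

section Field

variable {L : Type v} [Field L] {B : Type w} [Ring B] [Algebra L B] {B' : Type w'} [Ring B']
  [Algebra L B']

/-- The linear map underlying an involution of the first kind. -/
def linInv (τ : LamInv L B (RingEquiv.refl L)) : B →ₗ[L] B where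
  toFun := τ
  map_add' := τ.map_add
  map_smul' r a := τ.map_smul r a

@[simp]
theorem linInv_apply (τ : LamInv L B (RingEquiv.refl L)) (x : B) : linInv τ x = τ x := rfl

theorem smul_comm_refl (τ : LamInv L B (RingEquiv.refl L)) (c : L) (x : B) :
    τ (c • x) = c • τ x := τ.map_smul c x

theorem tr_refl_apply (hlam : ∀ r : L, (RingEquiv.refl L) ((RingEquiv.refl L) r) = r) (n : ℕ)
    (M : Matrix (Fin n) (Fin n) L) (i j : Fin n) : tr hlam n M i j = M j i := rfl

/-- The eigenspace for `c`. -/
def eig (P : B →ₗ[L] B) (c : L) : Submodule L B := LinearMap.eqLocus P (c • LinearMap.id)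

theorem mem_eig {P : B →ₗ[L] B} {c : L} {x : B} : x ∈ eig P c ↔ P x = c • x := Iff.rfl

/-- The dimension of the symmetric elements. -/
noncomputable def fDim (τ : LamInv L B (RingEquiv.refl L)) : ℕ :=
  Module.finrank L (eig (linInv τ) 1)

/-- The dimension of the skew elements. -/
noncomputable def gDim (τ : LamInv L B (RingEquiv.refl L)) : ℕ :=
  Module.finrank L (eig (linInv τ) (-1))

/-- The involution has positive sign. -/
def Pos (τ : LamInv L B (RingEquiv.refl L)) : Prop := gDim τ < fDim τ

theorem fDim_add_gDim [Module.Finite L B] (h2 : (2 : L) ≠ 0)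
    (τ : LamInv L B (RingEquiv.refl L)) : fDim τ + gDim τ = Module.finrank L B := by
  refine Submodule.finrank_add_eq_of_isCompl ⟨?_, ?_⟩
  · rw [Submodule.disjoint_def]
    intro x hx hy
    rw [mem_eig, one_smul] at hx
    rw [mem_eig, hx, neg_one_smul] at hy
    have : (2 : L) • x = 0 := by rw [two_smul]; conv_lhs => arg 2; rw [hy]
                                 exact add_neg_cancel x
    exact (smul_eq_zero.1 this).resolve_left h2
  · rw [codisjoint_iff, eq_top_iff]
    intro x _
    have e : x = (2 : L)⁻¹ • (x + τ x) + (2 : L)⁻¹ • (x - τ x) := by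
      rw [← smul_add, show x + τ x + (x - τ x) = (2 : L) • x by rw [two_smul]; abel, smul_smul,
        inv_mul_cancel₀ h2, one_smul]
    rw [e]
    refine Submodule.add_mem_sup (Submodule.smul_mem _ _ ?_) (Submodule.smul_mem _ _ ?_)
    · rw [mem_eig, one_smul, linInv_apply, LamInv.map_add, τ.invol, add_comm]
    · rw [mem_eig, neg_one_smul, linInv_apply, LamInv.map_sub, τ.invol, neg_sub]

theorem finrank_eig_congr {τ : LamInv L B (RingEquiv.refl L)} {τ' : LamInv L B' (RingEquiv.refl L)}
    (h : IsoInv τ τ') (c : L) :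
    Module.finrank L (eig (linInv τ) c) = Module.finrank L (eig (linInv τ') c) := by
  obtain ⟨f, hf⟩ := h
  have hmap : (eig (linInv τ) c).map f.toLinearEquiv.toLinearMap = eig (linInv τ') c := by
    ext y
    obtain ⟨x, rfl⟩ := f.surjective y
    simp only [mem_eig, linInv_apply]
    constructor
    · rintro ⟨x', hx', he⟩
      have : x' = x := f.injective he
      subst this
      rw [← hf]
      rw [SetLike.mem_coe, mem_eig, linInv_apply] at hx'
      rw [hx', map_smul]
    · intro hy
      refine ⟨x, ?_, rfl⟩
      rw [SetLike.mem_coe, mem_eig, linInv_apply]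
      apply f.injective
      rw [hf, hy, map_smul]
  rw [← hmap]
  exact (Submodule.equivMapOfInjective _ f.toLinearEquiv.injective _).finrank_eq

theorem fDim_congr {τ : LamInv L B (RingEquiv.refl L)} {τ' : LamInv L B' (RingEquiv.refl L)}
    (h : IsoInv τ τ') : fDim τ = fDim τ' := finrank_eig_congr h 1

theorem gDim_congr {τ : LamInv L B (RingEquiv.refl L)} {τ' : LamInv L B' (RingEquiv.refl L)}
    (h : IsoInv τ τ') : gDim τ = gDim τ' := finrank_eig_congr h (-1)

theorem pos_congr {τ : LamInv L B (RingEquiv.refl L)} {τ' : LamInv L B' (RingEquiv.refl L)}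
    (h : IsoInv τ τ') : Pos τ ↔ Pos τ' := by rw [Pos, Pos, fDim_congr h, gDim_congr h]

/-- Eigenspaces of the induced involution of matrices. -/
noncomputable def eigMatrix (τ : LamInv L B (RingEquiv.refl L)) (m : ℕ) (c : L) (hc : c * c = 1) :
    eig (linInv (τ.matrix (Fin m))) c ≃ₗ[L]
      (Fin m → eig (linInv τ) c) × ({p : Fin m × Fin m // p.1 < p.2} → B) where
  toFun M := (fun i => ⟨M.1 i i, congrFun (congrFun M.2 i) i⟩, fun p => M.1 p.1.1 p.1.2)
  map_add' M N := rfl
  map_smul' r M := rfl
  invFun D := ⟨Matrix.of fun i j =>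
      if h : i < j then D.2 ⟨(i, j), h⟩
      else if h' : j < i then c • τ (D.2 ⟨(j, i), h'⟩) else D.1 i, by
    rw [mem_eig]
    ext i j
    simp only [linInv_apply, LamInv.matrix_apply, Matrix.of_apply, Matrix.smul_apply]
    rcases lt_trichotomy i j with h | rfl | h
    · simp only [h, h.not_gt, dite_false, dite_true]
      rw [smul_comm_refl, τ.invol]
    · simp only [lt_self_iff_false, dite_false]
      exact mem_eig.1 (D.1 i).2
    · simp [h, h.not_gt, smul_smul, hc]⟩
  left_inv M := by
    ext i j
    simp only [Matrix.of_apply]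
    rcases lt_trichotomy i j with h | rfl | h
    · simp [h]
    · simp
    · simp only [h.not_gt, h, dite_false, dite_true]
      have := congrFun (congrFun M.2 i) j
      simp only [linInv_apply, LamInv.matrix_apply, LinearMap.smul_apply, LinearMap.id_apply,
        Matrix.smul_apply] at this
      rw [this, smul_smul, hc, one_smul]
  right_inv D := by
    refine Prod.ext (funext fun i => Subtype.ext ?_) (funext fun p => ?_)
    · simp
    · simp [p.2]

theorem pos_matrix [Module.Finite L B] (τ : LamInv L B (RingEquiv.refl L)) {m : ℕ} (hm : 0 < m) :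
    Pos (τ.matrix (Fin m)) ↔ Pos τ := by
  have h1 := (eigMatrix τ m 1 (one_mul 1)).finrank_eq
  have h2 := (eigMatrix τ m (-1) (by norm_num)).finrank_eq
  rw [Module.finrank_prod, Module.finrank_pi_fintype, Module.finrank_pi_fintype] at h1 h2
  simp only [Finset.sum_const, Finset.card_univ, Fintype.card_fin, smul_eq_mul] at h1 h2
  unfold Pos fDim gDim
  rw [h1, h2, add_lt_add_iff_right]
  exact Nat.mul_lt_mul_left hm

theorem fDim_tr (hlam : ∀ r : L, (RingEquiv.refl L) ((RingEquiv.refl L) r) = r) (n : ℕ) :
    fDim (tr hlam n) = Nat.choose (n + 1) 2 := by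
  let E : eig (linInv (tr hlam n)) 1 ≃ₗ[L] (Sym2 (Fin n) → L) :=
    { toFun := fun M => Sym2.lift ⟨fun i j => M.1 i j, fun i j => by
        have h0 : tr hlam n M.1 = M.1 := (mem_eig.1 M.2).trans (one_smul L _)
        exact congrFun (congrFun h0 j) i⟩
      map_add' := fun M N => by
        funext z; induction z using Sym2.ind with | _ i j => rfl
      map_smul' := fun r M => by
        funext z; induction z using Sym2.ind with | _ i j => rfl
      invFun := fun D => ⟨Matrix.of fun i j => D s(i, j), by
        rw [mem_eig, one_smul]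
        ext i j
        rw [linInv_apply, tr_refl_apply, Matrix.of_apply, Matrix.of_apply, Sym2.eq_swap]⟩
      left_inv := fun M => by ext i j; rfl
      right_inv := fun D => by
        funext z; induction z using Sym2.ind with | _ i j => rfl }
  rw [fDim, E.finrank_eq, Module.finrank_fintype_fun_eq_card, Sym2.card, Fintype.card_fin]

theorem choose_two_mul (n : ℕ) : 2 * Nat.choose (n + 1) 2 = n ^ 2 + n := by
  induction n with
  | zero => rfl
  | succ n ih =>
    rw [Nat.choose_succ_succ, Nat.choose_one_right]
    rw [mul_add, ih]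
    ring

theorem pos_tr (h2 : (2 : L) ≠ 0)
    (hlam : ∀ r : L, (RingEquiv.refl L) ((RingEquiv.refl L) r) = r) {n : ℕ} (hn : 0 < n) :
    Pos (tr hlam n) := by
  have h1 := fDim_add_gDim h2 (tr hlam n)
  rw [Module.finrank_matrix, Fintype.card_fin, Module.finrank_self, mul_one, fDim_tr, ← sq] at h1
  have h3 := choose_two_mul n
  unfold Pos
  rw [fDim_tr]
  omega

theorem dims_skew (h2 : (2 : L) ≠ 0)
    (hlam : ∀ r : L, (RingEquiv.refl L) ((RingEquiv.refl L) r) = r) {n : ℕ} (hn : 0 < n)
    (w : (Matrix (Fin n) (Fin n) L)ˣ) (e : L)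
    (hw : tr hlam n (w : Matrix (Fin n) (Fin n) L) = e • (w : Matrix (Fin n) (Fin n) L))
    (he : (RingEquiv.refl L) e * e = 1) (hem : e = -1) :
    ¬ Pos ((tr hlam n).conj w e hw he) ∧
      fDim ((tr hlam n).conj w e hw he) ≠ Nat.choose (n + 1) 2 := by
  subst hem
  let τ := (tr hlam n).conj w (-1) hw he
  let E : Matrix (Fin n) (Fin n) L ≃ₗ[L] Matrix (Fin n) (Fin n) L :=
    { toFun := fun x => x * (w : Matrix (Fin n) (Fin n) L)
      map_add' := fun x y => add_mul _ _ _
      map_smul' := fun r x => smul_mul_assoc _ _ _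
      invFun := fun x => x * (↑w⁻¹ : Matrix (Fin n) (Fin n) L)
      left_inv := fun x => by simp [mul_assoc]
      right_inv := fun x => by simp [mul_assoc] }
  have hfin : Module.finrank L (eig (linInv τ) (-1)) = fDim (tr hlam n) := by
    have hmap : (eig (linInv τ) (-1)).map E.toLinearMap = eig (linInv (tr hlam n)) 1 := by
      ext y
      obtain ⟨x, rfl⟩ := E.surjective y
      have key : tr hlam n (x * (w : Matrix (Fin n) (Fin n) L)) =
          -(τ x * (w : Matrix (Fin n) (Fin n) L)) := by
        rw [LamInv.map_mul, hw, neg_one_smul, neg_mul, LamInv.conj_apply, Units.inv_mul_cancel_right]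
      simp only [mem_eig, linInv_apply, one_smul]
      change _ ↔ tr hlam n (x * (w : Matrix (Fin n) (Fin n) L)) = x * (w : Matrix (Fin n) (Fin n) L)
      rw [key]
      constructor
      · rintro ⟨x', hx', he⟩
        have : x' = x := E.injective he
        subst this
        rw [SetLike.mem_coe, mem_eig, linInv_apply, neg_one_smul] at hx'
        rw [hx', neg_mul, neg_neg]
      · intro hy
        refine ⟨x, ?_, rfl⟩
        rw [SetLike.mem_coe, mem_eig, linInv_apply, neg_one_smul]
        have h0 := congrArg (fun z => -z * (↑w⁻¹ : Matrix (Fin n) (Fin n) L)) hy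
        simpa [mul_assoc] using h0
    rw [fDim, ← hmap]
    exact (Submodule.equivMapOfInjective _ E.injective _).finrank_eq
  have h1 := fDim_add_gDim h2 τ
  rw [Module.finrank_matrix, Fintype.card_fin, Module.finrank_self, mul_one, ← sq] at h1
  have h3 := choose_two_mul n
  have hg : gDim τ = Nat.choose (n + 1) 2 := by rw [gDim, hfin, fDim_tr]
  change ¬ Pos τ ∧ fDim τ ≠ _
  unfold Pos
  constructor <;> omega

end Field

end Groth.Agent.AzInv26
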