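import Groth.Agent.AzInv26.Classify
import Mathlib.RingTheory.Flat.Localization

/-! Local constancy of signs, and ordinary involutions. -/

namespace Groth.Agent.AzInv26

open scoped TensorProduct
open AzInv

universe u v w w'

variable {S : Type u} [CommRing S]

theorem exists_algHom_hull_of_mem (T : Type u) [CommRing T] [Algebra S T] [Algebra.Etale S T]
    (p : PrimeSpectrum S) (hp : p ∈ Set.range (PrimeSpectrum.comap (algebraMap S T))) :
    Nonempty (T →ₐ[S] TP p) := by
  obtain ⟨P, hP⟩ := hp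
  let L := P.asIdeal.ResidueField
  let g : p.asIdeal.ResidueField →+* L :=
    Ideal.ResidueField.lift p.asIdeal (algebraMap S L)
      (by
        intro x hx
        rw [← hP] at hx
        rw [RingHom.mem_ker, IsScalarTower.algebraMap_apply S T L,
          Ideal.algebraMap_residueField_eq_zero]
        exact hx)
      (by
        intro x hx
        rw [Submonoid.mem_comap, IsUnit.mem_submonoid_iff, isUnit_iff_ne_zero, ne_eq,
          IsScalarTower.algebraMap_apply S T L, Ideal.algebraMap_residueField_eq_zero]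
        intro h'
        exact hx (show x ∈ p.asIdeal by rw [← hP]; exact h'))
  letI : Algebra p.asIdeal.ResidueField L := g.toAlgebra
  haveI : IsScalarTower S p.asIdeal.ResidueField L := IsScalarTower.of_algebraMap_eq fun x =>
    (Ideal.ResidueField.lift_algebraMap p.asIdeal _ _ _ x).symm
  let W := GPt p ⊗[S] T
  haveI : Nontrivial W := by
    let i₁ : GPt p →ₐ[S] GPt p ⊗[p.asIdeal.ResidueField] L :=
      (Algebra.TensorProduct.includeLeft (S := p.asIdeal.ResidueField)).restrictScalars S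
    let i₂ : T →ₐ[S] GPt p ⊗[p.asIdeal.ResidueField] L :=
      ((Algebra.TensorProduct.includeRight (R := p.asIdeal.ResidueField) (A := GPt p)
        (B := L)).restrictScalars S).comp (IsScalarTower.toAlgHom S T L)
    exact (Algebra.TensorProduct.lift i₁ i₂ fun a b => Commute.all _ _).toRingHom.domain_nontrivial
  obtain ⟨M, hM⟩ := Ideal.exists_maximal W
  letI := Ideal.Quotient.field M
  haveI : Module.Finite (GPt p) (W ⧸ M) := finite_of_finite_type_of_isJacobsonRing (GPt p) (W ⧸ M)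
  let σ : T →ₐ[S] GPt p :=
    (((IsAlgClosed.lift : (W ⧸ M) →ₐ[GPt p] GPt p).comp
      (Ideal.Quotient.mkₐ (GPt p) M)).restrictScalars S).comp Algebra.TensorProduct.includeRight
  obtain ⟨f, -⟩ := Henz21.H.exists_algHom_of_pt T σ
  exact ⟨f⟩

variable {R : Type v} [CommRing R] [Algebra S R] {lam : R ≃ₐ[S] R}
  {A : Type w} [Ring A] [Algebra S A] [Algebra R A] [IsScalarTower S R A]
  {A' : Type w'} [Ring A'] [Algebra S A'] [Algebra R A'] [IsScalarTower S R A']

/-- An isomorphism at a henselization spreads to a neighbourhood. -/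
theorem exists_open_isoT [Module.Finite R A] [Module.Projective R A] [Module.Finite R A']
    [Module.Projective R A'] {t : LamInv R A lam} {t' : LamInv R A' lam} {p : PrimeSpectrum S}
    (h : IsoT S lam (TP p) t t') :
    ∃ U : Set (PrimeSpectrum S), IsOpen U ∧ p ∈ U ∧ ∀ p' ∈ U, IsoT S lam (TP p') t t' := by
  obtain ⟨i, hi⟩ := exists_stage_isoT S lam h
  refine ⟨Set.range (PrimeSpectrum.comap (algebraMap S i.S)),
    (PrimeSpectrum.isOpenMap_comap_of_hasGoingDown_of_finitePresentation).isOpen_range,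
    ⟨⟨RingHom.ker i.pt, RingHom.ker_isPrime _⟩, ?_⟩, fun p' hp' => ?_⟩
  · ext x
    simp only [PrimeSpectrum.comap_asIdeal, Ideal.mem_comap, RingHom.mem_ker]
    change i.pt (algebraMap S i.S x) = 0 ↔ _
    rw [AlgHom.commutes, algebraMap_gpt_eq_zero]
  · obtain ⟨g⟩ := exists_algHom_hull_of_mem i.S p' hp'
    exact IsoT.map S lam g hi

/-- The sign is locally constant. -/
theorem exists_open_pos (hlam : ∀ r, lam (lam r) = r) (hfix : RInv.IsFixedRing S R lam.toRingEquiv)
    (h2 : IsUnit (2 : S)) {n : ℕ} (hn : 0 < n) (hA : IsAzumayaDeg R A n) (t : LamInv R A lam)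
    (q : PrimeSpectrum R) (hq : ∀ r, lam r - r ∈ q.asIdeal) :
    ∃ U : Set (PrimeSpectrum S), IsOpen U ∧ PrimeSpectrum.comap (algebraMap S R) q ∈ U ∧
      ∀ q' : PrimeSpectrum R, ∀ hq' : ∀ r, lam r - r ∈ q'.asIdeal,
        PrimeSpectrum.comap (algebraMap S R) q' ∈ U → (Pos (atQ t q' hq') ↔ Pos (atQ t q hq)) := by
  haveI := hA.1
  let p := PrimeSpectrum.comap (algebraMap S R) q
  rcases hull_cases hlam hfix (hullSqrt_of_two h2) hn (Or.inl h2) hA t p with
    ⟨h, hp⟩ | ⟨-, he, -, h, hp⟩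
  · obtain ⟨U, hU, hpU, hU'⟩ := exists_open_isoT h
    refine ⟨U, hU, hpU, fun q' hq' hq'U => iff_of_true ?_ (hp h2 q hq rfl).1⟩
    rw [pos_iff_of_isoT hlam h2 (hU' _ hq'U) q' hq' rfl]
    exact (atQ_trA hlam h2 hn q' hq').1
  · obtain ⟨U, hU, hpU, hU'⟩ :=
      exists_open_isoT (h (skewUnit n he) (trA_skewUnit hlam n he) (neg_one_mul hlam))
    refine ⟨U, hU, hpU, fun q' hq' hq'U => iff_of_false ?_ (hp q hq rfl).1⟩
    rw [pos_iff_of_isoT hlam h2 (hU' _ hq'U) q' hq' rfl]
    exact (atQ_skew hlam h2 hn _ _ _ q' hq').1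

theorem exists_basic_pos (hlam : ∀ r, lam (lam r) = r)
    (hfix : RInv.IsFixedRing S R lam.toRingEquiv) (h2 : IsUnit (2 : S)) {n : ℕ} (hn : 0 < n)
    (hA : IsAzumayaDeg R A n) (t : LamInv R A lam)
    (q : PrimeSpectrum R) (hq : ∀ r, lam r - r ∈ q.asIdeal) :
    ∃ f : R, f ∉ q.asIdeal ∧ ∀ q' : PrimeSpectrum R, ∀ hq' : ∀ r, lam r - r ∈ q'.asIdeal,
      f ∉ q'.asIdeal → (Pos (atQ t q' hq') ↔ Pos (atQ t q hq)) := by
  obtain ⟨U, hU, hqU, hU'⟩ := exists_open_pos hlam hfix h2 hn hA t q hq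
  obtain ⟨_, ⟨f, rfl⟩, hqf, hfU⟩ :=
    PrimeSpectrum.isTopologicalBasis_basic_opens.exists_subset_of_mem_open
      (show q ∈ PrimeSpectrum.comap (algebraMap S R) ⁻¹' U from hqU)
      (hU.preimage (PrimeSpectrum.continuous_comap _))
  exact ⟨f, hqf, fun q' hq' hf => hU' q' hq' (hfU hf)⟩

/-- Nowhere quadratic etale means everywhere ramified. -/
theorem exists_fixed_over (hlam : ∀ r, lam (lam r) = r)
    (hfix : RInv.IsFixedRing S R lam.toRingEquiv) (p : PrimeSpectrum S)
    (hp : ¬ RInv.IsQuadEtale (Localization.AtPrime p.asIdeal)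
      (Localization.AtPrime p.asIdeal ⊗[S] R)) :
    ∃ q : PrimeSpectrum R, q.asIdeal.comap (algebraMap S R) = p.asIdeal ∧
      ∀ r, lam r - r ∈ q.asIdeal := by
  by_contra hcon
  push Not at hcon
  let P := Localization.AtPrime p.asIdeal
  haveI : Module.Flat S P := IsLocalization.flat P p.asIdeal.primeCompl
  have hinv := (compatT P lam hlam).2
  have hfixP := isFixedRing_of_flat P lam hfix
  obtain ⟨r, hr⟩ := exists_unit_sub (P := P) hinv hfixP fun m hm => by
    haveI := hm
    let i : R →ₐ[S] P ⊗[S] R := Algebra.TensorProduct.includeRight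
    let q : PrimeSpectrum R := ⟨m.comap i.toRingHom, inferInstance⟩
    haveI : Algebra.IsIntegral P (P ⊗[S] R) := isIntegral_of_fixed hinv hfixP
    have hmP : m.comap (algebraMap P (P ⊗[S] R)) = IsLocalRing.maximalIdeal P :=
      IsLocalRing.eq_maximalIdeal (Ideal.isMaximal_comap_of_isIntegral_of_isMaximal (I := m))
    have hqp : q.asIdeal.comap (algebraMap S R) = p.asIdeal := by
      ext s
      change i (algebraMap S R s) ∈ m ↔ _
      rw [i.commutes, IsScalarTower.algebraMap_apply S P (P ⊗[S] R), ← Ideal.mem_comap, hmP,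
        IsLocalization.AtPrime.to_map_mem_maximal_iff P p.asIdeal]
    obtain ⟨r, hr⟩ := hcon q hqp
    refine ⟨(1 : P) ⊗ₜ[S] r, fun h => hr ?_⟩
    change i (lam r - r) ∈ m
    rw [map_sub]
    simpa [i] using h
  exact hp (quadEtale_of_unit (P := P) hinv hfixP r hr)

/-- Twisted transposes with equal units at `T` are isomorphic at `T`. -/
theorem isoT_conj_congr (hlam : ∀ r, lam (lam r) = r) {T : Type u} [CommRing T] [Algebra S T]
    {n : ℕ} (w w' : (Matrix (Fin n) (Fin n) R)ˣ) (e e' : R)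
    (hw : trA lam hlam n (w : Matrix (Fin n) (Fin n) R) = e • (w : Matrix (Fin n) (Fin n) R))
    (he : lam e * e = 1)
    (hw' : trA lam hlam n (w' : Matrix (Fin n) (Fin n) R) = e' • (w' : Matrix (Fin n) (Fin n) R))
    (he' : lam e' * e' = 1)
    (h : ∀ i j, (1 : T) ⊗ₜ[S] (w : Matrix (Fin n) (Fin n) R) i j =
      (1 : T) ⊗ₜ[S] (w' : Matrix (Fin n) (Fin n) R) i j) :
    IsoT S lam T ((trA lam hlam n).conj w e hw he) ((trA lam hlam n).conj w' e' hw' he') := by
  letI : Algebra R (T ⊗[S] R) := Algebra.TensorProduct.rightAlgebra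
  rw [isoT_iff T lam hlam]
  let C := compatT T lam hlam
  have h1 := model_bc (lam := lam.toRingEquiv) hlam C w e hw he
  have h2 := model_bc (lam := lam.toRingEquiv) hlam C w' e' hw' he'
  have hu : mapUnit (R := R) (R' := T ⊗[S] R) w = mapUnit w' := by
    ext i j
    exact h i j
  refine h1.trans (IsoInv.trans ?_ h2.symm)
  exact ⟨AlgEquiv.refl, fun x => by
    simp only [LamInv.conj_apply, AlgEquiv.coe_refl, id_eq, hu]⟩

theorem conj_one_trA (hlam : ∀ r, lam (lam r) = r) (n : ℕ)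
    (hw : trA lam hlam n ((1 : (Matrix (Fin n) (Fin n) R)ˣ) : Matrix (Fin n) (Fin n) R) =
      (1 : R) • ((1 : (Matrix (Fin n) (Fin n) R)ˣ) : Matrix (Fin n) (Fin n) R))
    (he : lam 1 * 1 = 1) : (trA lam hlam n).conj 1 1 hw he = trA lam hlam n :=
  LamInv.ext fun x => by simp [LamInv.conj_apply]

theorem isoT_one (hlam : ∀ r, lam (lam r) = r) {p : PrimeSpectrum S} {n : ℕ} {t : LamInv R A lam}
    (h : IsoT S lam (TP p) t (trA lam hlam n))
    (hw : trA lam hlam n ((1 : (Matrix (Fin n) (Fin n) R)ˣ) : Matrix (Fin n) (Fin n) R) =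
      (1 : R) • ((1 : (Matrix (Fin n) (Fin n) R)ˣ) : Matrix (Fin n) (Fin n) R))
    (he : lam 1 * 1 = 1) : IsoT S lam (TP p) t ((trA lam hlam n).conj 1 1 hw he) := by
  rwa [conj_one_trA]

theorem trA_one (hlam : ∀ r, lam (lam r) = r) (n : ℕ) :
    trA lam hlam n ((1 : (Matrix (Fin n) (Fin n) R)ˣ) : Matrix (Fin n) (Fin n) R) =
      (1 : R) • ((1 : (Matrix (Fin n) (Fin n) R)ˣ) : Matrix (Fin n) (Fin n) R) := by
  rw [one_smul, Units.val_one]
  exact LamInv.map_one _

/-- Involutions are ordinary if the quotient is everywhere ramified or unramified. -/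
theorem exists_ordinary (hlam : ∀ r, lam (lam r) = r)
    (hfix : RInv.IsFixedRing S R lam.toRingEquiv) (hs : HullSqrt S)
    (hram : (IsUnit (2 : S) ∧ ∀ p : PrimeSpectrum S,
        ¬ RInv.IsQuadEtale (Localization.AtPrime p.asIdeal) (Localization.AtPrime p.asIdeal ⊗[S] R)) ∨
      RInv.IsQuadEtale S R)
    {n : ℕ} (hn : 0 < n) (hA : IsAzumayaDeg R A n) (t : LamInv R A lam) :
    ∃ (w : (Matrix (Fin n) (Fin n) R)ˣ) (e : R)
      (hw : trA lam hlam n (w : Matrix (Fin n) (Fin n) R) = e • (w : Matrix (Fin n) (Fin n) R))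
      (he : lam e * e = 1),
      LocIsoEt S lam t ((trA lam hlam n).conj w e hw he) := by
  haveI := hA.1
  have hone : (∀ p, IsoT S lam (TP p) t (trA lam hlam n)) →
      ∃ (w : (Matrix (Fin n) (Fin n) R)ˣ) (e : R)
        (hw : trA lam hlam n (w : Matrix (Fin n) (Fin n) R) = e • (w : Matrix (Fin n) (Fin n) R))
        (he : lam e * e = 1),
        LocIsoEt S lam t ((trA lam hlam n).conj w e hw he) := fun h =>
    ⟨1, 1, trA_one hlam n, by simp,
      locIsoEt_of_hull S lam fun p => isoT_one hlam (h p) _ _⟩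
  rcases hram with ⟨h2, hr⟩ | hq
  swap
  · refine hone fun p => ?_
    rcases hull_cases hlam hfix hs hn (Or.inr (Or.inl hq)) hA t p with
      ⟨h, -⟩ | ⟨-, -, ⟨q, -, hq'⟩, -⟩
    · exact h
    · exact (quadEtale_no_fixed_prime hlam hfix hq q.asIdeal hq').elim
  rcases Nat.even_or_odd n with he | hodd
  swap
  · refine hone fun p => ?_
    rcases hull_cases hlam hfix hs hn (Or.inl h2) hA t p with ⟨h, -⟩ | ⟨-, he, -⟩
    · exact h
    · exact absurd he (Nat.not_even_iff_odd.2 hodd)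
  let J := skewUnit (R := R) n he
  let U : Set (PrimeSpectrum S) := {p | IsoT S lam (TP p) t (trA lam hlam n)}
  have hU : IsClopen U := by
    refine ⟨⟨isOpen_iff_forall_mem_open.2 fun p hp => ?_⟩, isOpen_iff_forall_mem_open.2 fun p hp => ?_⟩
    · rcases hull_cases hlam hfix hs hn (Or.inl h2) hA t p with ⟨h, -⟩ | ⟨-, -, -, h, -⟩
      · exact absurd h hp
      obtain ⟨V, hV, hpV, hV'⟩ :=
        exists_open_isoT (h J (trA_skewUnit hlam n he) (neg_one_mul hlam))
      refine ⟨V, fun p' hp' hU' => ?_, hV, hpV⟩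
      obtain ⟨q, hqp, hq⟩ := exists_fixed_over hlam hfix p' (hr p')
      have h1 := pos_iff_of_isoT hlam h2 hU' q hq hqp
      rw [pos_iff_of_isoT hlam h2 (hV' p' hp') q hq hqp] at h1
      exact (atQ_skew hlam h2 hn _ _ _ q hq).1 (h1.2 (atQ_trA hlam h2 hn q hq).1)
    · obtain ⟨V, hV, hpV, hV'⟩ := exists_open_isoT (show IsoT S lam (TP p) t _ from hp)
      exact ⟨V, fun p' hp' => hV' p' hp', hV, hpV⟩
  obtain ⟨ε, hε, hεU⟩ := PrimeSpectrum.exists_idempotent_basicOpen_eq_of_isClopen hU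
  let a : R := algebraMap S R ε
  have ha : a * a = a := by simp only [a, ← map_mul, hε.eq]
  have hla : lam a = a := lam.commutes ε
  have hone1 : (1 : Matrix (Fin n) (Fin n) R) * 1 = 1 := mul_one 1
  have hcalc : ∀ X Y : Matrix (Fin n) (Fin n) R, X * Y = 1 →
      (a • (1 : Matrix (Fin n) (Fin n) R) + (1 - a) • X) * (a • 1 + (1 - a) • Y) = 1 := by
    intro X Y hXY
    simp only [add_mul, mul_add, Matrix.smul_mul, Matrix.mul_smul, Matrix.mul_one, Matrix.one_mul,
      smul_smul, hXY]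
    have h0 : a * (1 - a) = 0 := by linear_combination (-1 : R) * ha
    have h1 : (1 - a) * (1 - a) = 1 - a := by linear_combination ha
    rw [mul_comm (1 - a) a, h0, h1, ha, zero_smul, zero_smul, add_zero, zero_add, ← add_smul]
    simp
  let w : (Matrix (Fin n) (Fin n) R)ˣ :=
    ⟨a • 1 + (1 - a) • (J : Matrix (Fin n) (Fin n) R),
      a • 1 + (1 - a) • (↑J⁻¹ : Matrix (Fin n) (Fin n) R),
      hcalc _ _ J.mul_inv, hcalc _ _ J.inv_mul⟩
  let e : R := a - (1 - a)
  have hw : trA lam hlam n (w : Matrix (Fin n) (Fin n) R) =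
      e • (w : Matrix (Fin n) (Fin n) R) := by
    change trA lam hlam n (a • 1 + (1 - a) • (J : Matrix (Fin n) (Fin n) R)) =
      e • (a • 1 + (1 - a) • (J : Matrix (Fin n) (Fin n) R))
    rw [LamInv.map_add, LamInv.map_smul, LamInv.map_smul, LamInv.map_one, trA_skewUnit hlam n he,
      map_sub, map_one, hla, smul_add, smul_smul, smul_smul, smul_smul]
    congr 1
    · congr 1; linear_combination (-2 : R) * ha
    · congr 1; linear_combination (2 : R) * ha
  have hee : lam e * e = 1 := by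
    simp only [e, map_sub, map_one, hla]
    linear_combination (4 : R) * ha
  refine ⟨w, e, hw, hee, locIsoEt_of_hull S lam fun p => ?_⟩
  have hεp : algebraMap S (TP p) ε = 0 ∨ algebraMap S (TP p) ε = 1 :=
    by
      have hi := (hε.map (algebraMap S (TP p))).eq
      set x := algebraMap S (TP p) ε
      rcases IsLocalRing.isUnit_or_isUnit_one_sub_self x with hx | hx
      · exact Or.inr (hx.mul_left_cancel (by rw [mul_one]; exact hi))
      · exact Or.inl (hx.mul_right_cancel (by rw [mul_sub, mul_one, zero_mul, hi, sub_self]))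
  have hunit : IsUnit (algebraMap S (TP p) ε) ↔ p ∈ U := by
    rw [hεU, SetLike.mem_coe, PrimeSpectrum.mem_basicOpen,
      Henz21.H.isUnit_iff, AlgHom.commutes, isUnit_iff_ne_zero, ne_eq, algebraMap_gpt_eq_zero]
  have hterm : ∀ i j, (1 : TP p) ⊗ₜ[S] (w : Matrix (Fin n) (Fin n) R) i j =
      algebraMap S (TP p) ε ⊗ₜ[S] (1 : Matrix (Fin n) (Fin n) R) i j +
        (1 - algebraMap S (TP p) ε) ⊗ₜ[S] (J : Matrix (Fin n) (Fin n) R) i j := by
    intro i j
    change (1 : TP p) ⊗ₜ[S] (a * (1 : Matrix (Fin n) (Fin n) R) i j +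
      (1 - a) * (J : Matrix (Fin n) (Fin n) R) i j) = _
    rw [sub_mul, one_mul, TensorProduct.tmul_add, TensorProduct.tmul_sub, ← Algebra.smul_def,
      ← Algebra.smul_def, ← TensorProduct.smul_tmul, ← TensorProduct.smul_tmul, Algebra.smul_def,
      mul_one, TensorProduct.sub_tmul]
  rcases hull_cases hlam hfix hs hn (Or.inl h2) hA t p with ⟨h, -⟩ | ⟨-, -, ⟨q, hqp, hq⟩, h, hp⟩
  · refine (isoT_one hlam h (trA_one hlam n) (by simp)).trans' hlam
      (isoT_conj_congr hlam _ _ _ _ _ _ _ _ fun i j => ?_)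
    have h1 : algebraMap S (TP p) ε = 1 := by
      rcases hεp with h0 | h1
      · exact absurd h0 ((hunit.2 h).ne_zero)
      · exact h1
    rw [hterm, h1, sub_self, TensorProduct.zero_tmul, add_zero]
    rfl
  · refine (h J (trA_skewUnit hlam n he) (neg_one_mul hlam)).trans' hlam
      (isoT_conj_congr hlam _ _ _ _ _ _ _ _ fun i j => ?_)
    have hnU : p ∉ U := fun hU' => (hp q hq hqp).1
      ((pos_iff_of_isoT hlam h2 hU' q hq hqp).2 (atQ_trA hlam h2 hn q hq).1)
    have h0 : algebraMap S (TP p) ε = 0 := by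
      rcases hεp with h0 | h1
      · exact h0
      · exact absurd (hunit.1 (by rw [h1]; exact isUnit_one)) hnU
    rw [hterm, h0, sub_zero, TensorProduct.zero_tmul, zero_add]

end Groth.Agent.AzInv26
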