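import Groth.Agent.AzInv26.Sign
import Mathlib.FieldTheory.IsAlgClosed.AlgebraicClosure
import Mathlib.LinearAlgebra.Dimension.Constructions
import Mathlib.RingTheory.LocalRing.ResidueField.Ideal

/-! Signs at fixed primes. -/

namespace Groth.Agent.AzInv26

open scoped TensorProduct
open AzInv

universe u v w w' v'

section Extension

variable {L : Type v} [Field L] {B : Type w} [Ring B] [Algebra L B] [Module.Finite L B]
  {L' : Type v'} [Field L'] [Algebra L L']

theorem compat_ext : Compat L' (RingEquiv.refl L : L → L) (RingEquiv.refl L') :=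
  ⟨fun _ => rfl, fun _ => rfl⟩

theorem finrank_eig_le (τ : LamInv L B (RingEquiv.refl L)) (c : L) :
    Module.finrank L (eig (linInv τ) c) ≤
      Module.finrank L' (eig (linInv (bcInv (compat_ext (L' := L')) τ)) (algebraMap L L' c)) := by
  let W := eig (linInv τ) c
  have hinj := Module.Flat.lTensor_preserves_injective_linearMap (M := L') W.subtype
    W.injective_subtype
  let f : L' ⊗[L] W →ₗ[L'] L' ⊗[L] B := LinearMap.baseChange L' W.subtype
  have hf : ∀ z, f z ∈ eig (linInv (bcInv (compat_ext (L' := L')) τ)) (algebraMap L L' c) := by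
    intro z
    induction z using TensorProduct.induction_on with
    | zero => simp
    | add x y hx hy => rw [map_add]; exact add_mem hx hy
    | tmul x b =>
      rw [mem_eig, linInv_apply, LinearMap.baseChange_tmul, bcInv_tmul]
      have hb : τ (b : B) = c • (b : B) := b.2
      change x ⊗ₜ[L] τ (b : B) = _
      rw [hb, Submodule.subtype_apply, TensorProduct.tmul_smul, algebraMap_smul]
  calc Module.finrank L W = Module.finrank L' (L' ⊗[L] W) := (Module.finrank_baseChange).symm
    _ ≤ _ := LinearMap.finrank_le_finrank_of_injective (f := f.codRestrict _ hf)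
        (fun a b h => hinj (congrArg Subtype.val h))

theorem dims_ext (h2 : (2 : L) ≠ 0) (τ : LamInv L B (RingEquiv.refl L)) :
    fDim (bcInv (compat_ext (L' := L')) τ) = fDim τ ∧
      gDim (bcInv (compat_ext (L' := L')) τ) = gDim τ := by
  have h1 := finrank_eig_le (L' := L') τ 1
  have h3 := finrank_eig_le (L' := L') τ (-1)
  rw [map_one] at h1
  rw [map_neg, map_one] at h3
  have h4 := fDim_add_gDim h2 τ
  have h2' : (2 : L') ≠ 0 := by
    rw [← map_ofNat (algebraMap L L') 2]; exact (map_ne_zero _).2 h2
  have h5 := fDim_add_gDim h2' (bcInv (compat_ext (L' := L')) τ)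
  rw [Module.finrank_baseChange] at h5
  unfold fDim gDim at *
  omega

end Extension

section Point

variable {S : Type u} [CommRing S] {R : Type v} [CommRing R] [Algebra S R] {lam : R ≃ₐ[S] R}
  {A : Type w} [Ring A] [Algebra S A] [Algebra R A] [IsScalarTower S R A]
  {A' : Type w'} [Ring A'] [Algebra S A'] [Algebra R A'] [IsScalarTower S R A']

theorem compat_field {L : Type v'} [Field L] [Algebra R L]
    (hL : ∀ r, algebraMap R L (lam r) = algebraMap R L r) :
    Compat L (lam : R → R) (RingEquiv.refl L) :=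
  ⟨fun r => (hL r).symm, fun _ => rfl⟩

/-- The involution induced at a field point. -/
noncomputable def atL (t : LamInv R A lam) (L : Type v') [Field L] [Algebra R L]
    (hL : ∀ r, algebraMap R L (lam r) = algebraMap R L r) :
    LamInv L (L ⊗[R] A) (RingEquiv.refl L) :=
  bcInv (compat_field hL) t

theorem span_sym_eq {L : Type v'} [Field L] [Algebra R L]
    (hL : ∀ r, algebraMap R L (lam r) = algebraMap R L r) (h2 : (2 : L) ≠ 0) (t : LamInv R A lam) :
    Submodule.span L (Set.range fun a : {a : A // t a = a} => (1 : L) ⊗ₜ[R] (a : A)) =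
      eig (linInv (atL t L hL)) 1 := by
  refine le_antisymm (Submodule.span_le.2 ?_) fun x hx => ?_
  · rintro _ ⟨a, rfl⟩
    rw [SetLike.mem_coe, mem_eig, one_smul, linInv_apply]
    change (1 : L) ⊗ₜ[R] t (a : A) = _
    rw [a.2]
  · rw [mem_eig, one_smul, linInv_apply] at hx
    have hP : ∀ y, y + atL t L hL y ∈
        Submodule.span L (Set.range fun a : {a : A // t a = a} => (1 : L) ⊗ₜ[R] (a : A)) := by
      intro y
      induction y using TensorProduct.induction_on with
      | zero => rw [LamInv.map_zero, add_zero]; exact zero_mem _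
      | add a b ha hb =>
        rw [LamInv.map_add, add_add_add_comm]
        exact add_mem ha hb
      | tmul c a =>
        have e : c ⊗ₜ[R] a + atL t L hL (c ⊗ₜ[R] a) = c • ((1 : L) ⊗ₜ[R] (a + t a)) := by
          change c ⊗ₜ[R] a + c ⊗ₜ[R] t a = _
          rw [TensorProduct.smul_tmul', smul_eq_mul, mul_one, TensorProduct.tmul_add]
        rw [e]
        exact Submodule.smul_mem _ _ (Submodule.subset_span
          ⟨⟨a + t a, by rw [t.map_add, t.invol, add_comm]⟩, rfl⟩)
    have := Submodule.smul_mem _ ((2 : L)⁻¹) (hP x)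
    rwa [hx, ← two_smul L x, smul_smul, inv_mul_cancel₀ h2, one_smul] at this

theorem dims_extension [Module.Finite R A] {L : Type v'} [Field L] [Algebra R L]
    {L' : Type v'} [Field L'] [Algebra R L'] [Algebra L L'] [IsScalarTower R L L']
    (hL : ∀ r, algebraMap R L (lam r) = algebraMap R L r)
    (hL' : ∀ r, algebraMap R L' (lam r) = algebraMap R L' r) (h2 : (2 : L) ≠ 0)
    (t : LamInv R A lam) :
    fDim (atL t L' hL') = fDim (atL t L hL) ∧ gDim (atL t L' hL') = gDim (atL t L hL) := by
  have h := dims_ext (L' := L') h2 (atL t L hL)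
  have hi := bc_trans (compat_field hL) (compat_ext (L := L) (L' := L')) (compat_field hL') t
  exact ⟨(fDim_congr hi).symm.trans h.1, (gDim_congr hi).symm.trans h.2⟩

theorem pos_extension [Module.Finite R A] {L : Type v'} [Field L] [Algebra R L]
    {L' : Type v'} [Field L'] [Algebra R L'] [Algebra L L'] [IsScalarTower R L L']
    (hL : ∀ r, algebraMap R L (lam r) = algebraMap R L r)
    (hL' : ∀ r, algebraMap R L' (lam r) = algebraMap R L' r) (h2 : (2 : L) ≠ 0)
    (t : LamInv R A lam) : Pos (atL t L' hL') ↔ Pos (atL t L hL) := by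
  obtain ⟨a, b⟩ := dims_extension hL hL' h2 t
  rw [Pos, Pos, a, b]

theorem residue_fixed {q : PrimeSpectrum R} (hq : ∀ r, lam r - r ∈ q.asIdeal) (r : R) :
    algebraMap R q.asIdeal.ResidueField (lam r) = algebraMap R q.asIdeal.ResidueField r := by
  rw [← sub_eq_zero, ← map_sub, Ideal.algebraMap_residueField_eq_zero]
  exact hq r

/-- The involution induced at a fixed prime. -/
noncomputable def atQ (t : LamInv R A lam) (q : PrimeSpectrum R)
    (hq : ∀ r, lam r - r ∈ q.asIdeal) :
    LamInv q.asIdeal.ResidueField (q.asIdeal.ResidueField ⊗[R] A)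
      (RingEquiv.refl q.asIdeal.ResidueField) :=
  atL t q.asIdeal.ResidueField (residue_fixed hq)

theorem two_ne_residue (h2 : IsUnit (2 : S)) (q : PrimeSpectrum R) :
    (2 : q.asIdeal.ResidueField) ≠ 0 := by
  rw [← map_ofNat (algebraMap S q.asIdeal.ResidueField) 2]
  exact (h2.map _).ne_zero

theorem closure_fixed {q : PrimeSpectrum R} (hq : ∀ r, lam r - r ∈ q.asIdeal) (r : R) :
    algebraMap R (AlgebraicClosure q.asIdeal.ResidueField) (lam r) =
      algebraMap R (AlgebraicClosure q.asIdeal.ResidueField) r := by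
  rw [IsScalarTower.algebraMap_apply R q.asIdeal.ResidueField, residue_fixed hq,
    ← IsScalarTower.algebraMap_apply]

/-- An isomorphism over a henselization gives one at the geometric fixed point. -/
theorem isoInv_closure (hlam : ∀ r, lam (lam r) = r) {t : LamInv R A lam} {t' : LamInv R A' lam}
    {p : PrimeSpectrum S} (h : IsoT S lam (TP p) t t') (q : PrimeSpectrum R)
    (hq : ∀ r, lam r - r ∈ q.asIdeal) (hqp : q.asIdeal.comap (algebraMap S R) = p.asIdeal) :
    IsoInv (atL t (AlgebraicClosure q.asIdeal.ResidueField) (closure_fixed hq))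
      (atL t' (AlgebraicClosure q.asIdeal.ResidueField) (closure_fixed hq)) := by
  let L := AlgebraicClosure q.asIdeal.ResidueField
  let g : p.asIdeal.ResidueField →+* L :=
    Ideal.ResidueField.lift p.asIdeal (algebraMap S L)
      (by
        intro x hx
        rw [RingHom.mem_ker, IsScalarTower.algebraMap_apply S R L,
          IsScalarTower.algebraMap_apply R q.asIdeal.ResidueField L, map_eq_zero,
          Ideal.algebraMap_residueField_eq_zero]
        rw [← hqp] at hx
        exact hx)
      (by
        intro x hx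
        rw [Submonoid.mem_comap, IsUnit.mem_submonoid_iff, isUnit_iff_ne_zero, ne_eq,
          IsScalarTower.algebraMap_apply S R L,
          IsScalarTower.algebraMap_apply R q.asIdeal.ResidueField L, map_eq_zero,
          Ideal.algebraMap_residueField_eq_zero]
        intro h'
        exact hx (show x ∈ p.asIdeal by rw [← hqp]; exact h'))
  letI : Algebra p.asIdeal.ResidueField L := g.toAlgebra
  haveI : IsScalarTower S p.asIdeal.ResidueField L := IsScalarTower.of_algebraMap_eq fun x =>
    (Ideal.ResidueField.lift_algebraMap p.asIdeal _ _ _ x).symm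
  let σ : GPt p →ₐ[p.asIdeal.ResidueField] L := IsAlgClosed.lift
  let ψ : TP p →ₐ[S] L := (σ.restrictScalars S).comp (Henz21.H.proj S (GPt p))
  exact isoInv_point hlam h (compat_field (closure_fixed hq)) ψ (fun _ => rfl)

theorem pos_iff_of_isoT [Module.Finite R A] [Module.Finite R A'] (hlam : ∀ r, lam (lam r) = r)
    (h2 : IsUnit (2 : S)) {t : LamInv R A lam} {t' : LamInv R A' lam} {p : PrimeSpectrum S}
    (h : IsoT S lam (TP p) t t') (q : PrimeSpectrum R) (hq : ∀ r, lam r - r ∈ q.asIdeal)
    (hqp : q.asIdeal.comap (algebraMap S R) = p.asIdeal) :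
    Pos (atQ t q hq) ↔ Pos (atQ t' q hq) := by
  have h0 := pos_congr (isoInv_closure hlam h q hq hqp)
  rwa [pos_extension (residue_fixed hq) (closure_fixed hq) (two_ne_residue h2 q),
    pos_extension (residue_fixed hq) (closure_fixed hq) (two_ne_residue h2 q)] at h0

theorem fDim_eq_of_isoT [Module.Finite R A] [Module.Finite R A'] (hlam : ∀ r, lam (lam r) = r)
    (h2 : IsUnit (2 : S)) {t : LamInv R A lam} {t' : LamInv R A' lam} {p : PrimeSpectrum S}
    (h : IsoT S lam (TP p) t t') (q : PrimeSpectrum R) (hq : ∀ r, lam r - r ∈ q.asIdeal)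
    (hqp : q.asIdeal.comap (algebraMap S R) = p.asIdeal) :
    fDim (atQ t q hq) = fDim (atQ t' q hq) := by
  have h0 := fDim_congr (isoInv_closure hlam h q hq hqp)
  rwa [(dims_extension (residue_fixed hq) (closure_fixed hq) (two_ne_residue h2 q) t).1,
    (dims_extension (residue_fixed hq) (closure_fixed hq) (two_ne_residue h2 q) t').1] at h0

theorem pos_matrix_atQ [Module.Finite R A] (t : LamInv R A lam) {m : ℕ} (hm : 0 < m)
    (q : PrimeSpectrum R) (hq : ∀ r, lam r - r ∈ q.asIdeal) :
    Pos (atQ (t.matrix (Fin m)) q hq) ↔ Pos (atQ t q hq) :=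
  (pos_congr (bc_matrix (compat_field (residue_fixed hq)) t (Fin m))).trans
    (pos_matrix (atQ t q hq) hm)

theorem atQ_trA (hlam : ∀ r, lam (lam r) = r) (h2 : IsUnit (2 : S)) {n : ℕ} (hn : 0 < n)
    (q : PrimeSpectrum R) (hq : ∀ r, lam r - r ∈ q.asIdeal) :
    Pos (atQ (trA lam hlam n) q hq) ∧
      fDim (atQ (trA lam hlam n) q hq) = Nat.choose (n + 1) 2 := by
  have h : IsoInv (atQ (trA lam hlam n) q hq) (tr (compat_field (residue_fixed hq)).2 n) :=
    tr_bc (lam := lam.toRingEquiv) hlam (compat_field (residue_fixed hq)) n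
  rw [pos_congr h, fDim_congr h]
  exact ⟨pos_tr (two_ne_residue h2 q) _ hn, fDim_tr _ n⟩

theorem atQ_skew (hlam : ∀ r, lam (lam r) = r) (h2 : IsUnit (2 : S)) {n : ℕ} (hn : 0 < n)
    (w : (Matrix (Fin n) (Fin n) R)ˣ)
    (hw : trA lam hlam n (w : Matrix (Fin n) (Fin n) R) = (-1 : R) • (w : Matrix (Fin n) (Fin n) R))
    (he : lam (-1) * (-1) = 1) (q : PrimeSpectrum R) (hq : ∀ r, lam r - r ∈ q.asIdeal) :
    ¬ Pos (atQ ((trA lam hlam n).conj w (-1) hw he) q hq) ∧
      fDim (atQ ((trA lam hlam n).conj w (-1) hw he) q hq) ≠ Nat.choose (n + 1) 2 := by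
  have h : IsoInv (atQ ((trA lam hlam n).conj w (-1) hw he) q hq)
      ((tr (compat_field (residue_fixed hq)).2 n).conj (mapUnit w) _
        (tr_mapUnit (lam := lam.toRingEquiv) (hlam := hlam) (compat_field (residue_fixed hq)) hw)
        (compat_mul (lam := lam.toRingEquiv) (compat_field (residue_fixed hq)) he)) :=
    model_bc (lam := lam.toRingEquiv) hlam (compat_field (residue_fixed hq)) w (-1) hw he
  rw [pos_congr h, fDim_congr h]
  exact dims_skew (two_ne_residue h2 q) _ hn _ _ _ _ (by simp)

end Point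

end Groth.Agent.AzInv26
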