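import Groth.Agent.AzInv26.Descent

/-! Splitting and inner automorphisms on etale covers of the fixed ring. -/

namespace Groth.Agent.AzInv26

open scoped TensorProduct
open AzInv

universe u v w

attribute [local instance] Algebra.TensorProduct.rightAlgebra

variable {S : Type u} [CommRing S] {R : Type v} [CommRing R] [Algebra S R] {lam : R ≃ₐ[S] R}
  {A : Type w} [Ring A] [Algebra S A] [Algebra R A] [IsScalarTower S R A]

theorem exists_hull_split (hlam : ∀ r, lam (lam r) = r)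
    (hfix : RInv.IsFixedRing S R lam.toRingEquiv) {n : ℕ} (hn : 0 < n) (hA : IsAzumayaDeg R A n)
    (p : PrimeSpectrum S) :
    Finite (MaximalSpectrum (TP p ⊗[S] R)) ∧
      Nonempty ((TP p ⊗[S] R) ⊗[R] A ≃ₐ[TP p ⊗[S] R]
        Matrix (Fin n) (Fin n) (TP p ⊗[S] R)) := by
  have hinv := (compatT (TP p) lam hlam).2
  have hfixT := isFixedRing_of_flat (TP p) lam hfix
  haveI := isIntegral_of_fixed hinv hfixT
  have hfin : Finite (MaximalSpectrum (TP p ⊗[S] R)) := by
    haveI : Nontrivial (TP p ⊗[S] R) := hfixT.1.nontrivial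
    have hcomap : ∀ q : MaximalSpectrum (TP p ⊗[S] R),
        q.asIdeal.comap (algebraMap (TP p) (TP p ⊗[S] R)) = IsLocalRing.maximalIdeal (TP p) :=
      fun q => Azu26.comap_eq_maximalIdeal (H := TP p) q
    obtain ⟨q, hq⟩ := Ideal.exists_maximal (TP p ⊗[S] R)
    haveI : (q.comap (lamT (TP p) lam).toRingHom).IsMaximal :=
      Ideal.comap_isMaximal_of_surjective _ (lamT (TP p) lam).surjective
    refine Finite.of_surjective (fun b : Bool => if b then (⟨q, hq⟩ : MaximalSpectrum _) else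
      ⟨q.comap (lamT (TP p) lam).toRingHom, inferInstance⟩) fun m => ?_
    have hsub : (m.asIdeal : Set (TP p ⊗[S] R)) ⊆
        (q : Set _) ∪ (q.comap (lamT (TP p) lam).toRingHom : Set _) := by
      intro x hx
      obtain ⟨c, hc⟩ := (hfixT.2 (x * lamT (TP p) lam x)).1 (by rw [map_mul, hinv, mul_comm])
      have hm' : c ∈ IsLocalRing.maximalIdeal (TP p) := by
        rw [← hcomap m, Ideal.mem_comap, hc]
        exact m.asIdeal.mul_mem_right _ hx
      rw [← hcomap ⟨q, hq⟩, Ideal.mem_comap, hc] at hm'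
      exact (hq.isPrime.mem_or_mem hm').imp id id
    rcases Ideal.subset_union.1 hsub with h1 | h1
    · exact ⟨true, MaximalSpectrum.ext (m.isMaximal.eq_of_le hq.ne_top h1).symm⟩
    · exact ⟨false, MaximalSpectrum.ext
        (m.isMaximal.eq_of_le (Ideal.comap_ne_top _ hq.ne_top) h1).symm⟩
  haveI := hfin
  have hAT : IsAzumayaDeg (TP p ⊗[S] R) ((TP p ⊗[S] R) ⊗[R] A) n := isAzumayaDeg_bc hA
  exact ⟨hfin, Azu26.exists_split_strict (H := TP p) hAT.1 hn hAT.2⟩

/-- The splitting system. -/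
noncomputable def splitEq (n : ℕ) {a : ℕ} (g : Fin a → A) (T : Type u) [CommRing T] [Algebra S T]
    (v : (Fin n × Fin n) ⊕ (Fin a × Fin n × Fin n) → T ⊗[S] A) :
    (((Fin n × Fin n) × Fin n × Fin n) ⊕ Unit) ⊕ ((Fin a × Fin n × Fin n) × Fin a ⊕ Fin a) →
      T ⊗[S] A
  | Sum.inl (Sum.inl ((i, j), k, l)) =>
      v (Sum.inl (i, j)) * v (Sum.inl (k, l)) - if j = k then v (Sum.inl (i, l)) else 0
  | Sum.inl (Sum.inr _) => (∑ i, v (Sum.inl (i, i))) - 1
  | Sum.inr (Sum.inl (q, r)) =>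
      v (Sum.inr q) * ((1 : T) ⊗ₜ[S] g r) - ((1 : T) ⊗ₜ[S] g r) * v (Sum.inr q)
  | Sum.inr (Sum.inr q) =>
      (∑ i, ∑ j, v (Sum.inr (q, i, j)) * v (Sum.inl (i, j))) - (1 : T) ⊗ₜ[S] g q

theorem exists_split_cover (hlam : ∀ r, lam (lam r) = r)
    (hfix : RInv.IsFixedRing S R lam.toRingEquiv) {n : ℕ} (hn : 0 < n) (hA : IsAzumayaDeg R A n) :
    ∃ (S' : Type u) (_ : CommRing S') (_ : Algebra S S') (_ : Algebra.Etale S S')
      (_ : Module.FaithfullyFlat S S') (f : S' ⊗[S] A ≃ₐ[S'] Matrix (Fin n) (Fin n) (S' ⊗[S] R)),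
      ∀ (r : R) (x : S' ⊗[S] A),
        f (((1 : S') ⊗ₜ[S] algebraMap R A r) * x) =
          Matrix.scalar (Fin n) ((1 : S') ⊗ₜ[S] r) * f x := by
  classical
  haveI := hA.1
  obtain ⟨a, c, g, hg⟩ := Azu26.exists_dualBasis R A
  obtain ⟨T, i1, i2, i3, i4, v, hv⟩ := exists_cover_system (S := S) (A := A) (splitEq n g)
    (fun T T' _ _ _ _ ψ v k => by
      rcases k with (⟨⟨i, j⟩, k, l⟩ | _) | (⟨q, r⟩ | q)
      · simp [splitEq, apply_ite (mapA A ψ)]
      · simp [splitEq]
      · simp [splitEq]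
      · simp [splitEq])
    (fun p => by
      obtain ⟨-, ⟨f⟩⟩ := exists_hull_split hlam hfix hn hA p
      let F : TP p ⊗[S] A ≃+* Matrix (Fin n) (Fin n) (TP p ⊗[S] R) :=
        (phi R (TP p) A).trans f.toRingEquiv
      have hF : ∀ z, F (scal R A (TP p) z) = Matrix.scalar (Fin n) z := by
        intro z
        change f (phi R (TP p) A (scal R A (TP p) z)) = _
        rw [phi_scal, f.commutes]
        rfl
      refine ⟨fun k => match k with
        | Sum.inl (i, j) => F.symm (Matrix.single i j 1)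
        | Sum.inr (q, i, j) => scal R A (TP p) (F ((1 : TP p) ⊗ₜ[S] g q) i j), ?_⟩
      rintro ((⟨⟨i, j⟩, k, l⟩ | _) | (⟨q, r⟩ | q)) <;> simp only [splitEq, sub_eq_zero]
      · apply F.injective
        split_ifs with h
        · subst h; simp
        · simp [Matrix.single_mul_single_of_ne _ _ _ _ h]
      · apply F.injective
        simp [map_sum, Matrix.sum_single_one]
      · exact scal_commute _ _
      · apply F.injective
        simp only [map_sum, map_mul, F.apply_symm_apply, hF]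
        conv_rhs => rw [Matrix.matrix_eq_sum_single (F ((1 : TP p) ⊗ₜ[S] g q))]
        refine Finset.sum_congr rfl fun i _ => Finset.sum_congr rfl fun j _ => ?_
        simp [Matrix.scalar_apply, ← Matrix.smul_eq_diagonal_mul])
  refine ⟨T, i1, i2, i3, i4, ?_⟩
  let e : Fin n → Fin n → T ⊗[S] A := fun i j => v (Sum.inl (i, j))
  have he : ∀ i j k l, e i j * e k l = if j = k then e i l else 0 := fun i j k l =>
    sub_eq_zero.1 (hv (Sum.inl (Sum.inl ((i, j), k, l))))
  have he1 : ∑ i, e i i = 1 := sub_eq_zero.1 (hv (Sum.inl (Sum.inr ())))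
  let ι := scal R A T (S := S)
  have hcomm : ∀ z x, ι z * x = x * ι z := scal_commute
  let G₀ : Matrix (Fin n) (Fin n) (T ⊗[S] R) →ₗ[T] T ⊗[S] A :=
    ∑ i, ∑ j, (LinearMap.mulRight T (e i j)) ∘ₗ ι.toLinearMap ∘ₗ Matrix.entryLinearMap T _ i j
  have hG : ∀ M, G₀ M = ∑ i, ∑ j, ι (M i j) * e i j := fun M => by simp [G₀]
  have hG1 : G₀ 1 = 1 := by
    rw [hG]
    conv_rhs => rw [← he1]
    refine Finset.sum_congr rfl fun i _ => ?_
    rw [Finset.sum_eq_single i]
    · simp
    · intro j _ hj; simp [Matrix.one_apply_ne hj.symm]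
    · simp
  have hGmul : ∀ M N, G₀ (M * N) = G₀ M * G₀ N := by
    intro M N
    rw [hG, hG, hG, Finset.sum_mul]
    refine Finset.sum_congr rfl fun i _ => ?_
    rw [Finset.sum_mul]
    simp only [Matrix.mul_apply, map_sum, map_mul, Finset.sum_mul]
    rw [Finset.sum_comm]
    refine Finset.sum_congr rfl fun j _ => ?_
    symm
    rw [Finset.mul_sum, Finset.sum_eq_single j]
    · rw [Finset.mul_sum]
      refine Finset.sum_congr rfl fun l _ => ?_
      rw [mul_assoc (ι (M i j)) (e i j), ← mul_assoc (e i j), ← hcomm, mul_assoc (ι (N j l)),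
        he, if_pos rfl, ← mul_assoc]
    · intro k _ hk
      rw [Finset.mul_sum]
      refine Finset.sum_eq_zero fun l _ => ?_
      rw [mul_assoc (ι (M i j)) (e i j), ← mul_assoc (e i j), ← hcomm, mul_assoc (ι (N k l)),
        he, if_neg hk.symm, mul_zero, mul_zero]
    · simp
  let G : Matrix (Fin n) (Fin n) (T ⊗[S] R) →ₐ[T] T ⊗[S] A := AlgHom.ofLinearMap G₀ hG1 hGmul
  have hGr : ∀ z M, G (Matrix.scalar (Fin n) z * M) = ι z * G M := by
    intro z M
    change G₀ _ = ι z * G₀ M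
    rw [hG, hG, Finset.mul_sum]
    refine Finset.sum_congr rfl fun i _ => ?_
    rw [Finset.mul_sum]
    refine Finset.sum_congr rfl fun j _ => ?_
    simp [Matrix.scalar_apply, Matrix.diagonal_mul, mul_assoc]
  have hinj : Function.Injective G := by
    rw [injective_iff_map_eq_zero]
    intro M hM
    ext i j
    apply scal_injective (R := R) (A := A) (T := T) (S := S)
    change ι (M i j) = ι 0
    have hent : ∀ k, e k i * G M * e j k = ι (M i j) * e k k := by
      intro k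
      change e k i * G₀ M * e j k = _
      rw [hG, Finset.mul_sum, Finset.sum_mul, Finset.sum_eq_single i]
      · rw [Finset.mul_sum, Finset.sum_mul, Finset.sum_eq_single j]
        · rw [← mul_assoc (e k i), ← hcomm, mul_assoc (ι (M i j)), he, if_pos rfl, mul_assoc, he,
            if_pos rfl]
        · intro b _ hb
          rw [← mul_assoc (e k i), ← hcomm, mul_assoc (ι (M i b)), he, if_pos rfl, mul_assoc, he,
            if_neg hb, mul_zero]
        · simp
      · intro b _ hb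
        rw [Finset.mul_sum, Finset.sum_mul]
        refine Finset.sum_eq_zero fun c _ => ?_
        rw [← mul_assoc (e k i), ← hcomm, mul_assoc (ι (M b c)), he, if_neg hb.symm]
        simp
      · simp
    have := Finset.sum_congr (s₁ := (Finset.univ : Finset (Fin n))) rfl fun k _ => hent k
    rw [← Finset.mul_sum, he1, mul_one, hM] at this
    rw [← this, map_zero]
    simp
  have hsurj : Function.Surjective G := by
    have hgen : ∀ q, ∃ M, G M = (1 : T) ⊗ₜ[S] g q := by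
      intro q
      have hz : ∀ i j, ∃ z, ι z = v (Sum.inr (q, i, j)) := by
        intro i j
        refine exists_scal_of_central _ fun b => ?_
        rw [← hg b, TensorProduct.tmul_sum, Finset.mul_sum, Finset.sum_mul]
        refine Finset.sum_congr rfl fun r _ => ?_
        have h1 := sub_eq_zero.1 (hv (Sum.inr (Sum.inl ((q, i, j), r))))
        have e2 : (1 : T) ⊗ₜ[S] (c r b • g r) = ι ((1 : T) ⊗ₜ[S] c r b) * ((1 : T) ⊗ₜ[S] g r) := by
          simp [ι, Algebra.TensorProduct.tmul_mul_tmul, Algebra.smul_def]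
        rw [e2, ← mul_assoc, ← hcomm, mul_assoc, h1, mul_assoc]
      choose z hz using hz
      refine ⟨Matrix.of z, ?_⟩
      change G₀ _ = _
      rw [hG]
      simp only [Matrix.of_apply, hz]
      exact sub_eq_zero.1 (hv (Sum.inr (Sum.inr q)))
    intro x
    induction x using TensorProduct.induction_on with
    | zero => exact ⟨0, map_zero _⟩
    | add a b ha hb =>
      obtain ⟨a, rfl⟩ := ha
      obtain ⟨b, rfl⟩ := hb
      exact ⟨a + b, map_add _ _ _⟩
    | tmul s b =>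
      choose M hM using hgen
      refine ⟨∑ q, Matrix.scalar (Fin n) (s ⊗ₜ[S] c q b) * M q, ?_⟩
      rw [map_sum]
      conv_rhs => rw [← hg b, TensorProduct.tmul_sum]
      refine Finset.sum_congr rfl fun q _ => ?_
      rw [hGr, hM]
      simp [ι, Algebra.TensorProduct.tmul_mul_tmul, Algebra.smul_def]
  refine ⟨(AlgEquiv.ofBijective G ⟨hinj, hsurj⟩).symm, fun r x => ?_⟩
  apply (AlgEquiv.ofBijective G ⟨hinj, hsurj⟩).injective
  rw [AlgEquiv.apply_symm_apply]
  obtain ⟨M, rfl⟩ := hsurj x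
  have e3 : ∀ M, (AlgEquiv.ofBijective G ⟨hinj, hsurj⟩).symm (G M) = M := fun M =>
    (AlgEquiv.ofBijective G ⟨hinj, hsurj⟩).symm_apply_apply M
  rw [e3]
  change _ = G _
  rw [hGr]
  simp [ι]

/-- An algebra automorphism after base change. -/
noncomputable def autT (ψ : A ≃ₐ[R] A) (T : Type u) [CommRing T] [Algebra S T] :
    T ⊗[S] A ≃ₐ[T] T ⊗[S] A :=
  Algebra.TensorProduct.congr (AlgEquiv.refl : T ≃ₐ[T] T) (ψ.restrictScalars S)

theorem exists_hull_inner (hlam : ∀ r, lam (lam r) = r)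
    (hfix : RInv.IsFixedRing S R lam.toRingEquiv) {n : ℕ} (hn : 0 < n) (hA : IsAzumayaDeg R A n)
    (ψ : A ≃ₐ[R] A) (p : PrimeSpectrum S) :
    ∃ u : (TP p ⊗[S] A)ˣ, ∀ x : TP p ⊗[S] A, autT ψ (TP p) x = ↑u * x * ↑u⁻¹ := by
  obtain ⟨hfin, ⟨f⟩⟩ := exists_hull_split hlam hfix hn hA p
  haveI := hfin
  let ψ' : (TP p ⊗[S] R) ⊗[R] A ≃ₐ[TP p ⊗[S] R] (TP p ⊗[S] R) ⊗[R] A :=
    Algebra.TensorProduct.congr AlgEquiv.refl ψ
  have hψ : ∀ x, phi R (TP p) A (autT ψ (TP p) x) = ψ' (phi R (TP p) A x) := by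
    intro x
    induction x using TensorProduct.induction_on with
    | zero => simp
    | tmul s a => simp [autT, ψ', Algebra.TensorProduct.congr_apply]
    | add a b ha hb => simp only [map_add, ha, hb]
  obtain ⟨W, hW⟩ := Azu26.exists_unit_conj_matrix ((f.symm.trans ψ').trans f)
  let F : TP p ⊗[S] A ≃+* Matrix (Fin n) (Fin n) (TP p ⊗[S] R) :=
    (phi R (TP p) A).trans f.toRingEquiv
  let u : (TP p ⊗[S] A)ˣ := Units.map F.symm.toRingHom.toMonoidHom W
  refine ⟨u, fun x => ?_⟩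
  apply F.injective
  have h1 : F (autT ψ (TP p) x) = ((f.symm.trans ψ').trans f) (F x) := by
    simp [F, hψ]
  rw [h1, hW, map_mul, map_mul]
  simp [u]

/-- The system for inner automorphisms. -/
noncomputable def innerEq {a : ℕ} (g : Fin a → A) (ψ : A ≃ₐ[R] A) (T : Type u) [CommRing T]
    [Algebra S T] (v : Bool → T ⊗[S] A) : Bool ⊕ Fin a → T ⊗[S] A
  | Sum.inl b => v b * v (!b) - 1
  | Sum.inr q => ((1 : T) ⊗ₜ[S] ψ (g q)) * v true - v true * ((1 : T) ⊗ₜ[S] g q)

theorem autT_eq_of_eqs {a : ℕ} {c : Fin a → (A →ₗ[R] R)} {g : Fin a → A}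
    (hg : ∀ x, ∑ i, c i x • g i = x) (ψ : A ≃ₐ[R] A) (T : Type u) [CommRing T] [Algebra S T]
    (v : Bool → T ⊗[S] A) (hv : ∀ k, innerEq g ψ T v k = 0) :
    ∃ u : (T ⊗[S] A)ˣ, (u : T ⊗[S] A) = v true ∧ ∀ x : T ⊗[S] A, autT ψ T x = ↑u * x * ↑u⁻¹ := by
  let u : (T ⊗[S] A)ˣ :=
    ⟨v true, v false, sub_eq_zero.1 (hv (Sum.inl true)), sub_eq_zero.1 (hv (Sum.inl false))⟩
  refine ⟨u, rfl, fun x => ?_⟩
  rw [Units.eq_mul_inv_iff_mul_eq]
  induction x using TensorProduct.induction_on with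
  | zero => simp
  | add x y hx hy => rw [map_add, add_mul, hx, hy, mul_add]
  | tmul s b =>
    change autT ψ T (s ⊗ₜ[S] b) * v true = v true * (s ⊗ₜ[S] b)
    rw [← hg b, TensorProduct.tmul_sum, map_sum, Finset.sum_mul, Finset.mul_sum]
    refine Finset.sum_congr rfl fun q _ => ?_
    have h1 := sub_eq_zero.1 (hv (Sum.inr q))
    have e1 : s ⊗ₜ[S] (c q b • g q) =
        scal R A T (s ⊗ₜ[S] c q b) * ((1 : T) ⊗ₜ[S] g q) := by
      simp [Algebra.TensorProduct.tmul_mul_tmul, Algebra.smul_def]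
    have e2 : autT ψ T (s ⊗ₜ[S] (c q b • g q)) =
        scal R A T (s ⊗ₜ[S] c q b) * ((1 : T) ⊗ₜ[S] ψ (g q)) := by
      simp [autT, Algebra.TensorProduct.congr_apply, Algebra.smul_def,
        Algebra.TensorProduct.tmul_mul_tmul]
    rw [e2, e1, mul_assoc, h1, ← mul_assoc, scal_commute, mul_assoc]

theorem exists_inner_cover (hlam : ∀ r, lam (lam r) = r)
    (hfix : RInv.IsFixedRing S R lam.toRingEquiv) {n : ℕ} (hn : 0 < n) (hA : IsAzumayaDeg R A n)
    (ψ : A ≃ₐ[R] A) :
    ∃ (S' : Type u) (_ : CommRing S') (_ : Algebra S S') (_ : Algebra.Etale S S')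
      (_ : Module.FaithfullyFlat S S') (u : (S' ⊗[S] A)ˣ),
      ∀ x : S' ⊗[S] A, autT ψ S' x = ↑u * x * ↑u⁻¹ := by
  haveI := hA.1
  obtain ⟨a, c, g, hg⟩ := Azu26.exists_dualBasis R A
  obtain ⟨T, i1, i2, i3, i4, v, hv⟩ := exists_cover_system (S := S) (A := A) (innerEq g ψ)
    (fun T T' _ _ _ _ ψ' v k => by
      rcases k with b | q <;> simp [innerEq])
    (fun p => by
      obtain ⟨u, hu⟩ := exists_hull_inner hlam hfix hn hA ψ p
      refine ⟨fun b => if b then ↑u else ↑u⁻¹, ?_⟩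
      rintro ((_ | _) | q)
      · simp [innerEq]
      · simp [innerEq]
      · have := hu ((1 : TP p) ⊗ₜ[S] g q)
        simp only [autT, Algebra.TensorProduct.congr_apply, Algebra.TensorProduct.map_tmul] at this
        simp only [innerEq, sub_eq_zero, if_true]
        rw [show ((1 : TP p) ⊗ₜ[S] ψ (g q)) = ↑u * ((1 : TP p) ⊗ₜ[S] g q) * ↑u⁻¹ from this,
          Units.inv_mul_cancel_right])
  obtain ⟨u, -, hu⟩ := autT_eq_of_eqs hg ψ T v hv
  exact ⟨T, i1, i2, i3, i4, u, hu⟩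

omit [Algebra S A] [IsScalarTower S R A] in
theorem isUnit_of_algebraMap {T : Type u} [CommRing T] {B : Type w} [Ring B] [Algebra T B]
    (hinj : Function.Injective (algebraMap T B)) {x y : T}
    (h : algebraMap T B x * algebraMap T B y = 1) : IsUnit x :=
  IsUnit.of_mul_eq_one y (hinj (by rw [map_mul, h, map_one]))

theorem exists_hull_unitary (hlam : ∀ r, lam (lam r) = r)
    (hfix : RInv.IsFixedRing S R lam.toRingEquiv) (hs : HullSqrt S) {n : ℕ} (hn : 0 < n)
    (hA : IsAzumayaDeg R A n) (t : LamInv R A lam) (ψ : A ≃ₐ[R] A) (hψ : IsInvHom t t ψ)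
    (p : PrimeSpectrum S) :
    ∃ u : (TP p ⊗[S] A)ˣ, t.bc S lam (TP p) ↑u * ↑u = 1 ∧
      ∀ x : TP p ⊗[S] A, autT ψ (TP p) x = ↑u * x * ↑u⁻¹ := by
  haveI := hA.1
  obtain ⟨u, hu⟩ := exists_hull_inner hlam hfix hn hA ψ p
  let T := TP p
  let τ := t.bc S lam T
  have hττ : ∀ x, τ (τ x) = x := by
    intro x
    induction x using TensorProduct.induction_on with
    | zero => simp
    | tmul a b => simp [τ]
    | add a b ha hb => simp only [map_add, ha, hb]
  have hmul : ∀ x y, τ (x * y) = τ y * τ x := bc_mul lam T t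
  have hone : τ 1 = 1 := by simp [τ, Algebra.TensorProduct.one_def]
  have hcomm : ∀ x, autT ψ T (τ x) = τ (autT ψ T x) := by
    intro x
    induction x using TensorProduct.induction_on with
    | zero => simp
    | tmul a b => simp [autT, τ, Algebra.TensorProduct.congr_apply, hψ b]
    | add a b ha hb => simp only [map_add, ha, hb]
  have hz : ∀ x, τ ↑u * ↑u * x = x * (τ ↑u * ↑u) := by
    intro x
    have h := hcomm (τ x)
    rw [hττ, hu, hu, hmul, hmul, hττ] at h
    calc τ ↑u * ↑u * x = τ ↑u * (↑u * x * ↑u⁻¹) * ↑u := by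
          simp only [mul_assoc, Units.inv_mul, mul_one]
      _ = τ ↑u * (τ ↑u⁻¹ * (x * τ ↑u)) * ↑u := by rw [h]
      _ = τ (↑u⁻¹ * ↑u) * (x * τ ↑u) * ↑u := by rw [hmul, ← mul_assoc (τ ↑u)]
      _ = x * (τ ↑u * ↑u) := by rw [Units.inv_mul, hone, one_mul, mul_assoc]
  have hinj : Function.Injective (algebraMap T (T ⊗[S] A)) := by
    intro x y hxy
    apply (isFixedRing_of_flat T lam hfix).1
    apply scal_injective (R := R) (A := A) (T := T) (S := S)
    rw [AlgHom.commutes, AlgHom.commutes, hxy]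
  have hfixed : ∀ z : T ⊗[S] A, (∀ x, z * x = x * z) → τ z = z →
      ∃ h : T, algebraMap T (T ⊗[S] A) h = z := by
    intro z hz hzt
    obtain ⟨c, rfl⟩ := exists_scal_of_central (R := R) z fun a => hz _
    obtain ⟨h, rfl⟩ := ((isFixedRing_of_flat T lam hfix).2 c).1 (by
      apply scal_injective (R := R) (A := A) (T := T) (S := S)
      refine Eq.trans ?_ hzt
      induction c using TensorProduct.induction_on with
      | zero => simp
      | tmul a b => simp [τ, t.map_algebraMap]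
      | add a b ha hb =>
        have : ∀ c, scal R A T (lamT T lam c) = τ (scal R A T c) := by
          intro c
          induction c using TensorProduct.induction_on with
          | zero => simp
          | tmul a b => simp [τ, t.map_algebraMap]
          | add a b ha hb => simp only [map_add, ha, hb]
        exact this _)
    exact ⟨h, (AlgHom.commutes _ h).symm⟩
  have hsym : τ (τ ↑u * ↑u) = τ ↑u * ↑u := by rw [hmul, hττ]
  obtain ⟨h, hh⟩ := hfixed _ hz hsym
  let zu : (T ⊗[S] A)ˣ :=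
    ⟨τ ↑u * ↑u, ↑u⁻¹ * τ ↑u⁻¹,
      by rw [mul_assoc, ← mul_assoc (↑u : T ⊗[S] A), Units.mul_inv, one_mul, ← hmul, Units.inv_mul, hone],
      by rw [mul_assoc, ← mul_assoc (τ ↑u⁻¹), ← hmul, Units.mul_inv, hone, one_mul, Units.inv_mul]⟩
  obtain ⟨h', hh'⟩ := hfixed ↑zu⁻¹
    (fun x => (show Commute (zu : T ⊗[S] A) x from hz x).units_inv_left.eq) (by
      have h3 : (↑zu : T ⊗[S] A) * τ ↑zu⁻¹ = 1 := by
        calc (↑zu : T ⊗[S] A) * τ ↑zu⁻¹ = τ (↑zu : T ⊗[S] A) * τ ↑zu⁻¹ := by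
              rw [show τ (↑zu : T ⊗[S] A) = ↑zu from hsym]
          _ = 1 := by rw [← hmul, Units.inv_mul, hone]
      exact (zu.inv_eq_of_mul_eq_one_right h3).symm)
  have hhu : IsUnit h := isUnit_of_algebraMap hinj (y := h') (by
    rw [hh, hh']; exact zu.mul_inv)
  obtain ⟨y, hy⟩ := hs p h hhu
  obtain ⟨yu, rfl⟩ : IsUnit y := isUnit_of_mul_isUnit_left (hy ▸ hhu)
  let Y : (T ⊗[S] A)ˣ := Units.map (algebraMap T (T ⊗[S] A)).toMonoidHom yu⁻¹
  have hY : ∀ x, (Y : T ⊗[S] A) * x = x * Y := fun x => Algebra.commutes _ x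
  have hYsm : ∀ x, (Y : T ⊗[S] A) * x = (↑yu⁻¹ : T) • x := fun x => (Algebra.smul_def _ _).symm
  refine ⟨Y * u, ?_, fun x => ?_⟩
  · change τ (↑Y * ↑u) * (↑Y * ↑u) = 1
    rw [hYsm, map_smul, smul_mul_smul_comm, ← hh, Algebra.algebraMap_eq_smul_one, smul_smul, ← hy,
      mul_mul_mul_comm, Units.inv_mul, mul_one, one_smul]
  · rw [hu, mul_inv_rev, Units.val_mul, Units.val_mul]
    calc (↑u : T ⊗[S] A) * x * ↑u⁻¹ = ↑u * x * ↑u⁻¹ * (↑Y * ↑Y⁻¹) := by
          rw [Units.mul_inv, mul_one]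
      _ = ↑Y * (↑u * x * ↑u⁻¹) * ↑Y⁻¹ := by
          rw [hY (↑u * x * ↑u⁻¹)]
          simp only [mul_assoc]
      _ = _ := by simp only [mul_assoc]

/-- The system for unitary elements. -/
noncomputable def unitaryEq {a : ℕ} (g : Fin a → A) (t : LamInv R A lam) (ψ : A ≃ₐ[R] A)
    (T : Type u) [CommRing T] [Algebra S T] (v : Bool → T ⊗[S] A) :
    Unit ⊕ (Bool ⊕ Fin a) → T ⊗[S] A
  | Sum.inl _ => t.bc S lam T (v true) * v true - 1
  | Sum.inr k => innerEq g ψ T v k

theorem exists_unitary_cover (hlam : ∀ r, lam (lam r) = r)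
    (hfix : RInv.IsFixedRing S R lam.toRingEquiv) (hs : HullSqrt S) {n : ℕ} (hn : 0 < n)
    (hA : IsAzumayaDeg R A n) (t : LamInv R A lam) (ψ : A ≃ₐ[R] A) (hψ : IsInvHom t t ψ) :
    ∃ (S' : Type u) (_ : CommRing S') (_ : Algebra S S') (_ : Algebra.Etale S S')
      (_ : Module.FaithfullyFlat S S') (u : (S' ⊗[S] A)ˣ),
      t.bc S lam S' (↑u : S' ⊗[S] A) * ↑u = 1 ∧
        ∀ x : S' ⊗[S] A, autT ψ S' x = ↑u * x * ↑u⁻¹ := by
  haveI := hA.1
  obtain ⟨a, c, g, hg⟩ := Azu26.exists_dualBasis R A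
  obtain ⟨T, i1, i2, i3, i4, v, hv⟩ := exists_cover_system (S := S) (A := A) (unitaryEq g t ψ)
    (fun T T' _ _ _ _ ψ' v k => by
      have hbc : ∀ x, t.bc S lam T' (mapA A ψ' x) = mapA A ψ' (t.bc S lam T x) := by
        intro x
        induction x using TensorProduct.induction_on with
        | zero => simp
        | tmul a b => simp
        | add a b ha hb => simp only [map_add, ha, hb]
      rcases k with _ | (b | q) <;> simp [unitaryEq, innerEq, hbc])
    (fun p => by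
      obtain ⟨u, hu1, hu⟩ := exists_hull_unitary hlam hfix hs hn hA t ψ hψ p
      refine ⟨fun b => if b then ↑u else ↑u⁻¹, ?_⟩
      rintro (_ | (_ | _) | q)
      · simp [unitaryEq, hu1]
      · simp [unitaryEq, innerEq]
      · simp [unitaryEq, innerEq]
      · have := hu ((1 : TP p) ⊗ₜ[S] g q)
        simp only [autT, Algebra.TensorProduct.congr_apply, Algebra.TensorProduct.map_tmul] at this
        simp only [unitaryEq, innerEq, sub_eq_zero, if_true]
        rw [show ((1 : TP p) ⊗ₜ[S] ψ (g q)) = ↑u * ((1 : TP p) ⊗ₜ[S] g q) * ↑u⁻¹ from this,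
          Units.inv_mul_cancel_right])
  obtain ⟨u, hu0, hu⟩ := autT_eq_of_eqs hg ψ T v fun k => hv (Sum.inr k)
  refine ⟨T, i1, i2, i3, i4, u, ?_, hu⟩
  rw [hu0]
  exact sub_eq_zero.1 (hv (Sum.inl ()))

end Groth.Agent.AzInv26
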