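import Groth.Prelude.Def_AzInv
import Groth.Agent.AzInv26.Cover
import Groth.Agent.Azu26.Basic
import Mathlib.RingTheory.TensorProduct.Maps
import Mathlib.RingTheory.Jacobson.Ring

/-! Isomorphisms of algebras with involution described by finitely many equations. -/

namespace Groth.Agent.AzInv26

open scoped TensorProduct
open AzInv Groth.Agent CategoryTheory

universe u v w w' u'

section

variable (S : Type u) [CommRing S] {R : Type v} [CommRing R] [Algebra S R] (lam : R ≃ₐ[S] R)
  {A : Type w} [Ring A] [Algebra S A] [Algebra R A] [IsScalarTower S R A]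
  {A' : Type w'} [Ring A'] [Algebra S A'] [Algebra R A'] [IsScalarTower S R A']

/-- An isomorphism after base change to `T`. -/
def IsoT (T : Type u') [CommRing T] [Algebra S T] (t : LamInv R A lam) (t' : LamInv R A' lam) :
    Prop :=
  ∃ f : T ⊗[S] A ≃ₐ[T] T ⊗[S] A',
    (∀ (r : R) (x : T ⊗[S] A),
        f (((1 : T) ⊗ₜ[S] algebraMap R A r) * x) = ((1 : T) ⊗ₜ[S] algebraMap R A' r) * f x) ∧
      ∀ x : T ⊗[S] A, f (t.bc S lam T x) = t'.bc S lam T (f x)

variable {S} (T : Type u') [CommRing T] [Algebra S T]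

theorem commute_one_tmul (r : R) (x : T ⊗[S] A') :
    ((1 : T) ⊗ₜ[S] algebraMap R A' r) * x = x * ((1 : T) ⊗ₜ[S] algebraMap R A' r) := by
  induction x using TensorProduct.induction_on with
  | zero => simp
  | tmul a b =>
    rw [Algebra.TensorProduct.tmul_mul_tmul, Algebra.TensorProduct.tmul_mul_tmul, one_mul, mul_one,
      Algebra.commutes]
  | add a b ha hb => rw [mul_add, add_mul, ha, hb]

theorem bc_mul (t : LamInv R A lam) (x y : T ⊗[S] A) :
    t.bc S lam T (x * y) = t.bc S lam T y * t.bc S lam T x := by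
  induction x using TensorProduct.induction_on with
  | zero => simp
  | add a b ha hb => simp only [add_mul, map_add, ha, hb, mul_add]
  | tmul a b =>
    induction y using TensorProduct.induction_on with
    | zero => simp
    | add c d hc hd => simp only [mul_add, map_add, hc, hd, add_mul]
    | tmul c d =>
      simp only [Algebra.TensorProduct.tmul_mul_tmul, LamInv.bc_tmul, t.map_mul, mul_comm a c]

variable {n n' : ℕ} (c : Fin n → (A →ₗ[R] R)) (e : Fin n → A)
  (c' : Fin n' → (A' →ₗ[R] R)) (e' : Fin n' → A')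

/-- Multiplication by the image of `r`. -/
noncomputable def rmul (r : R) : T ⊗[S] A' →ₗ[S] T ⊗[S] A' :=
  LinearMap.mulLeft S ((1 : T) ⊗ₜ[S] algebraMap R A' r)

/-- The map determined by the values on the generators. -/
noncomputable def ext (v : Fin n → T ⊗[S] A') : A →ₗ[S] T ⊗[S] A' where
  toFun a := ∑ i, ((1 : T) ⊗ₜ[S] algebraMap R A' (c i a)) * v i
  map_add' a b := by simp [TensorProduct.tmul_add, add_mul, Finset.sum_add_distrib]
  map_smul' s a := by
    rw [RingHom.id_apply, Finset.smul_sum]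
    refine Finset.sum_congr rfl fun i _ => ?_
    rw [← algebraMap_smul R s a, map_smul, algebraMap_smul, ← smul_mul_assoc,
      ← TensorProduct.tmul_smul]
    congr 2
    rw [Algebra.smul_def, Algebra.smul_def, map_mul, ← IsScalarTower.algebraMap_apply]

theorem ext_rsmul (v : Fin n → T ⊗[S] A') (r : R) (a : A) :
    ext T c v (r • a) = ((1 : T) ⊗ₜ[S] algebraMap R A' r) * ext T c v a := by
  simp only [ext, LinearMap.coe_mk, AddHom.coe_mk, map_smul, smul_eq_mul, map_mul, Finset.mul_sum]
  refine Finset.sum_congr rfl fun i _ => ?_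
  rw [← mul_assoc, Algebra.TensorProduct.tmul_mul_tmul, one_mul]

/-- The defects of a pair of value families. -/
noncomputable def defects (t : LamInv R A lam) (t' : LamInv R A' lam) (v : Fin n → T ⊗[S] A')
    (v' : Fin n' → T ⊗[S] A) :
    (Unit ⊕ (Fin n × Fin n)) ⊕ (Fin n ⊕ Fin n') → T ⊗[S] A'
  | Sum.inl (Sum.inl _) => ext T c v 1 - 1
  | Sum.inl (Sum.inr (i, j)) => ext T c v (e i * e j) - v i * v j
  | Sum.inr (Sum.inl i) => ext T c v (t (e i)) - t'.bc S lam T (v i)
  | Sum.inr (Sum.inr j) => LinearMap.liftBaseChange T (ext T c v) (v' j) - (1 : T) ⊗ₜ[S] e' j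

variable {T} in
/-- Functoriality in `T`. -/
theorem defects_map {T' : Type u'} [CommRing T'] [Algebra S T'] (ψ : T →ₐ[S] T')
    (t : LamInv R A lam) (t' : LamInv R A' lam) (v : Fin n → T ⊗[S] A')
    (v' : Fin n' → T ⊗[S] A) (k) :
    defects lam T' c e e' t t' (fun i => LinearMap.rTensor A' ψ.toLinearMap (v i))
        (fun j => LinearMap.rTensor A ψ.toLinearMap (v' j)) k =
      LinearMap.rTensor A' ψ.toLinearMap (defects lam T c e e' t t' v v' k) := by
  have hmul : ∀ x y : T ⊗[S] A', LinearMap.rTensor A' ψ.toLinearMap (x * y) =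
      LinearMap.rTensor A' ψ.toLinearMap x * LinearMap.rTensor A' ψ.toLinearMap y := by
    have : ∀ x, LinearMap.rTensor A' ψ.toLinearMap x =
        Algebra.TensorProduct.map ψ (AlgHom.id S A') x := by
      intro x
      induction x using TensorProduct.induction_on with
      | zero => simp
      | tmul a b => simp
      | add a b ha hb => simp [ha, hb]
    intro x y
    simp [this, map_mul]
  have hext : ∀ a, ext T' c (fun i => LinearMap.rTensor A' ψ.toLinearMap (v i)) a =
      LinearMap.rTensor A' ψ.toLinearMap (ext T c v a) := by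
    intro a
    simp [ext, map_sum, hmul]
  have hbc : ∀ x, t'.bc S lam T' (LinearMap.rTensor A' ψ.toLinearMap x) =
      LinearMap.rTensor A' ψ.toLinearMap (t'.bc S lam T x) := by
    intro x
    induction x using TensorProduct.induction_on with
    | zero => simp
    | tmul a b => simp
    | add a b ha hb => simp [ha, hb]
  have h1 : LinearMap.rTensor A' ψ.toLinearMap (1 : T ⊗[S] A') = 1 := by
    simp [Algebra.TensorProduct.one_def]
  rcases k with (_ | ⟨i, j⟩) | (i | j)
  · simp [defects, hext, h1]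
  · simp [defects, hext, hmul]
  · simp [defects, hext, hbc]
  · simp only [defects, map_sub, LinearMap.rTensor_tmul, AlgHom.toLinearMap_apply, map_one]
    congr 1
    induction v' j using TensorProduct.induction_on with
    | zero => simp
    | tmul a b =>
      simp only [LinearMap.rTensor_tmul, LinearMap.liftBaseChange_tmul, hext, AlgHom.toLinearMap_apply]
      induction ext T c v b using TensorProduct.induction_on with
      | zero => simp
      | tmul p q => simp [TensorProduct.smul_tmul']
      | add p q hp hq => simp only [map_add, smul_add, hp, hq]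
    | add a b ha hb => simp only [map_add, ha, hb]

/-- The equations describing an isomorphism. -/
def Eqs (t : LamInv R A lam) (t' : LamInv R A' lam) (v : Fin n → T ⊗[S] A')
    (v' : Fin n' → T ⊗[S] A) : Prop :=
  (∀ k, defects lam T c e e' t t' v v' k = 0) ∧ ∀ k, defects lam T c' e' e t' t v' v k = 0

variable {c e c' e'}

theorem eqs_alg (he : ∀ x, ∑ i, c i x • e i = x) (t : LamInv R A lam) (t' : LamInv R A' lam)
    {v : Fin n → T ⊗[S] A'} {v' : Fin n' → T ⊗[S] A}
    (h : ∀ k, defects lam T c e e' t t' v v' k = 0) :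
    ∃ F : T ⊗[S] A →ₐ[T] T ⊗[S] A', (∀ a, F ((1 : T) ⊗ₜ[S] a) = ext T c v a) ∧
      (∀ a, ext T c v (t a) = t'.bc S lam T (ext T c v a)) ∧
      ∀ j, F (v' j) = (1 : T) ⊗ₜ[S] e' j := by
  have h1 : ext T c v 1 = 1 := sub_eq_zero.1 (h (Sum.inl (Sum.inl ())))
  have h2 : ∀ i j, ext T c v (e i * e j) = v i * v j := fun i j =>
    sub_eq_zero.1 (h (Sum.inl (Sum.inr (i, j))))
  have hrep : ∀ a, ext T c v a = ∑ i, ((1 : T) ⊗ₜ[S] algebraMap R A' (c i a)) * v i := fun a => rfl
  have hmul : ∀ a b, ext T c v (a * b) = ext T c v a * ext T c v b := by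
    intro a b
    conv_lhs => rw [← he a, ← he b]
    rw [Finset.sum_mul_sum, map_sum, hrep a, hrep b, Finset.sum_mul_sum]
    refine Finset.sum_congr rfl fun i _ => ?_
    rw [map_sum]
    refine Finset.sum_congr rfl fun j _ => ?_
    rw [smul_mul_smul_comm, ext_rsmul, h2, map_mul]
    conv_rhs => rw [mul_assoc, ← mul_assoc (v i), ← commute_one_tmul T (c j b) (v i), mul_assoc,
      ← mul_assoc, Algebra.TensorProduct.tmul_mul_tmul, one_mul]
  let g : A →ₐ[S] T ⊗[S] A' :=
    AlgHom.ofLinearMap (ext T c v) h1 hmul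
  let F : T ⊗[S] A →ₐ[T] T ⊗[S] A' :=
    Algebra.TensorProduct.lift (Algebra.ofId T (T ⊗[S] A')) g fun x a => Algebra.commutes x _
  have hF : ∀ a, F ((1 : T) ⊗ₜ[S] a) = ext T c v a := by
    intro a
    change Algebra.TensorProduct.lift _ g _ ((1 : T) ⊗ₜ[S] a) = _
    rw [Algebra.TensorProduct.lift_tmul, map_one, one_mul]
    rfl
  refine ⟨F, hF, fun a => ?_, fun j => ?_⟩
  · have h3 : ∀ i, ext T c v (t (e i)) = t'.bc S lam T (v i) := fun i =>
      sub_eq_zero.1 (h (Sum.inr (Sum.inl i)))
    conv_lhs => rw [← he a]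
    rw [← LamInv.toAddMonoidHom_apply, map_sum, map_sum, hrep a, map_sum]
    refine Finset.sum_congr rfl fun i _ => ?_
    rw [LamInv.toAddMonoidHom_apply, t.map_smul, ext_rsmul, h3, bc_mul, LamInv.bc_tmul,
      t'.map_algebraMap, ← commute_one_tmul]
  · have h4 := sub_eq_zero.1 (h (Sum.inr (Sum.inr j)))
    rw [← h4]
    induction v' j using TensorProduct.induction_on with
    | zero => simp
    | tmul x a =>
      rw [LinearMap.liftBaseChange_tmul, ← hF a, ← map_smul, TensorProduct.smul_tmul', smul_eq_mul,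
        mul_one]
    | add x y hx hy => simp only [map_add, hx, hy]

theorem isoT_of_eqs (he : ∀ x, ∑ i, c i x • e i = x) (he' : ∀ x, ∑ i, c' i x • e' i = x)
    (t : LamInv R A lam) (t' : LamInv R A' lam) {v : Fin n → T ⊗[S] A'} {v' : Fin n' → T ⊗[S] A}
    (h : Eqs lam T c e c' e' t t' v v') : IsoT S lam T t t' := by
  obtain ⟨F, hF, hFt, hFv⟩ := eqs_alg lam T he t t' h.1
  obtain ⟨G, hG, -, hGv⟩ := eqs_alg lam T he' t' t h.2
  have hr : ∀ (r : R) (x : T ⊗[S] A), F (((1 : T) ⊗ₜ[S] algebraMap R A r) * x) =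
      ((1 : T) ⊗ₜ[S] algebraMap R A' r) * F x := by
    intro r x
    rw [map_mul, hF]
    congr 1
    rw [Algebra.algebraMap_eq_smul_one, ext_rsmul, ← hF, ← Algebra.TensorProduct.one_def, map_one,
      mul_one]
  have hr' : ∀ (r : R) (x : T ⊗[S] A'), G (((1 : T) ⊗ₜ[S] algebraMap R A' r) * x) =
      ((1 : T) ⊗ₜ[S] algebraMap R A r) * G x := by
    intro r x
    rw [map_mul, hG]
    congr 1
    rw [Algebra.algebraMap_eq_smul_one, ext_rsmul, ← hG, ← Algebra.TensorProduct.one_def, map_one,
      mul_one]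
  have hGF : G.comp F = AlgHom.id T (T ⊗[S] A) := by
    apply Algebra.TensorProduct.ext
    · ext
    · apply AlgHom.ext
      intro a
      change G (F ((1 : T) ⊗ₜ[S] a)) = (1 : T) ⊗ₜ[S] a
      rw [hF]
      simp only [AzInv26.ext, LinearMap.coe_mk, AddHom.coe_mk, map_sum]
      simp only [hr', hGv, Algebra.TensorProduct.tmul_mul_tmul, one_mul]
      rw [← TensorProduct.tmul_sum]
      simp only [← Algebra.smul_def, he]
  have hFG : F.comp G = AlgHom.id T (T ⊗[S] A') := by
    apply Algebra.TensorProduct.ext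
    · ext
    · apply AlgHom.ext
      intro a
      change F (G ((1 : T) ⊗ₜ[S] a)) = (1 : T) ⊗ₜ[S] a
      rw [hG]
      simp only [AzInv26.ext, LinearMap.coe_mk, AddHom.coe_mk, map_sum]
      simp only [hr, hFv, Algebra.TensorProduct.tmul_mul_tmul, one_mul]
      rw [← TensorProduct.tmul_sum]
      simp only [← Algebra.smul_def, he']
  refine ⟨AlgEquiv.ofAlgHom F G hFG hGF, hr, fun x => ?_⟩
  change F _ = t'.bc S lam T (F x)
  induction x using TensorProduct.induction_on with
  | zero => simp
  | add x y hx hy => simp only [map_add, hx, hy]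
  | tmul s a =>
    have e1 : ∀ b : A, F (s ⊗ₜ[S] b) = s • ext T c v b := by
      intro b
      rw [← hF b, ← map_smul, TensorProduct.smul_tmul', smul_eq_mul, mul_one]
    rw [LamInv.bc_tmul, e1, e1, map_smul, hFt]

theorem eqs_of_isoT (he : ∀ x, ∑ i, c i x • e i = x) (he' : ∀ x, ∑ i, c' i x • e' i = x)
    (t : LamInv R A lam) (t' : LamInv R A' lam) (h : IsoT S lam T t t') :
    ∃ v v', Eqs lam T c e c' e' t t' v v' := by
  obtain ⟨f, hfr, hft⟩ := h
  have hfr' : ∀ (r : R) (x : T ⊗[S] A'), f.symm (((1 : T) ⊗ₜ[S] algebraMap R A' r) * x) =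
      ((1 : T) ⊗ₜ[S] algebraMap R A r) * f.symm x := by
    intro r x
    apply f.injective
    rw [f.apply_symm_apply, hfr, f.apply_symm_apply]
  have hft' : ∀ x, f.symm (t'.bc S lam T x) = t.bc S lam T (f.symm x) := by
    intro x
    apply f.injective
    rw [f.apply_symm_apply, hft, f.apply_symm_apply]
  refine ⟨fun i => f ((1 : T) ⊗ₜ[S] e i), fun j => f.symm ((1 : T) ⊗ₜ[S] e' j), ?_, ?_⟩
  · have hx : ∀ a, ext T c (fun i => f ((1 : T) ⊗ₜ[S] e i)) a = f ((1 : T) ⊗ₜ[S] a) := by
      intro a
      conv_rhs => rw [← he a, TensorProduct.tmul_sum, map_sum]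
      simp only [AzInv26.ext, LinearMap.coe_mk, AddHom.coe_mk]
      refine Finset.sum_congr rfl fun i _ => ?_
      rw [← hfr, Algebra.TensorProduct.tmul_mul_tmul, one_mul, Algebra.smul_def]
    have hl : ∀ x, LinearMap.liftBaseChange T (ext T c (fun i => f ((1 : T) ⊗ₜ[S] e i))) x = f x := by
      intro x
      induction x using TensorProduct.induction_on with
      | zero => simp
      | tmul a b => rw [LinearMap.liftBaseChange_tmul, hx, ← map_smul, TensorProduct.smul_tmul',
          smul_eq_mul, mul_one]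
      | add a b ha hb => simp only [map_add, ha, hb]
    rintro ((_ | ⟨i, j⟩) | (i | j))
    · simp [defects, hx, ← Algebra.TensorProduct.one_def]
    · simp [defects, hx, ← map_mul, Algebra.TensorProduct.tmul_mul_tmul]
    · simp [defects, hx, ← hft]
    · simp [defects, hl]
  · have hx : ∀ a, ext T c' (fun i => f.symm ((1 : T) ⊗ₜ[S] e' i)) a = f.symm ((1 : T) ⊗ₜ[S] a) := by
      intro a
      conv_rhs => rw [← he' a, TensorProduct.tmul_sum, map_sum]
      simp only [AzInv26.ext, LinearMap.coe_mk, AddHom.coe_mk]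
      refine Finset.sum_congr rfl fun i _ => ?_
      rw [← hfr', Algebra.TensorProduct.tmul_mul_tmul, one_mul, Algebra.smul_def]
    have hl : ∀ x, LinearMap.liftBaseChange T
        (ext T c' (fun i => f.symm ((1 : T) ⊗ₜ[S] e' i))) x = f.symm x := by
      intro x
      induction x using TensorProduct.induction_on with
      | zero => simp
      | tmul a b => rw [LinearMap.liftBaseChange_tmul, hx, ← map_smul, TensorProduct.smul_tmul',
          smul_eq_mul, mul_one]
      | add a b ha hb => simp only [map_add, ha, hb]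
    rintro ((_ | ⟨i, j⟩) | (i | j))
    · simp [defects, hx, ← Algebra.TensorProduct.one_def]
    · simp [defects, hx, ← map_mul, Algebra.TensorProduct.tmul_mul_tmul]
    · simp [defects, hx, ← hft']
    · simp [defects, hl]

end

section Glue

variable (S : Type u) [CommRing S] {R : Type v} [CommRing R] [Algebra S R] (lam : R ≃ₐ[S] R)
  {A : Type w} [Ring A] [Algebra S A] [Algebra R A] [IsScalarTower S R A]
  {A' : Type w'} [Ring A'] [Algebra S A'] [Algebra R A'] [IsScalarTower S R A']
  [Module.Finite R A] [Module.Projective R A] [Module.Finite R A'] [Module.Projective R A']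

theorem IsoT.map {T T' : Type u'} [CommRing T] [Algebra S T] [CommRing T'] [Algebra S T']
    (ψ : T →ₐ[S] T') {t : LamInv R A lam} {t' : LamInv R A' lam} (h : IsoT S lam T t t') :
    IsoT S lam T' t t' := by
  obtain ⟨n, c, e, he⟩ := Azu26.exists_dualBasis R A
  obtain ⟨n', c', e', he'⟩ := Azu26.exists_dualBasis R A'
  obtain ⟨v, v', h1, h2⟩ := eqs_of_isoT lam T he he' t t' h
  refine isoT_of_eqs lam T' he he' t t' (v := fun i => LinearMap.rTensor A' ψ.toLinearMap (v i))
    (v' := fun j => LinearMap.rTensor A ψ.toLinearMap (v' j)) ⟨fun k => ?_, fun k => ?_⟩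
  · rw [defects_map, h1 k, map_zero]
  · rw [defects_map, h2 k, map_zero]

theorem exists_stage_isoT {K : Type u} [Field K] [Algebra S K] [IsAlgClosed K]
    {t : LamInv R A lam} {t' : LamInv R A' lam} (h : IsoT S lam (Henz21.H S K) t t') :
    ∃ i : Henz21.Pt S K, IsoT S lam i.S t t' := by
  classical
  obtain ⟨n, c, e, he⟩ := Azu26.exists_dualBasis R A
  obtain ⟨n', c', e', he'⟩ := Azu26.exists_dualBasis R A'
  obtain ⟨v, v', h1, h2⟩ := eqs_of_isoT lam (Henz21.H S K) he he' t t' h
  obtain ⟨i, w, hw⟩ := exists_stage_family v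
  obtain ⟨j, w', hw'⟩ := exists_stage_family v'
  let k := IsFiltered.max i j
  let f₁ : i ⟶ k := IsFiltered.leftToMax i j
  let f₂ : j ⟶ k := IsFiltered.rightToMax i j
  let x : Fin n → k.S ⊗[S] A' := fun a => LinearMap.rTensor A' f₁.φ.toLinearMap (w a)
  let y : Fin n' → k.S ⊗[S] A := fun a => LinearMap.rTensor A f₂.φ.toLinearMap (w' a)
  have hx : (fun a => LinearMap.rTensor A' (Henz21.H.incl k).toLinearMap (x a)) = v := funext fun a => by
    rw [← LinearMap.rTensor_comp_apply, ← AlgHom.comp_toLinearMap, Henz21.H.incl_comp, hw]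
  have hy : (fun a => LinearMap.rTensor A (Henz21.H.incl k).toLinearMap (y a)) = v' := funext fun a => by
    rw [← LinearMap.rTensor_comp_apply, ← AlgHom.comp_toLinearMap, Henz21.H.incl_comp, hw']
  obtain ⟨l, g, hg⟩ := exists_stage_eqs k (Finset.univ.image (defects lam k.S c e e' t t' x y))
    fun z hz => by
      obtain ⟨q, -, rfl⟩ := Finset.mem_image.1 hz
      rw [← defects_map, hx, hy]
      exact h1 q
  obtain ⟨m, g', hg'⟩ := exists_stage_eqs l
    (Finset.univ.image fun q => LinearMap.rTensor A g.φ.toLinearMap (defects lam k.S c' e' e t' t y x q))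
    fun z hz => by
      obtain ⟨q, -, rfl⟩ := Finset.mem_image.1 hz
      rw [← LinearMap.rTensor_comp_apply, ← AlgHom.comp_toLinearMap, Henz21.H.incl_comp,
        ← defects_map, hx, hy]
      exact h2 q
  refine ⟨m, isoT_of_eqs lam m.S he he' t t'
    (v := fun a => LinearMap.rTensor A' (g'.φ.comp g.φ).toLinearMap (x a))
    (v' := fun a => LinearMap.rTensor A (g'.φ.comp g.φ).toLinearMap (y a)) ⟨fun q => ?_, fun q => ?_⟩⟩
  · rw [defects_map, AlgHom.comp_toLinearMap, LinearMap.rTensor_comp_apply,
      hg _ (Finset.mem_image_of_mem _ (Finset.mem_univ q)), map_zero]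
  · rw [defects_map, AlgHom.comp_toLinearMap, LinearMap.rTensor_comp_apply]
    exact hg' _ (Finset.mem_image_of_mem _ (Finset.mem_univ q))

theorem isoT_pi {n : ℕ} (T : Fin n → Type u) [∀ i, CommRing (T i)] [∀ i, Algebra S (T i)]
    {t : LamInv R A lam} {t' : LamInv R A' lam} (h : ∀ i, IsoT S lam (T i) t t') :
    IsoT S lam (∀ i, T i) t t' := by
  classical
  obtain ⟨a, c, e, he⟩ := Azu26.exists_dualBasis R A
  obtain ⟨a', c', e', he'⟩ := Azu26.exists_dualBasis R A'
  choose v v' h1 h2 using fun i => eqs_of_isoT lam (T i) he he' t t' (h i)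
  choose x hx using fun q => (pi_tensor_bijective (M := A') T).2 fun i => v i q
  choose y hy using fun q => (pi_tensor_bijective (M := A) T).2 fun i => v' i q
  refine isoT_of_eqs lam (∀ i, T i) he he' t t' (v := x) (v' := y) ⟨fun q => ?_, fun q => ?_⟩
  · refine (pi_tensor_bijective (M := A') T).1 (funext fun i => ?_)
    dsimp only
    change LinearMap.rTensor A' (Pi.evalAlgHom S T i).toLinearMap _ =
      LinearMap.rTensor A' (Pi.evalAlgHom S T i).toLinearMap 0
    rw [← defects_map, map_zero]
    convert h1 i q using 2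
    · exact funext fun q => congrFun (hx q) i
    · exact funext fun q => congrFun (hy q) i
  · refine (pi_tensor_bijective (M := A) T).1 (funext fun i => ?_)
    dsimp only
    change LinearMap.rTensor A (Pi.evalAlgHom S T i).toLinearMap _ =
      LinearMap.rTensor A (Pi.evalAlgHom S T i).toLinearMap 0
    rw [← defects_map, map_zero]
    convert h2 i q using 2
    · exact funext fun q => congrFun (hy q) i
    · exact funext fun q => congrFun (hx q) i

/-- Isomorphic over every strict henselization implies locally isomorphic. -/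
theorem locIsoEt_of_hull {t : LamInv R A lam} {t' : LamInv R A' lam}
    (h : ∀ p : PrimeSpectrum S, IsoT S lam (Henz21.H S (GPt p)) t t') : LocIsoEt S lam t t' := by
  obtain ⟨T, i1, i2, i3, i4, hT⟩ := exists_cover (S := S) (fun T _ _ => IsoT S lam T t t')
    (fun n T _ _ hT => isoT_pi S lam T hT) (fun p => exists_stage_isoT S lam (h p))
  exact ⟨T, i1, i2, i3, i4, hT⟩

theorem exists_algHom_hull (T : Type u) [CommRing T] [Algebra S T] [Algebra.Etale S T]
    [Module.FaithfullyFlat S T] (K : Type u) [Field K] [Algebra S K] [IsAlgClosed K] :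
    Nonempty (T →ₐ[S] Henz21.H S K) := by
  let W := K ⊗[S] T
  haveI : Nontrivial W := inferInstance
  obtain ⟨M, hM⟩ := Ideal.exists_maximal W
  letI := Ideal.Quotient.field M
  haveI : Module.Finite K (W ⧸ M) := finite_of_finite_type_of_isJacobsonRing K (W ⧸ M)
  let σ : T →ₐ[S] K :=
    (((IsAlgClosed.lift : (W ⧸ M) →ₐ[K] K).comp (Ideal.Quotient.mkₐ K M)).restrictScalars S).comp
      Algebra.TensorProduct.includeRight
  obtain ⟨f, -⟩ := Henz21.H.exists_algHom_of_pt T σ
  exact ⟨f⟩

theorem isoT_hull_of_locIsoEt {t : LamInv R A lam} {t' : LamInv R A' lam}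
    (h : LocIsoEt S lam t t') (p : PrimeSpectrum S) : IsoT S lam (Henz21.H S (GPt p)) t t' := by
  obtain ⟨T, _, _, _, _, f, hf⟩ := h
  obtain ⟨g⟩ := exists_algHom_hull S T (GPt p)
  exact IsoT.map S lam g ⟨f, hf⟩

end Glue

end Groth.Agent.AzInv26
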